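import Cfsg.Agent.Lib.SmallOrders.Range.KillsHigh

/-!
Orders with a Sylow intersection of index `p`.
-/

set_option autoImplicit false

namespace CfsgLib.SmallOrders.Range

open Subgroup MulAction CfsgLib.SmallGroups CfsgLib.KGroups.SmallOrders

variable {G : Type*} [Group G] [Finite G]

/-- A normal subgroup of index prime to `p` contains the Sylow `p`-subgroups. -/
theorem sylow_le_of_index_coprime {L : Type*} [Group L] [Finite L] {p : ℕ} [Fact p.Prime]
    {K : Subgroup L} [K.Normal] (R : Sylow p L) (hK : ¬ p ∣ K.index) : (R : Subgroup L) ≤ K := by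
  intro x hx
  obtain ⟨i, hi⟩ := R.isPGroup' ⟨x, hx⟩
  have h1 : orderOf (QuotientGroup.mk' K x) ∣ p ^ i := by
    refine (orderOf_map_dvd (QuotientGroup.mk' K) x).trans (orderOf_dvd_of_pow_eq_one ?_)
    simpa using congrArg Subtype.val hi
  have h2 : orderOf (QuotientGroup.mk' K x) ∣ K.index := index_eq_card K ▸ orderOf_dvd_natCard _
  have hco : Nat.Coprime (p ^ i) K.index :=
    ((Nat.Prime.coprime_iff_not_dvd (Fact.out : p.Prime)).2 hK).pow_left i
  have := Nat.eq_one_of_dvd_coprimes hco h1 h2
  rw [orderOf_eq_one_iff] at this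
  exact (QuotientGroup.eq_one_iff x).1 this

/-- If `K` contains every Sylow subgroup, `L` has no more of them than `K`. -/
theorem card_sylow_le_of_le {L : Type*} [Group L] [Finite L] {p : ℕ} [Fact p.Prime] {K : Subgroup L}
    (hle : ∀ R : Sylow p L, (R : Subgroup L) ≤ K) : Nat.card (Sylow p L) ≤ Nat.card (Sylow p K) := by
  refine Nat.card_le_card_of_injective (fun R => R.subtype (hle R)) fun R R' e => Sylow.ext ?_
  have := congrArg (fun Q : Sylow p K => (Q : Subgroup K).map K.subtype) e
  simpa only [Sylow.coe_subtype, map_subgroupOf_eq_of_le (hle R),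
    map_subgroupOf_eq_of_le (hle R')] using this

/-- A group of order `75` or `150` has one Sylow 5-subgroup. -/
theorem card_sylow_five_small {L : Type*} [Group L] [Finite L] (k : ℕ) (hk : k = 3 ∨ k = 6)
    (hL : Nat.card L = 5 ^ 2 * k) : Nat.card (Sylow 5 L) = 1 := by
  have := Fact.mk Nat.prime_five
  have := Fact.mk Nat.prime_two
  rcases hk with rfl | rfl
  · have h := card_sylow_mem hL (by norm_num)
    rw [show (Nat.divisors 3).filter (fun d => d % 5 = 1) = {1} by decide +kernel,
      Finset.mem_singleton] at h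
    exact h
  · obtain ⟨T⟩ := (inferInstance : Nonempty (Sylow 2 L))
    have hT : Nat.card ↥(T : Subgroup L) = 2 := by
      simpa using card_sylow_eq (a := 1) (m := 75) (hL.trans (by norm_num)) (by norm_num) T
    have hcyc : IsCyclic ↥(T : Subgroup L) := isCyclic_of_prime_card hT
    have hmf : (Nat.card L).minFac = 2 := (Nat.minFac_eq_two_iff _).2 (hL ▸ by norm_num)
    let K := (MonoidHom.transferSylow T (IsCyclic.normalizer_le_centralizer hmf hcyc)).ker
    have hc : IsComplement' K (T : Subgroup L) := IsCyclic.isComplement' hmf hcyc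
    have hK : Nat.card K = 5 ^ 2 * 3 := by
      have := hc.card_mul_card
      rw [hT, hL] at this
      omega
    have h := card_sylow_mem (G := K) hK (by norm_num)
    rw [show (Nat.divisors 3).filter (fun d => d % 5 = 1) = {1} by decide +kernel,
      Finset.mem_singleton] at h
    obtain ⟨S⟩ := (inferInstance : Nonempty (Sylow 5 L))
    have hsub : Subsingleton (Sylow 5 K) := (Nat.card_eq_one_iff_unique.1 h).1
    have hKidx : K.index = 2 := by rw [hc.symm.index_eq_card, hT]
    have hle : ∀ R : Sylow 5 L, (R : Subgroup L) ≤ K := fun R =>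
      sylow_le_of_index_coprime R (by rw [hKidx]; norm_num)
    refine le_antisymm ((card_sylow_le_of_le hle).trans h.le) ?_
    exact Finite.card_pos_iff.2 ⟨S⟩

variable [IsSimpleGroup G] (hG : ¬ IsMulCommutative G)
include hG

/-- A Sylow subgroup of order `p ^ 2` is not its own normalizer. -/
theorem normalizer_ne_self {p : ℕ} [hp : Fact p.Prime] (hdvd : p ∣ Nat.card G) (P : Sylow p G)
    (hP : Nat.card ↥(P : Subgroup G) = p ^ 2)
    (hN : Nat.card ↥(normalizer ((P : Subgroup G) : Set G)) = p ^ 2) : False := by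
  have hc : IsMulCommutative ↥(P : Subgroup G) := IsPGroup.isMulCommutative_of_card_eq_prime_sq hP
  refine not_normalizer_le_centralizer hG hdvd P ?_
  rw [← eq_of_le_of_card_ge le_normalizer (by rw [hP, hN])]
  exact Subgroup.le_centralizer _

/-- Order 5200. -/
theorem card_ne_5200 : Nat.card G ≠ 5200 := by
  intro h
  have : Fact (Nat.Prime 13) := ⟨by norm_num⟩
  have := Fact.mk Nat.prime_five
  obtain ⟨P⟩ := (inferInstance : Nonempty (Sylow 13 G))
  have hs := sylow_cases hG (p := 13) (a := 1) (m := 400) h (by norm_num) (by norm_num) (by norm_num)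
    (l := [40]) (by decide +kernel)
  rw [List.mem_singleton] at hs
  obtain ⟨c, e, hC, -, he, hep, hprod⟩ := prime_data hG h (p := 13) (m := 400) (by norm_num) (by norm_num) P
  rw [hs] at hprod
  have he' : e ≤ 12 := Nat.le_of_dvd (by norm_num) hep
  have hce : c * e = 10 := by omega
  have hc5 : 5 ∣ c := by interval_cases e <;> omega
  obtain ⟨g, z, -, hg, -, hz, hgz, -⟩ := exists_commuting (h.trans (by norm_num : 5200 = 13 * 400))
    (by norm_num) P hC hc5
  have hs5 := sylow_cases hG (p := 5) (a := 2) (m := 208) h (by norm_num) (by norm_num) (by norm_num)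
    (l := [16, 26]) (by decide +kernel)
  simp only [List.mem_cons, List.not_mem_nil, or_false] at hs5
  obtain ⟨M, hM, hi⟩ : ∃ M : Subgroup G, M ≠ ⊤ ∧ (M.index = 13 ∨ M.index = 26) := by
    rcases hs5 with hs5 | hs5
    · obtain ⟨-, -, M, k, s, -, hMtop, -, -, -, -, -, hprod', hfac, -, hsk, hs1, hps, hkd, -⟩ :=
        exists_local hG (p := 5) (a := 2) (m := 208) (h.trans (by norm_num)) (by norm_num) (by norm_num)
          (by rw [hs5]; norm_num)
      refine ⟨M, hMtop, Or.inl ?_⟩
      rw [hs5, show 208 / 16 = 13 by norm_num] at hkd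
      have hk : k ∈ Nat.divisors 208 := Nat.mem_divisors.2 ⟨Dvd.intro _ hprod', by norm_num⟩
      rw [h] at hfac
      have hks : s ∈ Nat.divisors k := Nat.mem_divisors.2 ⟨hsk, (Nat.pos_of_mem_divisors hk).ne'⟩
      have hlist : ∀ k ∈ Nat.divisors 208, ∀ s ∈ Nat.divisors k,
          s % 5 = 1 → 5 < s → 13 % (k / s) = 0 →
            (2 * 5200 ∣ (208 / k).factorial) → 208 / k = 13 := by decide +kernel
      have hk0 : M.index = 208 / k := by
        rw [← hprod', Nat.mul_div_cancel_left _ (Nat.pos_of_mem_divisors hk)]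
      rw [hk0] at hfac ⊢
      exact hlist k hk s hks hs1 hps (Nat.mod_eq_zero_of_dvd hkd) hfac
    · obtain ⟨R⟩ := (inferInstance : Nonempty (Sylow 5 G))
      exact ⟨_, normalizer_sylow_ne_top hG (h ▸ by norm_num) R,
        Or.inr (R.card_eq_index_normalizer.symm.trans hs5)⟩
  have hcard := M.card_mul_index
  rw [h] at hcard
  refine no_commuting hG hM (by rcases hi with hi | hi <;> rw [hi] at hcard <;> omega) hg hz hgz ?_
  rcases hi with hi | hi <;> rw [hi] <;> decide +kernel

/-- Order 4400. -/
theorem card_ne_4400 : Nat.card G ≠ 4400 := by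
  intro h
  have : Fact (Nat.Prime 11) := ⟨by norm_num⟩
  have := Fact.mk Nat.prime_five
  have := Fact.mk Nat.prime_two
  obtain ⟨P⟩ := (inferInstance : Nonempty (Sylow 11 G))
  have hs := sylow_cases hG (p := 11) (a := 1) (m := 400) h (by norm_num) (by norm_num) (by norm_num)
    (l := [100]) (by decide +kernel)
  rw [List.mem_singleton] at hs
  obtain ⟨c, e, hC, hN, he, hep, hprod⟩ := prime_data hG h (p := 11) (m := 400) (by norm_num) (by norm_num) P
  rw [hs] at hprod
  have he' : e ≤ 10 := Nat.le_of_dvd (by norm_num) hep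
  have hce : c * e = 4 := by omega
  have hc2 : 2 ∣ c := by interval_cases e <;> omega
  obtain ⟨g, z, -, hg, -, hz, hgz, -⟩ := exists_commuting (h.trans (by norm_num : 4400 = 11 * 400))
    (by norm_num) P hC hc2
  have hs5 := sylow_cases hG (p := 5) (a := 2) (m := 176) h (by norm_num) (by norm_num) (by norm_num)
    (l := [11, 16, 176]) (by decide +kernel)
  simp only [List.mem_cons, List.not_mem_nil, or_false] at hs5
  obtain ⟨R⟩ := (inferInstance : Nonempty (Sylow 5 G))
  have hR := card_sylow_mul_card_normalizer R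
  obtain ⟨M, hM, hi⟩ : ∃ M : Subgroup G, M ≠ ⊤ ∧ M.index = 11 := by
    rcases hs5 with hs5 | hs5 | hs5
    · exact ⟨_, normalizer_sylow_ne_top hG (h ▸ by norm_num) R,
        R.card_eq_index_normalizer.symm.trans hs5⟩
    · obtain ⟨Q, -, M, k, s, hQM, hMtop, -, -, -, -, hk', hprod', hfac, -, hsk, hs1, hps, -, -⟩ :=
        exists_local hG (p := 5) (a := 2) (m := 176) (h.trans (by norm_num)) (by norm_num) (by norm_num)
          (by rw [hs5]; norm_num)
      refine ⟨M, hMtop, ?_⟩
      rw [h] at hfac
      have hk : k ∈ Nat.divisors 176 := Nat.mem_divisors.2 ⟨Dvd.intro _ hprod', by norm_num⟩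
      have hks : s ∈ Nat.divisors k := Nat.mem_divisors.2 ⟨hsk, (Nat.pos_of_mem_divisors hk).ne'⟩
      have hlist : ∀ k ∈ Nat.divisors 176, ∀ s ∈ Nat.divisors k, s % 5 = 1 → 5 < s →
            (2 * 4400 ∣ (176 / k).factorial) → 176 / k = 11 ∨ k = 11 := by decide +kernel
      have hk0 : M.index = 176 / k := by
        rw [← hprod', Nat.mul_div_cancel_left _ (Nat.pos_of_mem_divisors hk)]
      rw [hk0] at hfac ⊢
      rcases hlist k hk s hks hs1 hps hfac with h' | rfl
      · exact h'
      exfalso
      -- a subgroup of order 275 normalises a Sylow 11-subgroup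
      have hM275 : Nat.card M = 11 ^ 1 * 25 := by rw [hk']; norm_num
      have h11 := card_sylow_mem (G := M) (p := 11) hM275 (by norm_num)
      rw [show (Nat.divisors 25).filter (fun d => d % 11 = 1) = {1} by decide +kernel,
        Finset.mem_singleton] at h11
      have hsub : Subsingleton (Sylow 11 M) := (Nat.card_eq_one_iff_unique.1 h11).1
      obtain ⟨S⟩ := (inferInstance : Nonempty (Sylow 11 M))
      obtain ⟨S', hS'⟩ := (S.isPGroup'.map M.subtype).exists_le_sylow
      have hS'card : Nat.card ↥(S' : Subgroup G) = 11 := by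
        simpa using card_sylow_eq (a := 1) (m := 400) (h.trans (by norm_num)) (by norm_num) S'
      have hScard : Nat.card ↥(S : Subgroup M) = 11 := by
        simpa using card_sylow_eq (a := 1) hM275 (by norm_num) S
      have heq : (S : Subgroup M).map M.subtype = (S' : Subgroup G) :=
        eq_of_le_of_card_ge hS' (by rw [card_subtype, hScard, hS'card])
      have hle : M ≤ normalizer ((S' : Subgroup G) : Set G) := by
        intro x hx
        have hxS : (⟨x, hx⟩ : M) ∈ normalizer ((S : Subgroup M) : Set M) := by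
          rw [normalizer_eq_top_iff.2 (Sylow.normal_of_subsingleton S)]
          exact mem_top _
        rw [← heq]
        exact le_normalizer_map M.subtype ⟨_, hxS, rfl⟩
      have h275 := card_dvd_of_le hle
      have hN' := card_sylow_mul_card_normalizer S'
      rw [hs, h] at hN'
      rw [hM275] at h275
      omega
    · exfalso
      rw [hs5, h] at hR
      refine normalizer_ne_self hG (h ▸ by norm_num) R ?_ (by omega)
      exact card_sylow_eq (a := 2) (m := 176) (h.trans (by norm_num)) (by norm_num) R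
  have hcard := M.card_mul_index
  rw [h, hi] at hcard
  refine no_commuting hG hM (by omega) hg hz hgz ?_
  rw [hi]
  decide +kernel

/-- Order 5600. -/
theorem card_ne_5600 : Nat.card G ≠ 5600 := by
  intro h
  have := Fact.mk Nat.prime_five
  have := Fact.mk Nat.prime_two
  have hs := sylow_cases hG (p := 5) (a := 2) (m := 224) h (by norm_num) (by norm_num) (by norm_num)
    (l := [16, 56]) (by decide +kernel)
  simp only [List.mem_cons, List.not_mem_nil, or_false] at hs
  obtain ⟨Q, D, M, k, s, hQM, hMtop, -, -, -, -, hk', hprod', hfac, hsN, hsk, hs1, hps, hkd, -⟩ :=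
    exists_local hG (p := 5) (a := 2) (m := 224) (h.trans (by norm_num)) (by norm_num) (by norm_num)
      (by rcases hs with hs | hs <;> rw [hs] <;> norm_num)
  rw [h] at hfac
  have hk : k ∈ Nat.divisors 224 := Nat.mem_divisors.2 ⟨Dvd.intro _ hprod', by norm_num⟩
  have hks : s ∈ Nat.divisors k := Nat.mem_divisors.2 ⟨hsk, (Nat.pos_of_mem_divisors hk).ne'⟩
  have hlist : ∀ k ∈ Nat.divisors 224, ∀ s ∈ Nat.divisors k, s % 5 = 1 → 5 < s →
      (2 * 5600 ∣ (224 / k).factorial) → k = 16 ∧ s = 16 := by decide +kernel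
  have hk0 : M.index = 224 / k := by
    rw [← hprod', Nat.mul_div_cancel_left _ (Nat.pos_of_mem_divisors hk)]
  rw [hk0] at hfac
  obtain ⟨rfl, rfl⟩ := hlist k hk s hks hs1 hps hfac
  have hQ : Nat.card ↥(Q : Subgroup G) = 5 ^ 2 :=
    card_sylow_eq (a := 2) (m := 224) (h.trans (by norm_num)) (by norm_num) Q
  obtain ⟨W, hWM, hMW, hW⟩ := exists_normal_complement Q hQM
    (IsPGroup.isMulCommutative_of_card_eq_prime_sq hQ)
    (le_of_eq (eq_of_le_of_card_ge (le_inf le_normalizer hQM) (by rw [hQ]; omega)).symm)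
  have hW16 : Nat.card W = 2 ^ 4 := by rw [hQ, hk'] at hW; omega
  have hlt := lt_normalizer_of_pGroup (q := 2) (b := 4) hMW hW16 (h ▸ by norm_num) (hk' ▸ by norm_num)
  have hne : normalizer (W : Set G) ≠ ⊤ := normalizer_ne_top
    (fun he => by rw [he, card_bot] at hW16; norm_num at hW16)
    (fun he => hMtop (top_le_iff.1 (he ▸ hWM)))
  obtain ⟨hd, hlti, hfac'⟩ := index_lt hG hlt hne
  rw [h] at hfac'
  rw [hk0] at hd hlti
  have : (normalizer (W : Set G)).index ≤ 7 := by
    rcases (Nat.le.dest (Nat.le_of_dvd (by norm_num) hd)) with ⟨d, hd'⟩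
    have h14 : (normalizer (W : Set G)).index ∈ Nat.divisors 14 := Nat.mem_divisors.2 ⟨hd, by norm_num⟩
    rw [show Nat.divisors 14 = {1, 2, 7, 14} by decide +kernel] at h14
    simp only [Finset.mem_insert, Finset.mem_singleton] at h14
    norm_num at hlti
    omega
  exact absurd (hfac'.trans (Nat.factorial_dvd_factorial this)) (by decide +kernel)

/-- Order 5880. -/
theorem card_ne_5880 : Nat.card G ≠ 5880 := by
  intro h
  have : Fact (Nat.Prime 7) := ⟨by norm_num⟩
  have hs := sylow_cases hG (p := 7) (a := 2) (m := 120) h (by norm_num) (by norm_num) (by norm_num)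
    (l := [15, 120]) (by decide +kernel)
  simp only [List.mem_cons, List.not_mem_nil, or_false] at hs
  have hn : Nat.card G = 7 ^ 2 * 120 := h.trans (by norm_num)
  rcases hs with hs | hs
  · obtain ⟨Q, D, M, k, s, hQM, hMtop, hDQ, -, hD, hMD, hk', hprod', hfac, hsN, hsk, hs1, hps, -, hsM⟩ :=
      exists_local hG hn (by norm_num) (by norm_num) (by rw [hs]; norm_num)
    rw [h] at hfac
    have hk : k ∈ Nat.divisors 120 := Nat.mem_divisors.2 ⟨Dvd.intro _ hprod', by norm_num⟩
    have hks : s ∈ Nat.divisors k := Nat.mem_divisors.2 ⟨hsk, (Nat.pos_of_mem_divisors hk).ne'⟩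
    have hlist : ∀ k ∈ Nat.divisors 120, ∀ s ∈ Nat.divisors k, s % 7 = 1 → 7 < s →
        (2 * 5880 ∣ (120 / k).factorial) → k = 8 ∧ s = 8 := by decide +kernel
    rw [← Nat.mul_div_cancel_left M.index (Nat.pos_of_mem_divisors hk), hprod'] at hfac
    obtain ⟨rfl, rfl⟩ := hlist k hk s hks hs1 hps hfac
    have hQ : Nat.card ↥(Q : Subgroup G) = 7 ^ 2 := card_sylow_eq hn (by norm_num) Q
    have hb := orbit_bound Q (D := D) (by omega) hDQ hQ hQM hMD
    rw [hsM, hs] at hb
    have hrel : M.relIndex (normalizer ((Q : Subgroup G) : Set G)) = 8 := by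
      have hN := card_sylow_mul_card_normalizer Q
      rw [hs, h] at hN
      have h1 := (M.subgroupOf (normalizer ((Q : Subgroup G) : Set G))).card_mul_index
      rw [← inf_subgroupOf_right, Nat.card_congr (subgroupOfEquivOfLe inf_le_right).toEquiv] at h1
      rw [hk', inf_comm] at hsN
      rw [relIndex, ← inf_subgroupOf_right]
      have h49 : Nat.card ↥(M ⊓ normalizer ((Q : Subgroup G) : Set G) : Subgroup G) = 49 := by omega
      rw [h49] at h1
      omega
    rw [hrel] at hb
    omega
  · obtain ⟨R⟩ := (inferInstance : Nonempty (Sylow 7 G))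
    have hR := card_sylow_mul_card_normalizer R
    rw [hs, h] at hR
    exact normalizer_ne_self hG (h ▸ by norm_num) R (card_sylow_eq hn (by norm_num) R) (by omega)

/-- Order 4200. -/
theorem card_ne_4200 : Nat.card G ≠ 4200 := by
  intro h
  have := Fact.mk Nat.prime_five
  have hs := sylow_cases hG (p := 5) (a := 2) (m := 168) h (by norm_num) (by norm_num) (by norm_num)
    (l := [21, 56]) (by decide +kernel)
  simp only [List.mem_cons, List.not_mem_nil, or_false] at hs
  rcases hs with hs | hs
  · exact TwentyOne.card_sylow_ne_twentyOne hs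
  obtain ⟨-, -, M, k, s, -, -, -, -, -, -, hk', hprod', hfac, -, hsk, hs1, hps, hkd, hsM⟩ :=
    exists_local hG (p := 5) (a := 2) (m := 168) (h.trans (by norm_num)) (by norm_num) (by norm_num)
      (by rw [hs]; norm_num)
  rw [h] at hfac
  rw [hs, show 168 / 56 = 3 by norm_num] at hkd
  have hk : k ∈ Nat.divisors 168 := Nat.mem_divisors.2 ⟨Dvd.intro _ hprod', by norm_num⟩
  have hks : s ∈ Nat.divisors k := Nat.mem_divisors.2 ⟨hsk, (Nat.pos_of_mem_divisors hk).ne'⟩
  have hlist : ∀ k ∈ Nat.divisors 168, ∀ s ∈ Nat.divisors k, s % 5 = 1 → 5 < s → 3 % (k / s) = 0 →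
      (2 * 4200 ∣ (168 / k).factorial) → k = 6 := by decide +kernel
  rw [← Nat.mul_div_cancel_left M.index (Nat.pos_of_mem_divisors hk), hprod'] at hfac
  obtain rfl := hlist k hk s hks hs1 hps (Nat.mod_eq_zero_of_dvd hkd) hfac
  have := card_sylow_five_small 6 (Or.inr rfl) hk'
  omega

/-- Order 4800. -/
theorem card_ne_4800 : Nat.card G ≠ 4800 := by
  intro h
  have := Fact.mk Nat.prime_five
  have := Fact.mk Nat.prime_two
  have hs := sylow_cases hG (p := 5) (a := 2) (m := 192) h (by norm_num) (by norm_num) (by norm_num)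
    (l := [16, 96]) (by decide +kernel)
  simp only [List.mem_cons, List.not_mem_nil, or_false] at hs
  have hn : Nat.card G = 5 ^ 2 * 192 := h.trans (by norm_num)
  obtain ⟨Q, D, M, k, s, hQM, hMtop, hDQ, hDne, hD, hMD, hk', hprod', hfac, hsN, hsk, hs1, hps, -, hsM⟩ :=
    exists_local hG hn (by norm_num) (by norm_num)
      (by rcases hs with hs | hs <;> rw [hs] <;> norm_num)
  rw [h] at hfac
  have hk : k ∈ Nat.divisors 192 := Nat.mem_divisors.2 ⟨Dvd.intro _ hprod', by norm_num⟩
  have hks : s ∈ Nat.divisors k := Nat.mem_divisors.2 ⟨hsk, (Nat.pos_of_mem_divisors hk).ne'⟩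
  have hlist : ∀ k ∈ Nat.divisors 192, ∀ s ∈ Nat.divisors k, s % 5 = 1 → 5 < s →
      (2 * 4800 ∣ (192 / k).factorial) → k = 16 ∧ s = 16 ∨ k = 12 ∧ s = 6 ∨ k = 6 := by decide +kernel
  have hk0 : M.index = 192 / k := by
    rw [← hprod', Nat.mul_div_cancel_left _ (Nat.pos_of_mem_divisors hk)]
  rw [hk0] at hfac
  have hQ : Nat.card ↥(Q : Subgroup G) = 5 ^ 2 := card_sylow_eq hn (by norm_num) Q
  rcases hlist k hk s hks hs1 hps hfac with ⟨rfl, rfl⟩ | ⟨rfl, rfl⟩ | rfl
  · obtain ⟨W, hWM, hMW, hW⟩ := exists_normal_complement Q hQM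
      (IsPGroup.isMulCommutative_of_card_eq_prime_sq hQ)
      (le_of_eq (eq_of_le_of_card_ge (le_inf le_normalizer hQM) (by rw [hQ]; omega)).symm)
    have hW16 : Nat.card W = 2 ^ 4 := by rw [hQ, hk'] at hW; omega
    have hlt := lt_normalizer_of_pGroup (q := 2) (b := 4) hMW hW16 (h ▸ by norm_num) (hk' ▸ by norm_num)
    have hne : normalizer (W : Set G) ≠ ⊤ := normalizer_ne_top
      (fun he => by rw [he, card_bot] at hW16; norm_num at hW16)
      (fun he => hMtop (top_le_iff.1 (he ▸ hWM)))
    obtain ⟨hd, hlti, hfac'⟩ := index_lt hG hlt hne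
    rw [h] at hfac'
    rw [hk0] at hd hlti
    have h12 : (normalizer (W : Set G)).index ∈ Nat.divisors 12 := Nat.mem_divisors.2 ⟨hd, by norm_num⟩
    rw [show Nat.divisors 12 = {1, 2, 3, 4, 6, 12} by decide +kernel] at h12
    simp only [Finset.mem_insert, Finset.mem_singleton] at h12
    norm_num at hlti
    have : (normalizer (W : Set G)).index ≤ 6 := by omega
    exact absurd (hfac'.trans (Nat.factorial_dvd_factorial this)) (by decide +kernel)
  · have hN := card_sylow_mul_card_normalizer Q
    rcases hs with hs | hs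
    · have hb := orbit_bound Q (D := D) (by omega) hDQ hQ hQM hMD
      rw [hsM, hs] at hb
      have hrel : M.relIndex (normalizer ((Q : Subgroup G) : Set G)) = 6 := by
        rw [hs, h] at hN
        have h1 := (M.subgroupOf (normalizer ((Q : Subgroup G) : Set G))).card_mul_index
        rw [← inf_subgroupOf_right, Nat.card_congr (subgroupOfEquivOfLe inf_le_right).toEquiv] at h1
        rw [hk', inf_comm] at hsN
        rw [relIndex, ← inf_subgroupOf_right]
        have h50 : Nat.card ↥(M ⊓ normalizer ((Q : Subgroup G) : Set G) : Subgroup G) = 50 := by omega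
        rw [h50] at h1
        omega
      rw [hrel] at hb
      omega
    · rw [hs, h] at hN
      have hNM : normalizer ((Q : Subgroup G) : Set G) ≤ M := by
        rw [← eq_of_le_of_card_ge (inf_le_left : normalizer ((Q : Subgroup G) : Set G) ⊓ M ≤ _) (by omega)]
        exact inf_le_right
      have hD5 : Nat.card D = 5 := by omega
      let φ : M →* MulAut ↥D := D.normalizerMonoidHom.comp (inclusion hMD.ge)
      have hj4 : φ.ker.index ∣ 4 := by
        rw [index_ker]
        refine (card_subgroup_dvd_card _).trans (dvd_of_eq ?_)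
        have : IsCyclic ↥D := isCyclic_of_prime_card hD5
        rw [IsCyclic.card_mulAut, hD5, Nat.totient_prime Nat.prime_five]
      have hj : φ.ker.index = 1 := by
        by_contra hj1
        have hmem : φ.ker.index ∈ Nat.divisors 4 := Nat.mem_divisors.2 ⟨hj4, by norm_num⟩
        rw [show Nat.divisors 4 = {1, 2, 4} by decide +kernel] at hmem
        simp only [Finset.mem_insert, Finset.mem_singleton] at hmem
        have hK := φ.ker.card_mul_index
        rw [hk'] at hK
        have hKn : ∃ k', (k' = 3 ∨ k' = 6) ∧ Nat.card φ.ker = 5 ^ 2 * k' := by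
          rcases hmem with hm | hm | hm
          · exact absurd hm hj1
          · exact ⟨6, Or.inr rfl, by rw [hm] at hK; omega⟩
          · exact ⟨3, Or.inl rfl, by rw [hm] at hK; omega⟩
        obtain ⟨k', hk'', hKc⟩ := hKn
        have h1 := card_sylow_five_small k' hk'' hKc
        have h2 := card_sylow_le_of_le (p := 5) (K := φ.ker) fun R => sylow_le_of_index_coprime R
          (fun hd => absurd (hd.trans hj4) (by norm_num))
        omega
      have hker : φ.ker = ⊤ := index_eq_one.1 hj
      obtain ⟨⟨x, hxD⟩, hx⟩ := exists_prime_orderOf_dvd_card' (G := ↥D) 5 (dvd_of_eq hD5.symm)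
      have hx5 : orderOf x = 5 := (Subgroup.orderOf_coe _).trans hx
      have := eq_one_of_normalizer_centralizes hG Q (IsPGroup.isMulCommutative_of_card_eq_prime_sq hQ)
        (hDQ hxD) (x := x) fun g hg => by
          have hmem : (⟨g, hNM hg⟩ : M) ∈ φ.ker := hker ▸ mem_top _
          have := congrArg Subtype.val (DFunLike.congr_fun (MonoidHom.mem_ker.1 hmem) (⟨x, hxD⟩ : ↥D))
          rw [mem_centralizer_singleton_iff]
          exact mul_inv_eq_iff_eq_mul.1 this
      rw [this, orderOf_one] at hx5
      omega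
  · have := card_sylow_five_small 6 (Or.inr rfl) hk'
    omega

end CfsgLib.SmallOrders.Range
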