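import Cfsg.Agent.Lib.SmallOrders.Range.Cert

/-!
Certificates for the orders 1093 to 6232.
-/

set_option autoImplicit false

namespace CfsgLib.SmallOrders.Range

/-- Certificates for orders 1093 to 1292. -/
def table0 : List (Nat × Cert) := [
  (1093, .pq 1093 1 2 0), (1094, .pq 2 1 547 1), (1095, .big 73), (1096, .pq 2 3 137 1),
  (1097, .pq 1097 1 2 0), (1098, .two), (1099, .pq 7 1 157 1), (1100, .two),
  (1101, .pq 3 1 367 1), (1102, .two), (1103, .pq 1103 1 2 0), (1104, .big 23), (1105, .big 17),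
  (1106, .two), (1107, .pq 3 3 41 1), (1108, .pq 2 2 277 1), (1109, .pq 1109 1 2 0), (1110, .two),
  (1111, .pq 11 1 101 1), (1112, .pq 2 3 139 1), (1113, .big 53), (1114, .pq 2 1 557 1),
  (1115, .pq 5 1 223 1), (1116, .two), (1117, .pq 1117 1 2 0), (1118, .two),
  (1119, .pq 3 1 373 1), (1120, .prq 5 7 2 5), (1121, .pq 19 1 59 1), (1122, .two),
  (1123, .pq 1123 1 2 0), (1124, .pq 2 2 281 1), (1125, .pq 3 2 5 3), (1126, .pq 2 1 563 1),
  (1127, .pq 7 2 23 1), (1128, .two), (1129, .pq 1129 1 2 0), (1130, .two), (1131, .big 29),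
  (1132, .pq 2 2 283 1), (1133, .pq 11 1 103 1), (1134, .two), (1135, .pq 5 1 227 1),
  (1136, .pq 2 4 71 1), (1137, .pq 3 1 379 1), (1138, .pq 2 1 569 1), (1139, .pq 17 1 67 1),
  (1140, .two), (1141, .pq 7 1 163 1), (1142, .pq 2 1 571 1), (1143, .pq 3 2 127 1), (1144, .two),
  (1145, .pq 5 1 229 1), (1146, .two), (1147, .pq 31 1 37 1), (1148, .two), (1149, .pq 3 1 383 1),
  (1150, .two), (1151, .pq 1151 1 2 0), (1152, .pq 2 7 3 2), (1153, .pq 1153 1 2 0),
  (1154, .pq 2 1 577 1), (1155, .big 11), (1156, .pq 2 2 17 2), (1157, .pq 13 1 89 1),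
  (1158, .two), (1159, .pq 19 1 61 1), (1160, .two), (1161, .pq 3 3 43 1), (1162, .two),
  (1163, .pq 1163 1 2 0), (1164, .two), (1165, .pq 5 1 233 1), (1166, .two),
  (1167, .pq 3 1 389 1), (1168, .pq 2 4 73 1), (1169, .pq 7 1 167 1), (1170, .two),
  (1171, .pq 1171 1 2 0), (1172, .pq 2 2 293 1), (1173, .big 23), (1174, .pq 2 1 587 1),
  (1175, .pq 5 2 47 1), (1176, .syl 7 2 24), (1177, .pq 11 1 107 1), (1178, .two),
  (1179, .pq 3 2 131 1), (1180, .two), (1181, .pq 1181 1 2 0), (1182, .two), (1183, .pq 7 1 13 2),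
  (1184, .pq 2 5 37 1), (1185, .big 79), (1186, .pq 2 1 593 1), (1187, .pq 1187 1 2 0),
  (1188, .two), (1189, .pq 29 1 41 1), (1190, .two), (1191, .pq 3 1 397 1), (1192, .pq 2 3 149 1),
  (1193, .pq 1193 1 2 0), (1194, .two), (1195, .pq 5 1 239 1), (1196, .two), (1197, .big 19),
  (1198, .pq 2 1 599 1), (1199, .pq 11 1 109 1), (1200, .open'), (1201, .pq 1201 1 2 0),
  (1202, .pq 2 1 601 1), (1203, .pq 3 1 401 1), (1204, .two), (1205, .pq 5 1 241 1), (1206, .two),
  (1207, .pq 17 1 71 1), (1208, .pq 2 3 151 1), (1209, .big 31), (1210, .two),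
  (1211, .pq 7 1 173 1), (1212, .two), (1213, .pq 1213 1 2 0), (1214, .pq 2 1 607 1),
  (1215, .pq 3 5 5 1), (1216, .pq 2 6 19 1), (1217, .pq 1217 1 2 0), (1218, .two),
  (1219, .pq 23 1 53 1), (1220, .two), (1221, .big 37), (1222, .two), (1223, .pq 1223 1 2 0),
  (1224, .two), (1225, .pq 5 2 7 2), (1226, .pq 2 1 613 1), (1227, .pq 3 1 409 1),
  (1228, .pq 2 2 307 1), (1229, .pq 1229 1 2 0), (1230, .two), (1231, .pq 1231 1 2 0),
  (1232, .big 11), (1233, .pq 3 2 137 1), (1234, .pq 2 1 617 1), (1235, .big 19), (1236, .two),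
  (1237, .pq 1237 1 2 0), (1238, .pq 2 1 619 1), (1239, .big 59), (1240, .two),
  (1241, .pq 17 1 73 1), (1242, .two), (1243, .pq 11 1 113 1), (1244, .pq 2 2 311 1),
  (1245, .big 83), (1246, .two), (1247, .pq 29 1 43 1), (1248, .big 13), (1249, .pq 1249 1 2 0),
  (1250, .pq 2 1 5 4), (1251, .pq 3 2 139 1), (1252, .pq 2 2 313 1), (1253, .pq 7 1 179 1),
  (1254, .two), (1255, .pq 5 1 251 1), (1256, .pq 2 3 157 1), (1257, .pq 3 1 419 1), (1258, .two),
  (1259, .pq 1259 1 2 0), (1260, .two), (1261, .pq 13 1 97 1), (1262, .pq 2 1 631 1),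
  (1263, .pq 3 1 421 1), (1264, .pq 2 4 79 1), (1265, .big 23), (1266, .two),
  (1267, .pq 7 1 181 1), (1268, .pq 2 2 317 1), (1269, .pq 3 3 47 1), (1270, .two),
  (1271, .pq 31 1 41 1), (1272, .two), (1273, .pq 19 1 67 1), (1274, .two), (1275, .big 17),
  (1276, .two), (1277, .pq 1277 1 2 0), (1278, .two), (1279, .pq 1279 1 2 0), (1280, .pq 2 8 5 1),
  (1281, .big 61), (1282, .pq 2 1 641 1), (1283, .pq 1283 1 2 0), (1284, .two),
  (1285, .pq 5 1 257 1), (1286, .pq 2 1 643 1), (1287, .big 13), (1288, .big 23),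
  (1289, .pq 1289 1 2 0), (1290, .two), (1291, .pq 1291 1 2 0), (1292, .two)]

theorem table0_ok : table0.all (fun x => check x.1 x.2) = true := by decide +kernel

/-- Certificates for orders 1293 to 1492. -/
def table1 : List (Nat × Cert) := [
  (1293, .pq 3 1 431 1), (1294, .pq 2 1 647 1), (1295, .big 37), (1296, .pq 2 4 3 4),
  (1297, .pq 1297 1 2 0), (1298, .two), (1299, .pq 3 1 433 1), (1300, .two),
  (1301, .pq 1301 1 2 0), (1302, .two), (1303, .pq 1303 1 2 0), (1304, .pq 2 3 163 1),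
  (1305, .big 29), (1306, .pq 2 1 653 1), (1307, .pq 1307 1 2 0), (1308, .two), (1309, .big 17),
  (1310, .two), (1311, .big 23), (1312, .pq 2 5 41 1), (1313, .pq 13 1 101 1), (1314, .two),
  (1315, .pq 5 1 263 1), (1316, .two), (1317, .pq 3 1 439 1), (1318, .pq 2 1 659 1),
  (1319, .pq 1319 1 2 0), (1320, .two), (1321, .pq 1321 1 2 0), (1322, .pq 2 1 661 1),
  (1323, .pq 3 3 7 2), (1324, .pq 2 2 331 1), (1325, .pq 5 2 53 1), (1326, .two),
  (1327, .pq 1327 1 2 0), (1328, .pq 2 4 83 1), (1329, .pq 3 1 443 1), (1330, .two),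
  (1331, .pq 11 3 2 0), (1332, .two), (1333, .pq 31 1 43 1), (1334, .two), (1335, .big 89),
  (1336, .pq 2 3 167 1), (1337, .pq 7 1 191 1), (1338, .two), (1339, .pq 13 1 103 1),
  (1340, .two), (1341, .pq 3 2 149 1), (1342, .two), (1343, .pq 17 1 79 1), (1344, .prq 3 7 2 6),
  (1345, .pq 5 1 269 1), (1346, .pq 2 1 673 1), (1347, .pq 3 1 449 1), (1348, .pq 2 2 337 1),
  (1349, .pq 19 1 71 1), (1350, .two), (1351, .pq 7 1 193 1), (1352, .pq 2 3 13 2),
  (1353, .big 41), (1354, .pq 2 1 677 1), (1355, .pq 5 1 271 1), (1356, .two),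
  (1357, .pq 23 1 59 1), (1358, .two), (1359, .pq 3 2 151 1), (1360, .big 17),
  (1361, .pq 1361 1 2 0), (1362, .two), (1363, .pq 29 1 47 1), (1364, .two), (1365, .big 13),
  (1366, .pq 2 1 683 1), (1367, .pq 1367 1 2 0), (1368, .two), (1369, .pq 37 2 2 0), (1370, .two),
  (1371, .pq 3 1 457 1), (1372, .pq 2 2 7 3), (1373, .pq 1373 1 2 0), (1374, .two),
  (1375, .pq 5 3 11 1), (1376, .pq 2 5 43 1), (1377, .pq 3 4 17 1), (1378, .two),
  (1379, .pq 7 1 197 1), (1380, .two), (1381, .pq 1381 1 2 0), (1382, .pq 2 1 691 1),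
  (1383, .pq 3 1 461 1), (1384, .pq 2 3 173 1), (1385, .pq 5 1 277 1), (1386, .two),
  (1387, .pq 19 1 73 1), (1388, .pq 2 2 347 1), (1389, .pq 3 1 463 1), (1390, .two),
  (1391, .pq 13 1 107 1), (1392, .big 29), (1393, .pq 7 1 199 1), (1394, .two), (1395, .big 31),
  (1396, .pq 2 2 349 1), (1397, .pq 11 1 127 1), (1398, .two), (1399, .pq 1399 1 2 0),
  (1400, .open'), (1401, .pq 3 1 467 1), (1402, .pq 2 1 701 1), (1403, .pq 23 1 61 1),
  (1404, .two), (1405, .pq 5 1 281 1), (1406, .two), (1407, .big 67), (1408, .pq 2 7 11 1),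
  (1409, .pq 1409 1 2 0), (1410, .two), (1411, .pq 17 1 83 1), (1412, .pq 2 2 353 1),
  (1413, .pq 3 2 157 1), (1414, .two), (1415, .pq 5 1 283 1), (1416, .two),
  (1417, .pq 13 1 109 1), (1418, .pq 2 1 709 1), (1419, .big 43), (1420, .two),
  (1421, .pq 7 2 29 1), (1422, .two), (1423, .pq 1423 1 2 0), (1424, .pq 2 4 89 1),
  (1425, .big 19), (1426, .two), (1427, .pq 1427 1 2 0), (1428, .two), (1429, .pq 1429 1 2 0),
  (1430, .two), (1431, .pq 3 3 53 1), (1432, .pq 2 3 179 1), (1433, .pq 1433 1 2 0), (1434, .two),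
  (1435, .big 41), (1436, .pq 2 2 359 1), (1437, .pq 3 1 479 1), (1438, .pq 2 1 719 1),
  (1439, .pq 1439 1 2 0), (1440, .selfC 5 2 5), (1441, .pq 11 1 131 1), (1442, .two),
  (1443, .big 37), (1444, .pq 2 2 19 2), (1445, .pq 5 1 17 2), (1446, .two),
  (1447, .pq 1447 1 2 0), (1448, .pq 2 3 181 1), (1449, .big 23), (1450, .two),
  (1451, .pq 1451 1 2 0), (1452, .two), (1453, .pq 1453 1 2 0), (1454, .pq 2 1 727 1),
  (1455, .big 97), (1456, .big 13), (1457, .pq 31 1 47 1), (1458, .pq 2 1 3 6),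
  (1459, .pq 1459 1 2 0), (1460, .two), (1461, .pq 3 1 487 1), (1462, .two), (1463, .big 19),
  (1464, .two), (1465, .pq 5 1 293 1), (1466, .pq 2 1 733 1), (1467, .pq 3 2 163 1),
  (1468, .pq 2 2 367 1), (1469, .pq 13 1 113 1), (1470, .two), (1471, .pq 1471 1 2 0),
  (1472, .pq 2 6 23 1), (1473, .pq 3 1 491 1), (1474, .two), (1475, .pq 5 2 59 1), (1476, .two),
  (1477, .pq 7 1 211 1), (1478, .pq 2 1 739 1), (1479, .big 29), (1480, .two),
  (1481, .pq 1481 1 2 0), (1482, .two), (1483, .pq 1483 1 2 0), (1484, .two),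
  (1485, .prq 5 11 3 3), (1486, .pq 2 1 743 1), (1487, .pq 1487 1 2 0), (1488, .big 31),
  (1489, .pq 1489 1 2 0), (1490, .two), (1491, .big 71), (1492, .pq 2 2 373 1)]

theorem table1_ok : table1.all (fun x => check x.1 x.2) = true := by decide +kernel

/-- Certificates for orders 1493 to 1692. -/
def table2 : List (Nat × Cert) := [
  (1493, .pq 1493 1 2 0), (1494, .two), (1495, .big 23), (1496, .two), (1497, .pq 3 1 499 1),
  (1498, .two), (1499, .pq 1499 1 2 0), (1500, .two), (1501, .pq 19 1 79 1),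
  (1502, .pq 2 1 751 1), (1503, .pq 3 2 167 1), (1504, .pq 2 5 47 1), (1505, .big 43),
  (1506, .two), (1507, .pq 11 1 137 1), (1508, .two), (1509, .pq 3 1 503 1), (1510, .two),
  (1511, .pq 1511 1 2 0), (1512, .open'), (1513, .pq 17 1 89 1), (1514, .pq 2 1 757 1),
  (1515, .big 101), (1516, .pq 2 2 379 1), (1517, .pq 37 1 41 1), (1518, .two),
  (1519, .pq 7 2 31 1), (1520, .big 19), (1521, .pq 3 2 13 2), (1522, .pq 2 1 761 1),
  (1523, .pq 1523 1 2 0), (1524, .two), (1525, .pq 5 2 61 1), (1526, .two), (1527, .pq 3 1 509 1),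
  (1528, .pq 2 3 191 1), (1529, .pq 11 1 139 1), (1530, .two), (1531, .pq 1531 1 2 0),
  (1532, .pq 2 2 383 1), (1533, .big 73), (1534, .two), (1535, .pq 5 1 307 1),
  (1536, .pq 2 9 3 1), (1537, .pq 29 1 53 1), (1538, .pq 2 1 769 1), (1539, .pq 3 4 19 1),
  (1540, .two), (1541, .pq 23 1 67 1), (1542, .two), (1543, .pq 1543 1 2 0),
  (1544, .pq 2 3 193 1), (1545, .big 103), (1546, .pq 2 1 773 1), (1547, .big 17), (1548, .two),
  (1549, .pq 1549 1 2 0), (1550, .two), (1551, .big 47), (1552, .pq 2 4 97 1),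
  (1553, .pq 1553 1 2 0), (1554, .two), (1555, .pq 5 1 311 1), (1556, .pq 2 2 389 1),
  (1557, .pq 3 2 173 1), (1558, .two), (1559, .pq 1559 1 2 0), (1560, .two),
  (1561, .pq 7 1 223 1), (1562, .two), (1563, .pq 3 1 521 1), (1564, .two), (1565, .pq 5 1 313 1),
  (1566, .two), (1567, .pq 1567 1 2 0), (1568, .pq 2 5 7 2), (1569, .pq 3 1 523 1), (1570, .two),
  (1571, .pq 1571 1 2 0), (1572, .two), (1573, .pq 11 2 13 1), (1574, .pq 2 1 787 1),
  (1575, .open'), (1576, .pq 2 3 197 1), (1577, .pq 19 1 83 1), (1578, .two),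
  (1579, .pq 1579 1 2 0), (1580, .two), (1581, .big 31), (1582, .two), (1583, .pq 1583 1 2 0),
  (1584, .quot 11 2 4 9), (1585, .pq 5 1 317 1), (1586, .two), (1587, .pq 3 1 23 2),
  (1588, .pq 2 2 397 1), (1589, .pq 7 1 227 1), (1590, .two), (1591, .pq 37 1 43 1),
  (1592, .pq 2 3 199 1), (1593, .pq 3 3 59 1), (1594, .pq 2 1 797 1), (1595, .big 29),
  (1596, .two), (1597, .pq 1597 1 2 0), (1598, .two), (1599, .big 41), (1600, .pq 2 6 5 2),
  (1601, .pq 1601 1 2 0), (1602, .two), (1603, .pq 7 1 229 1), (1604, .pq 2 2 401 1),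
  (1605, .big 107), (1606, .two), (1607, .pq 1607 1 2 0), (1608, .two), (1609, .pq 1609 1 2 0),
  (1610, .two), (1611, .pq 3 2 179 1), (1612, .two), (1613, .pq 1613 1 2 0), (1614, .two),
  (1615, .big 19), (1616, .pq 2 4 101 1), (1617, .prq 3 11 7 2), (1618, .pq 2 1 809 1),
  (1619, .pq 1619 1 2 0), (1620, .two), (1621, .pq 1621 1 2 0), (1622, .pq 2 1 811 1),
  (1623, .pq 3 1 541 1), (1624, .big 29), (1625, .pq 5 3 13 1), (1626, .two),
  (1627, .pq 1627 1 2 0), (1628, .two), (1629, .pq 3 2 181 1), (1630, .two),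
  (1631, .pq 7 1 233 1), (1632, .big 17), (1633, .pq 23 1 71 1), (1634, .two), (1635, .big 109),
  (1636, .pq 2 2 409 1), (1637, .pq 1637 1 2 0), (1638, .two), (1639, .pq 11 1 149 1),
  (1640, .two), (1641, .pq 3 1 547 1), (1642, .pq 2 1 821 1), (1643, .pq 31 1 53 1), (1644, .two),
  (1645, .big 47), (1646, .pq 2 1 823 1), (1647, .pq 3 3 61 1), (1648, .pq 2 4 103 1),
  (1649, .pq 17 1 97 1), (1650, .two), (1651, .pq 13 1 127 1), (1652, .two), (1653, .big 29),
  (1654, .pq 2 1 827 1), (1655, .pq 5 1 331 1), (1656, .two), (1657, .pq 1657 1 2 0),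
  (1658, .pq 2 1 829 1), (1659, .big 79), (1660, .two), (1661, .pq 11 1 151 1), (1662, .two),
  (1663, .pq 1663 1 2 0), (1664, .pq 2 7 13 1), (1665, .big 37), (1666, .two),
  (1667, .pq 1667 1 2 0), (1668, .two), (1669, .pq 1669 1 2 0), (1670, .two),
  (1671, .pq 3 1 557 1), (1672, .two), (1673, .pq 7 1 239 1), (1674, .two), (1675, .pq 5 2 67 1),
  (1676, .pq 2 2 419 1), (1677, .big 43), (1678, .pq 2 1 839 1), (1679, .pq 23 1 73 1),
  (1680, .open'), (1681, .pq 41 2 2 0), (1682, .pq 2 1 29 2), (1683, .big 17),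
  (1684, .pq 2 2 421 1), (1685, .pq 5 1 337 1), (1686, .two), (1687, .pq 7 1 241 1),
  (1688, .pq 2 3 211 1), (1689, .pq 3 1 563 1), (1690, .two), (1691, .pq 19 1 89 1), (1692, .two)]

theorem table2_ok : table2.all (fun x => check x.1 x.2) = true := by decide +kernel

/-- Certificates for orders 1693 to 1892. -/
def table3 : List (Nat × Cert) := [
  (1693, .pq 1693 1 2 0), (1694, .two), (1695, .big 113), (1696, .pq 2 5 53 1),
  (1697, .pq 1697 1 2 0), (1698, .two), (1699, .pq 1699 1 2 0), (1700, .two), (1701, .pq 3 5 7 1),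
  (1702, .two), (1703, .pq 13 1 131 1), (1704, .two), (1705, .big 31), (1706, .pq 2 1 853 1),
  (1707, .pq 3 1 569 1), (1708, .two), (1709, .pq 1709 1 2 0), (1710, .two),
  (1711, .pq 29 1 59 1), (1712, .pq 2 4 107 1), (1713, .pq 3 1 571 1), (1714, .pq 2 1 857 1),
  (1715, .pq 5 1 7 3), (1716, .two), (1717, .pq 17 1 101 1), (1718, .pq 2 1 859 1),
  (1719, .pq 3 2 191 1), (1720, .two), (1721, .pq 1721 1 2 0), (1722, .two),
  (1723, .pq 1723 1 2 0), (1724, .pq 2 2 431 1), (1725, .big 23), (1726, .pq 2 1 863 1),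
  (1727, .pq 11 1 157 1), (1728, .pq 2 6 3 3), (1729, .big 19), (1730, .two),
  (1731, .pq 3 1 577 1), (1732, .pq 2 2 433 1), (1733, .pq 1733 1 2 0), (1734, .two),
  (1735, .pq 5 1 347 1), (1736, .big 31), (1737, .pq 3 2 193 1), (1738, .two),
  (1739, .pq 37 1 47 1), (1740, .two), (1741, .pq 1741 1 2 0), (1742, .two), (1743, .big 83),
  (1744, .pq 2 4 109 1), (1745, .pq 5 1 349 1), (1746, .two), (1747, .pq 1747 1 2 0),
  (1748, .two), (1749, .big 53), (1750, .two), (1751, .pq 17 1 103 1), (1752, .two),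
  (1753, .pq 1753 1 2 0), (1754, .pq 2 1 877 1), (1755, .big 13), (1756, .pq 2 2 439 1),
  (1757, .pq 7 1 251 1), (1758, .two), (1759, .pq 1759 1 2 0), (1760, .prq 5 11 2 5),
  (1761, .pq 3 1 587 1), (1762, .pq 2 1 881 1), (1763, .pq 41 1 43 1), (1764, .two),
  (1765, .pq 5 1 353 1), (1766, .pq 2 1 883 1), (1767, .big 31), (1768, .two),
  (1769, .pq 29 1 61 1), (1770, .two), (1771, .big 23), (1772, .pq 2 2 443 1),
  (1773, .pq 3 2 197 1), (1774, .pq 2 1 887 1), (1775, .pq 5 2 71 1), (1776, .big 37),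
  (1777, .pq 1777 1 2 0), (1778, .two), (1779, .pq 3 1 593 1), (1780, .two),
  (1781, .pq 13 1 137 1), (1782, .two), (1783, .pq 1783 1 2 0), (1784, .pq 2 3 223 1),
  (1785, .big 17), (1786, .two), (1787, .pq 1787 1 2 0), (1788, .two), (1789, .pq 1789 1 2 0),
  (1790, .two), (1791, .pq 3 2 199 1), (1792, .pq 2 8 7 1), (1793, .pq 11 1 163 1), (1794, .two),
  (1795, .pq 5 1 359 1), (1796, .pq 2 2 449 1), (1797, .pq 3 1 599 1), (1798, .two),
  (1799, .pq 7 1 257 1), (1800, .two), (1801, .pq 1801 1 2 0), (1802, .two),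
  (1803, .pq 3 1 601 1), (1804, .two), (1805, .pq 5 1 19 2), (1806, .two), (1807, .pq 13 1 139 1),
  (1808, .pq 2 4 113 1), (1809, .pq 3 3 67 1), (1810, .two), (1811, .pq 1811 1 2 0), (1812, .two),
  (1813, .pq 7 2 37 1), (1814, .pq 2 1 907 1), (1815, .prq 3 5 11 2), (1816, .pq 2 3 227 1),
  (1817, .pq 23 1 79 1), (1818, .two), (1819, .pq 17 1 107 1), (1820, .two),
  (1821, .pq 3 1 607 1), (1822, .pq 2 1 911 1), (1823, .pq 1823 1 2 0), (1824, .big 19),
  (1825, .pq 5 2 73 1), (1826, .two), (1827, .big 29), (1828, .pq 2 2 457 1),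
  (1829, .pq 31 1 59 1), (1830, .two), (1831, .pq 1831 1 2 0), (1832, .pq 2 3 229 1),
  (1833, .big 47), (1834, .two), (1835, .pq 5 1 367 1), (1836, .two), (1837, .pq 11 1 167 1),
  (1838, .pq 2 1 919 1), (1839, .pq 3 1 613 1), (1840, .big 23), (1841, .pq 7 1 263 1),
  (1842, .two), (1843, .pq 19 1 97 1), (1844, .pq 2 2 461 1), (1845, .big 41), (1846, .two),
  (1847, .pq 1847 1 2 0), (1848, .succ 11 168), (1849, .pq 43 2 2 0), (1850, .two),
  (1851, .pq 3 1 617 1), (1852, .pq 2 2 463 1), (1853, .pq 17 1 109 1), (1854, .two),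
  (1855, .big 53), (1856, .pq 2 6 29 1), (1857, .pq 3 1 619 1), (1858, .pq 2 1 929 1),
  (1859, .pq 11 1 13 2), (1860, .two), (1861, .pq 1861 1 2 0), (1862, .two), (1863, .pq 3 4 23 1),
  (1864, .pq 2 3 233 1), (1865, .pq 5 1 373 1), (1866, .two), (1867, .pq 1867 1 2 0),
  (1868, .pq 2 2 467 1), (1869, .big 89), (1870, .two), (1871, .pq 1871 1 2 0), (1872, .big 13),
  (1873, .pq 1873 1 2 0), (1874, .pq 2 1 937 1), (1875, .pq 3 1 5 4), (1876, .two),
  (1877, .pq 1877 1 2 0), (1878, .two), (1879, .pq 1879 1 2 0), (1880, .two), (1881, .big 19),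
  (1882, .pq 2 1 941 1), (1883, .pq 7 1 269 1), (1884, .two), (1885, .big 29), (1886, .two),
  (1887, .big 37), (1888, .pq 2 5 59 1), (1889, .pq 1889 1 2 0), (1890, .two),
  (1891, .pq 31 1 61 1), (1892, .two)]

theorem table3_ok : table3.all (fun x => check x.1 x.2) = true := by decide +kernel

/-- Certificates for orders 1893 to 2092. -/
def table4 : List (Nat × Cert) := [
  (1893, .pq 3 1 631 1), (1894, .pq 2 1 947 1), (1895, .pq 5 1 379 1), (1896, .two),
  (1897, .pq 7 1 271 1), (1898, .two), (1899, .pq 3 2 211 1), (1900, .two),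
  (1901, .pq 1901 1 2 0), (1902, .two), (1903, .pq 11 1 173 1), (1904, .big 17), (1905, .big 127),
  (1906, .pq 2 1 953 1), (1907, .pq 1907 1 2 0), (1908, .two), (1909, .pq 23 1 83 1),
  (1910, .two), (1911, .big 13), (1912, .pq 2 3 239 1), (1913, .pq 1913 1 2 0), (1914, .two),
  (1915, .pq 5 1 383 1), (1916, .pq 2 2 479 1), (1917, .pq 3 3 71 1), (1918, .two),
  (1919, .pq 19 1 101 1), (1920, .prq 3 5 2 7), (1921, .pq 17 1 113 1), (1922, .pq 2 1 31 2),
  (1923, .pq 3 1 641 1), (1924, .two), (1925, .prq 7 11 5 2), (1926, .two), (1927, .pq 41 1 47 1),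
  (1928, .pq 2 3 241 1), (1929, .pq 3 1 643 1), (1930, .two), (1931, .pq 1931 1 2 0),
  (1932, .two), (1933, .pq 1933 1 2 0), (1934, .pq 2 1 967 1), (1935, .big 43),
  (1936, .pq 2 4 11 2), (1937, .pq 13 1 149 1), (1938, .two), (1939, .pq 7 1 277 1), (1940, .two),
  (1941, .pq 3 1 647 1), (1942, .pq 2 1 971 1), (1943, .pq 29 1 67 1), (1944, .pq 2 3 3 5),
  (1945, .pq 5 1 389 1), (1946, .two), (1947, .big 59), (1948, .pq 2 2 487 1),
  (1949, .pq 1949 1 2 0), (1950, .two), (1951, .pq 1951 1 2 0), (1952, .pq 2 5 61 1),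
  (1953, .big 31), (1954, .pq 2 1 977 1), (1955, .big 23), (1956, .two), (1957, .pq 19 1 103 1),
  (1958, .two), (1959, .pq 3 1 653 1), (1960, .syl 7 2 40), (1961, .pq 37 1 53 1), (1962, .two),
  (1963, .pq 13 1 151 1), (1964, .pq 2 2 491 1), (1965, .big 131), (1966, .pq 2 1 983 1),
  (1967, .pq 7 1 281 1), (1968, .big 41), (1969, .pq 11 1 179 1), (1970, .two),
  (1971, .pq 3 3 73 1), (1972, .two), (1973, .pq 1973 1 2 0), (1974, .two), (1975, .pq 5 2 79 1),
  (1976, .two), (1977, .pq 3 1 659 1), (1978, .two), (1979, .pq 1979 1 2 0), (1980, .two),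
  (1981, .pq 7 1 283 1), (1982, .pq 2 1 991 1), (1983, .pq 3 1 661 1), (1984, .pq 2 6 31 1),
  (1985, .pq 5 1 397 1), (1986, .two), (1987, .pq 1987 1 2 0), (1988, .two), (1989, .big 17),
  (1990, .two), (1991, .pq 11 1 181 1), (1992, .two), (1993, .pq 1993 1 2 0),
  (1994, .pq 2 1 997 1), (1995, .big 19), (1996, .pq 2 2 499 1), (1997, .pq 1997 1 2 0),
  (1998, .two), (1999, .pq 1999 1 2 0), (2000, .pq 2 4 5 3), (2001, .big 29), (2002, .two),
  (2003, .pq 2003 1 2 0), (2004, .two), (2005, .pq 5 1 401 1), (2006, .two),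
  (2007, .pq 3 2 223 1), (2008, .pq 2 3 251 1), (2009, .pq 7 2 41 1), (2010, .two),
  (2011, .pq 2011 1 2 0), (2012, .pq 2 2 503 1), (2013, .big 61), (2014, .two), (2015, .big 31),
  (2016, .open'), (2017, .pq 2017 1 2 0), (2018, .pq 2 1 1009 1), (2019, .pq 3 1 673 1),
  (2020, .two), (2021, .pq 43 1 47 1), (2022, .two), (2023, .pq 7 1 17 2), (2024, .two),
  (2025, .pq 3 4 5 2), (2026, .pq 2 1 1013 1), (2027, .pq 2027 1 2 0), (2028, .two),
  (2029, .pq 2029 1 2 0), (2030, .two), (2031, .pq 3 1 677 1), (2032, .pq 2 4 127 1),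
  (2033, .pq 19 1 107 1), (2034, .two), (2035, .big 37), (2036, .pq 2 2 509 1), (2037, .big 97),
  (2038, .pq 2 1 1019 1), (2039, .pq 2039 1 2 0), (2040, .two), (2041, .pq 13 1 157 1),
  (2042, .pq 2 1 1021 1), (2043, .pq 3 2 227 1), (2044, .two), (2045, .pq 5 1 409 1),
  (2046, .two), (2047, .pq 23 1 89 1), (2048, .pq 2 11 3 0), (2049, .pq 3 1 683 1), (2050, .two),
  (2051, .pq 7 1 293 1), (2052, .two), (2053, .pq 2053 1 2 0), (2054, .two), (2055, .big 137),
  (2056, .pq 2 3 257 1), (2057, .pq 11 2 17 1), (2058, .two), (2059, .pq 29 1 71 1), (2060, .two),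
  (2061, .pq 3 2 229 1), (2062, .pq 2 1 1031 1), (2063, .pq 2063 1 2 0), (2064, .big 43),
  (2065, .big 59), (2066, .pq 2 1 1033 1), (2067, .big 53), (2068, .two), (2069, .pq 2069 1 2 0),
  (2070, .two), (2071, .pq 19 1 109 1), (2072, .big 37), (2073, .pq 3 1 691 1), (2074, .two),
  (2075, .pq 5 2 83 1), (2076, .two), (2077, .pq 31 1 67 1), (2078, .pq 2 1 1039 1),
  (2079, .prq 7 11 3 3), (2080, .big 13), (2081, .pq 2081 1 2 0), (2082, .two),
  (2083, .pq 2083 1 2 0), (2084, .pq 2 2 521 1), (2085, .big 139), (2086, .two),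
  (2087, .pq 2087 1 2 0), (2088, .two), (2089, .pq 2089 1 2 0), (2090, .two), (2091, .big 41),
  (2092, .pq 2 2 523 1)]

theorem table4_ok : table4.all (fun x => check x.1 x.2) = true := by decide +kernel

/-- Certificates for orders 2093 to 2292. -/
def table5 : List (Nat × Cert) := [
  (2093, .big 23), (2094, .two), (2095, .pq 5 1 419 1), (2096, .pq 2 4 131 1),
  (2097, .pq 3 2 233 1), (2098, .pq 2 1 1049 1), (2099, .pq 2099 1 2 0), (2100, .two),
  (2101, .pq 11 1 191 1), (2102, .pq 2 1 1051 1), (2103, .pq 3 1 701 1), (2104, .pq 2 3 263 1),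
  (2105, .pq 5 1 421 1), (2106, .two), (2107, .pq 7 2 43 1), (2108, .two), (2109, .big 37),
  (2110, .two), (2111, .pq 2111 1 2 0), (2112, .prq 3 11 2 6), (2113, .pq 2113 1 2 0),
  (2114, .two), (2115, .big 47), (2116, .pq 2 2 23 2), (2117, .pq 29 1 73 1), (2118, .two),
  (2119, .pq 13 1 163 1), (2120, .two), (2121, .big 101), (2122, .pq 2 1 1061 1),
  (2123, .pq 11 1 193 1), (2124, .two), (2125, .pq 5 3 17 1), (2126, .pq 2 1 1063 1),
  (2127, .pq 3 1 709 1), (2128, .big 19), (2129, .pq 2129 1 2 0), (2130, .two),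
  (2131, .pq 2131 1 2 0), (2132, .two), (2133, .pq 3 3 79 1), (2134, .two), (2135, .big 61),
  (2136, .two), (2137, .pq 2137 1 2 0), (2138, .pq 2 1 1069 1), (2139, .big 31), (2140, .two),
  (2141, .pq 2141 1 2 0), (2142, .two), (2143, .pq 2143 1 2 0), (2144, .pq 2 5 67 1),
  (2145, .big 13), (2146, .two), (2147, .pq 19 1 113 1), (2148, .two), (2149, .pq 7 1 307 1),
  (2150, .two), (2151, .pq 3 2 239 1), (2152, .pq 2 3 269 1), (2153, .pq 2153 1 2 0),
  (2154, .two), (2155, .pq 5 1 431 1), (2156, .two), (2157, .pq 3 1 719 1), (2158, .two),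
  (2159, .pq 17 1 127 1), (2160, .open'), (2161, .pq 2161 1 2 0), (2162, .two), (2163, .big 103),
  (2164, .pq 2 2 541 1), (2165, .pq 5 1 433 1), (2166, .two), (2167, .pq 11 1 197 1),
  (2168, .pq 2 3 271 1), (2169, .pq 3 2 241 1), (2170, .two), (2171, .pq 13 1 167 1),
  (2172, .two), (2173, .pq 41 1 53 1), (2174, .pq 2 1 1087 1), (2175, .big 29),
  (2176, .pq 2 7 17 1), (2177, .pq 7 1 311 1), (2178, .two), (2179, .pq 2179 1 2 0), (2180, .two),
  (2181, .pq 3 1 727 1), (2182, .pq 2 1 1091 1), (2183, .pq 37 1 59 1), (2184, .big 13),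
  (2185, .big 23), (2186, .pq 2 1 1093 1), (2187, .pq 3 7 2 0), (2188, .pq 2 2 547 1),
  (2189, .pq 11 1 199 1), (2190, .two), (2191, .pq 7 1 313 1), (2192, .pq 2 4 137 1),
  (2193, .big 43), (2194, .pq 2 1 1097 1), (2195, .pq 5 1 439 1), (2196, .two),
  (2197, .pq 13 3 2 0), (2198, .two), (2199, .pq 3 1 733 1), (2200, .two), (2201, .pq 31 1 71 1),
  (2202, .two), (2203, .pq 2203 1 2 0), (2204, .two), (2205, .syl 5 1 441),
  (2206, .pq 2 1 1103 1), (2207, .pq 2207 1 2 0), (2208, .big 23), (2209, .pq 47 2 2 0),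
  (2210, .two), (2211, .big 67), (2212, .two), (2213, .pq 2213 1 2 0), (2214, .two),
  (2215, .pq 5 1 443 1), (2216, .pq 2 3 277 1), (2217, .pq 3 1 739 1), (2218, .pq 2 1 1109 1),
  (2219, .pq 7 1 317 1), (2220, .two), (2221, .pq 2221 1 2 0), (2222, .two), (2223, .big 19),
  (2224, .pq 2 4 139 1), (2225, .pq 5 2 89 1), (2226, .two), (2227, .pq 17 1 131 1),
  (2228, .pq 2 2 557 1), (2229, .pq 3 1 743 1), (2230, .two), (2231, .pq 23 1 97 1), (2232, .two),
  (2233, .big 29), (2234, .pq 2 1 1117 1), (2235, .big 149), (2236, .two), (2237, .pq 2237 1 2 0),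
  (2238, .two), (2239, .pq 2239 1 2 0), (2240, .prq 5 7 2 6), (2241, .pq 3 3 83 1), (2242, .two),
  (2243, .pq 2243 1 2 0), (2244, .two), (2245, .pq 5 1 449 1), (2246, .pq 2 1 1123 1),
  (2247, .big 107), (2248, .pq 2 3 281 1), (2249, .pq 13 1 173 1), (2250, .two),
  (2251, .pq 2251 1 2 0), (2252, .pq 2 2 563 1), (2253, .pq 3 1 751 1), (2254, .two),
  (2255, .big 41), (2256, .big 47), (2257, .pq 37 1 61 1), (2258, .pq 2 1 1129 1),
  (2259, .pq 3 2 251 1), (2260, .two), (2261, .big 19), (2262, .two), (2263, .pq 31 1 73 1),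
  (2264, .pq 2 3 283 1), (2265, .big 151), (2266, .two), (2267, .pq 2267 1 2 0), (2268, .two),
  (2269, .pq 2269 1 2 0), (2270, .two), (2271, .pq 3 1 757 1), (2272, .pq 2 5 71 1),
  (2273, .pq 2273 1 2 0), (2274, .two), (2275, .prq 7 13 5 2), (2276, .pq 2 2 569 1),
  (2277, .big 23), (2278, .two), (2279, .pq 43 1 53 1), (2280, .two), (2281, .pq 2281 1 2 0),
  (2282, .two), (2283, .pq 3 1 761 1), (2284, .pq 2 2 571 1), (2285, .pq 5 1 457 1), (2286, .two),
  (2287, .pq 2287 1 2 0), (2288, .prq 11 13 2 4), (2289, .big 109), (2290, .two),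
  (2291, .pq 29 1 79 1), (2292, .two)]

theorem table5_ok : table5.all (fun x => check x.1 x.2) = true := by decide +kernel

/-- Certificates for orders 2293 to 2492. -/
def table6 : List (Nat × Cert) := [
  (2293, .pq 2293 1 2 0), (2294, .two), (2295, .big 17), (2296, .big 41), (2297, .pq 2297 1 2 0),
  (2298, .two), (2299, .pq 11 2 19 1), (2300, .two), (2301, .big 59), (2302, .pq 2 1 1151 1),
  (2303, .pq 7 2 47 1), (2304, .pq 2 8 3 2), (2305, .pq 5 1 461 1), (2306, .pq 2 1 1153 1),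
  (2307, .pq 3 1 769 1), (2308, .pq 2 2 577 1), (2309, .pq 2309 1 2 0), (2310, .two),
  (2311, .pq 2311 1 2 0), (2312, .pq 2 3 17 2), (2313, .pq 3 2 257 1), (2314, .two),
  (2315, .pq 5 1 463 1), (2316, .two), (2317, .pq 7 1 331 1), (2318, .two), (2319, .pq 3 1 773 1),
  (2320, .big 29), (2321, .pq 11 1 211 1), (2322, .two), (2323, .pq 23 1 101 1), (2324, .two),
  (2325, .big 31), (2326, .pq 2 1 1163 1), (2327, .pq 13 1 179 1), (2328, .two),
  (2329, .pq 17 1 137 1), (2330, .two), (2331, .big 37), (2332, .two), (2333, .pq 2333 1 2 0),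
  (2334, .two), (2335, .pq 5 1 467 1), (2336, .pq 2 5 73 1), (2337, .big 41), (2338, .two),
  (2339, .pq 2339 1 2 0), (2340, .two), (2341, .pq 2341 1 2 0), (2342, .pq 2 1 1171 1),
  (2343, .big 71), (2344, .pq 2 3 293 1), (2345, .big 67), (2346, .two), (2347, .pq 2347 1 2 0),
  (2348, .pq 2 2 587 1), (2349, .pq 3 4 29 1), (2350, .two), (2351, .pq 2351 1 2 0),
  (2352, .syl 7 2 48), (2353, .pq 13 1 181 1), (2354, .two), (2355, .big 157), (2356, .two),
  (2357, .pq 2357 1 2 0), (2358, .two), (2359, .pq 7 1 337 1), (2360, .two),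
  (2361, .pq 3 1 787 1), (2362, .pq 2 1 1181 1), (2363, .pq 17 1 139 1), (2364, .two),
  (2365, .big 43), (2366, .two), (2367, .pq 3 2 263 1), (2368, .pq 2 6 37 1),
  (2369, .pq 23 1 103 1), (2370, .two), (2371, .pq 2371 1 2 0), (2372, .pq 2 2 593 1),
  (2373, .big 113), (2374, .pq 2 1 1187 1), (2375, .pq 5 3 19 1), (2376, .two),
  (2377, .pq 2377 1 2 0), (2378, .two), (2379, .big 61), (2380, .two), (2381, .pq 2381 1 2 0),
  (2382, .two), (2383, .pq 2383 1 2 0), (2384, .pq 2 4 149 1), (2385, .big 53),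
  (2386, .pq 2 1 1193 1), (2387, .big 31), (2388, .two), (2389, .pq 2389 1 2 0), (2390, .two),
  (2391, .pq 3 1 797 1), (2392, .two), (2393, .pq 2393 1 2 0), (2394, .two),
  (2395, .pq 5 1 479 1), (2396, .pq 2 2 599 1), (2397, .big 47), (2398, .two),
  (2399, .pq 2399 1 2 0), (2400, .open'), (2401, .pq 7 4 2 0), (2402, .pq 2 1 1201 1),
  (2403, .pq 3 3 89 1), (2404, .pq 2 2 601 1), (2405, .big 37), (2406, .two),
  (2407, .pq 29 1 83 1), (2408, .big 43), (2409, .big 73), (2410, .two), (2411, .pq 2411 1 2 0),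
  (2412, .two), (2413, .pq 19 1 127 1), (2414, .two), (2415, .big 23), (2416, .pq 2 4 151 1),
  (2417, .pq 2417 1 2 0), (2418, .two), (2419, .pq 41 1 59 1), (2420, .two),
  (2421, .pq 3 2 269 1), (2422, .two), (2423, .pq 2423 1 2 0), (2424, .two), (2425, .pq 5 2 97 1),
  (2426, .pq 2 1 1213 1), (2427, .pq 3 1 809 1), (2428, .pq 2 2 607 1), (2429, .pq 7 1 347 1),
  (2430, .two), (2431, .big 17), (2432, .pq 2 7 19 1), (2433, .pq 3 1 811 1),
  (2434, .pq 2 1 1217 1), (2435, .pq 5 1 487 1), (2436, .two), (2437, .pq 2437 1 2 0),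
  (2438, .two), (2439, .pq 3 2 271 1), (2440, .two), (2441, .pq 2441 1 2 0), (2442, .two),
  (2443, .pq 7 1 349 1), (2444, .two), (2445, .big 163), (2446, .pq 2 1 1223 1),
  (2447, .pq 2447 1 2 0), (2448, .open'), (2449, .pq 31 1 79 1), (2450, .two), (2451, .big 43),
  (2452, .pq 2 2 613 1), (2453, .pq 11 1 223 1), (2454, .two), (2455, .pq 5 1 491 1),
  (2456, .pq 2 3 307 1), (2457, .prq 7 13 3 3), (2458, .pq 2 1 1229 1), (2459, .pq 2459 1 2 0),
  (2460, .two), (2461, .pq 23 1 107 1), (2462, .pq 2 1 1231 1), (2463, .pq 3 1 821 1),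
  (2464, .prq 7 11 2 5), (2465, .big 29), (2466, .two), (2467, .pq 2467 1 2 0),
  (2468, .pq 2 2 617 1), (2469, .pq 3 1 823 1), (2470, .two), (2471, .pq 7 1 353 1), (2472, .two),
  (2473, .pq 2473 1 2 0), (2474, .pq 2 1 1237 1), (2475, .open'), (2476, .pq 2 2 619 1),
  (2477, .pq 2477 1 2 0), (2478, .two), (2479, .pq 37 1 67 1), (2480, .big 31),
  (2481, .pq 3 1 827 1), (2482, .two), (2483, .pq 13 1 191 1), (2484, .two), (2485, .big 71),
  (2486, .two), (2487, .pq 3 1 829 1), (2488, .pq 2 3 311 1), (2489, .pq 19 1 131 1),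
  (2490, .two), (2491, .pq 47 1 53 1), (2492, .two)]

theorem table6_ok : table6.all (fun x => check x.1 x.2) = true := by decide +kernel

/-- Certificates for orders 2493 to 2692. -/
def table7 : List (Nat × Cert) := [
  (2493, .pq 3 2 277 1), (2494, .two), (2495, .pq 5 1 499 1), (2496, .prq 3 13 2 6),
  (2497, .pq 11 1 227 1), (2498, .pq 2 1 1249 1), (2499, .big 17), (2500, .pq 2 2 5 4),
  (2501, .pq 41 1 61 1), (2502, .two), (2503, .pq 2503 1 2 0), (2504, .pq 2 3 313 1),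
  (2505, .big 167), (2506, .two), (2507, .pq 23 1 109 1), (2508, .two), (2509, .pq 13 1 193 1),
  (2510, .two), (2511, .pq 3 4 31 1), (2512, .pq 2 4 157 1), (2513, .pq 7 1 359 1), (2514, .two),
  (2515, .pq 5 1 503 1), (2516, .two), (2517, .pq 3 1 839 1), (2518, .pq 2 1 1259 1),
  (2519, .pq 11 1 229 1), (2520, .open'), (2521, .pq 2521 1 2 0), (2522, .two),
  (2523, .pq 3 1 29 2), (2524, .pq 2 2 631 1), (2525, .pq 5 2 101 1), (2526, .two),
  (2527, .pq 7 1 19 2), (2528, .pq 2 5 79 1), (2529, .pq 3 2 281 1), (2530, .two),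
  (2531, .pq 2531 1 2 0), (2532, .two), (2533, .pq 17 1 149 1), (2534, .two),
  (2535, .prq 3 5 13 2), (2536, .pq 2 3 317 1), (2537, .pq 43 1 59 1), (2538, .two),
  (2539, .pq 2539 1 2 0), (2540, .two), (2541, .prq 3 7 11 2), (2542, .two),
  (2543, .pq 2543 1 2 0), (2544, .big 53), (2545, .pq 5 1 509 1), (2546, .two),
  (2547, .pq 3 2 283 1), (2548, .two), (2549, .pq 2549 1 2 0), (2550, .two),
  (2551, .pq 2551 1 2 0), (2552, .two), (2553, .big 37), (2554, .pq 2 1 1277 1), (2555, .big 73),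
  (2556, .two), (2557, .pq 2557 1 2 0), (2558, .pq 2 1 1279 1), (2559, .pq 3 1 853 1),
  (2560, .pq 2 9 5 1), (2561, .pq 13 1 197 1), (2562, .two), (2563, .pq 11 1 233 1),
  (2564, .pq 2 2 641 1), (2565, .big 19), (2566, .pq 2 1 1283 1), (2567, .pq 17 1 151 1),
  (2568, .two), (2569, .pq 7 1 367 1), (2570, .two), (2571, .pq 3 1 857 1), (2572, .pq 2 2 643 1),
  (2573, .pq 31 1 83 1), (2574, .two), (2575, .pq 5 2 103 1), (2576, .big 23),
  (2577, .pq 3 1 859 1), (2578, .pq 2 1 1289 1), (2579, .pq 2579 1 2 0), (2580, .two),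
  (2581, .pq 29 1 89 1), (2582, .pq 2 1 1291 1), (2583, .big 41), (2584, .two), (2585, .big 47),
  (2586, .two), (2587, .pq 13 1 199 1), (2588, .pq 2 2 647 1), (2589, .pq 3 1 863 1),
  (2590, .two), (2591, .pq 2591 1 2 0), (2592, .pq 2 5 3 4), (2593, .pq 2593 1 2 0),
  (2594, .pq 2 1 1297 1), (2595, .big 173), (2596, .two), (2597, .pq 7 2 53 1), (2598, .two),
  (2599, .pq 23 1 113 1), (2600, .two), (2601, .pq 3 2 17 2), (2602, .pq 2 1 1301 1),
  (2603, .pq 19 1 137 1), (2604, .two), (2605, .pq 5 1 521 1), (2606, .pq 2 1 1303 1),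
  (2607, .big 79), (2608, .pq 2 4 163 1), (2609, .pq 2609 1 2 0), (2610, .two),
  (2611, .pq 7 1 373 1), (2612, .pq 2 2 653 1), (2613, .big 67), (2614, .pq 2 1 1307 1),
  (2615, .pq 5 1 523 1), (2616, .two), (2617, .pq 2617 1 2 0), (2618, .two), (2619, .pq 3 3 97 1),
  (2620, .two), (2621, .pq 2621 1 2 0), (2622, .two), (2623, .pq 43 1 61 1), (2624, .pq 2 6 41 1),
  (2625, .prq 3 7 5 3), (2626, .two), (2627, .pq 37 1 71 1), (2628, .two), (2629, .pq 11 1 239 1),
  (2630, .two), (2631, .pq 3 1 877 1), (2632, .big 47), (2633, .pq 2633 1 2 0), (2634, .two),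
  (2635, .big 31), (2636, .pq 2 2 659 1), (2637, .pq 3 2 293 1), (2638, .pq 2 1 1319 1),
  (2639, .big 29), (2640, .succ 11 240), (2641, .pq 19 1 139 1), (2642, .pq 2 1 1321 1),
  (2643, .pq 3 1 881 1), (2644, .pq 2 2 661 1), (2645, .pq 5 1 23 2), (2646, .two),
  (2647, .pq 2647 1 2 0), (2648, .pq 2 3 331 1), (2649, .pq 3 1 883 1), (2650, .two),
  (2651, .pq 11 1 241 1), (2652, .two), (2653, .pq 7 1 379 1), (2654, .pq 2 1 1327 1),
  (2655, .big 59), (2656, .pq 2 5 83 1), (2657, .pq 2657 1 2 0), (2658, .two),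
  (2659, .pq 2659 1 2 0), (2660, .two), (2661, .pq 3 1 887 1), (2662, .pq 2 1 11 3),
  (2663, .pq 2663 1 2 0), (2664, .two), (2665, .big 41), (2666, .two), (2667, .big 127),
  (2668, .two), (2669, .pq 17 1 157 1), (2670, .two), (2671, .pq 2671 1 2 0),
  (2672, .pq 2 4 167 1), (2673, .pq 3 5 11 1), (2674, .two), (2675, .pq 5 2 107 1), (2676, .two),
  (2677, .pq 2677 1 2 0), (2678, .two), (2679, .big 47), (2680, .two), (2681, .pq 7 1 383 1),
  (2682, .two), (2683, .pq 2683 1 2 0), (2684, .two), (2685, .big 179), (2686, .two),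
  (2687, .pq 2687 1 2 0), (2688, .prq 3 7 2 7), (2689, .pq 2689 1 2 0), (2690, .two),
  (2691, .big 23), (2692, .pq 2 2 673 1)]

theorem table7_ok : table7.all (fun x => check x.1 x.2) = true := by decide +kernel

/-- Certificates for orders 2693 to 2892. -/
def table8 : List (Nat × Cert) := [
  (2693, .pq 2693 1 2 0), (2694, .two), (2695, .prq 5 11 7 2), (2696, .pq 2 3 337 1),
  (2697, .big 31), (2698, .two), (2699, .pq 2699 1 2 0), (2700, .two), (2701, .pq 37 1 73 1),
  (2702, .two), (2703, .big 53), (2704, .pq 2 4 13 2), (2705, .pq 5 1 541 1), (2706, .two),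
  (2707, .pq 2707 1 2 0), (2708, .pq 2 2 677 1), (2709, .big 43), (2710, .two),
  (2711, .pq 2711 1 2 0), (2712, .two), (2713, .pq 2713 1 2 0), (2714, .two), (2715, .big 181),
  (2716, .two), (2717, .big 19), (2718, .two), (2719, .pq 2719 1 2 0), (2720, .big 17),
  (2721, .pq 3 1 907 1), (2722, .pq 2 1 1361 1), (2723, .pq 7 1 389 1), (2724, .two),
  (2725, .pq 5 2 109 1), (2726, .two), (2727, .pq 3 3 101 1), (2728, .two),
  (2729, .pq 2729 1 2 0), (2730, .two), (2731, .pq 2731 1 2 0), (2732, .pq 2 2 683 1),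
  (2733, .pq 3 1 911 1), (2734, .pq 2 1 1367 1), (2735, .pq 5 1 547 1), (2736, .big 19),
  (2737, .big 23), (2738, .pq 2 1 37 2), (2739, .big 83), (2740, .two), (2741, .pq 2741 1 2 0),
  (2742, .two), (2743, .pq 13 1 211 1), (2744, .pq 2 3 7 3), (2745, .big 61),
  (2746, .pq 2 1 1373 1), (2747, .pq 41 1 67 1), (2748, .two), (2749, .pq 2749 1 2 0),
  (2750, .two), (2751, .big 131), (2752, .pq 2 6 43 1), (2753, .pq 2753 1 2 0), (2754, .two),
  (2755, .big 29), (2756, .two), (2757, .pq 3 1 919 1), (2758, .two), (2759, .pq 31 1 89 1),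
  (2760, .two), (2761, .pq 11 1 251 1), (2762, .pq 2 1 1381 1), (2763, .pq 3 2 307 1),
  (2764, .pq 2 2 691 1), (2765, .big 79), (2766, .two), (2767, .pq 2767 1 2 0),
  (2768, .pq 2 4 173 1), (2769, .big 71), (2770, .two), (2771, .pq 17 1 163 1), (2772, .two),
  (2773, .pq 47 1 59 1), (2774, .two), (2775, .big 37), (2776, .pq 2 3 347 1),
  (2777, .pq 2777 1 2 0), (2778, .two), (2779, .pq 7 1 397 1), (2780, .two),
  (2781, .pq 3 3 103 1), (2782, .two), (2783, .pq 11 2 23 1), (2784, .big 29),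
  (2785, .pq 5 1 557 1), (2786, .two), (2787, .pq 3 1 929 1), (2788, .two),
  (2789, .pq 2789 1 2 0), (2790, .two), (2791, .pq 2791 1 2 0), (2792, .pq 2 3 349 1),
  (2793, .big 19), (2794, .two), (2795, .big 43), (2796, .two), (2797, .pq 2797 1 2 0),
  (2798, .pq 2 1 1399 1), (2799, .pq 3 2 311 1), (2800, .open'), (2801, .pq 2801 1 2 0),
  (2802, .two), (2803, .pq 2803 1 2 0), (2804, .pq 2 2 701 1), (2805, .big 17), (2806, .two),
  (2807, .pq 7 1 401 1), (2808, .two), (2809, .pq 53 2 2 0), (2810, .two), (2811, .pq 3 1 937 1),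
  (2812, .two), (2813, .pq 29 1 97 1), (2814, .two), (2815, .pq 5 1 563 1), (2816, .pq 2 8 11 1),
  (2817, .pq 3 2 313 1), (2818, .pq 2 1 1409 1), (2819, .pq 2819 1 2 0), (2820, .two),
  (2821, .big 31), (2822, .two), (2823, .pq 3 1 941 1), (2824, .pq 2 3 353 1),
  (2825, .pq 5 2 113 1), (2826, .two), (2827, .pq 11 1 257 1), (2828, .two), (2829, .big 41),
  (2830, .two), (2831, .pq 19 1 149 1), (2832, .big 59), (2833, .pq 2833 1 2 0), (2834, .two),
  (2835, .prq 5 7 3 4), (2836, .pq 2 2 709 1), (2837, .pq 2837 1 2 0), (2838, .two),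
  (2839, .pq 17 1 167 1), (2840, .two), (2841, .pq 3 1 947 1), (2842, .two),
  (2843, .pq 2843 1 2 0), (2844, .two), (2845, .pq 5 1 569 1), (2846, .pq 2 1 1423 1),
  (2847, .big 73), (2848, .pq 2 5 89 1), (2849, .big 37), (2850, .two), (2851, .pq 2851 1 2 0),
  (2852, .two), (2853, .pq 3 2 317 1), (2854, .pq 2 1 1427 1), (2855, .pq 5 1 571 1),
  (2856, .big 17), (2857, .pq 2857 1 2 0), (2858, .pq 2 1 1429 1), (2859, .pq 3 1 953 1),
  (2860, .two), (2861, .pq 2861 1 2 0), (2862, .two), (2863, .pq 7 1 409 1),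
  (2864, .pq 2 4 179 1), (2865, .big 191), (2866, .pq 2 1 1433 1), (2867, .pq 47 1 61 1),
  (2868, .two), (2869, .pq 19 1 151 1), (2870, .two), (2871, .big 29), (2872, .pq 2 3 359 1),
  (2873, .pq 13 2 17 1), (2874, .two), (2875, .pq 5 3 23 1), (2876, .pq 2 2 719 1),
  (2877, .big 137), (2878, .pq 2 1 1439 1), (2879, .pq 2879 1 2 0), (2880, .open'),
  (2881, .pq 43 1 67 1), (2882, .two), (2883, .pq 3 1 31 2), (2884, .two), (2885, .pq 5 1 577 1),
  (2886, .two), (2887, .pq 2887 1 2 0), (2888, .pq 2 3 19 2), (2889, .pq 3 3 107 1), (2890, .two),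
  (2891, .pq 7 2 59 1), (2892, .two)]

theorem table8_ok : table8.all (fun x => check x.1 x.2) = true := by decide +kernel

/-- Certificates for orders 2893 to 3092. -/
def table9 : List (Nat × Cert) := [
  (2893, .pq 11 1 263 1), (2894, .pq 2 1 1447 1), (2895, .big 193), (2896, .pq 2 4 181 1),
  (2897, .pq 2897 1 2 0), (2898, .two), (2899, .pq 13 1 223 1), (2900, .two),
  (2901, .pq 3 1 967 1), (2902, .pq 2 1 1451 1), (2903, .pq 2903 1 2 0), (2904, .two),
  (2905, .big 83), (2906, .pq 2 1 1453 1), (2907, .big 19), (2908, .pq 2 2 727 1),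
  (2909, .pq 2909 1 2 0), (2910, .two), (2911, .pq 41 1 71 1), (2912, .prq 7 13 2 5),
  (2913, .pq 3 1 971 1), (2914, .two), (2915, .big 53), (2916, .pq 2 2 3 6),
  (2917, .pq 2917 1 2 0), (2918, .pq 2 1 1459 1), (2919, .big 139), (2920, .two),
  (2921, .pq 23 1 127 1), (2922, .two), (2923, .pq 37 1 79 1), (2924, .two),
  (2925, .quot 13 5 2 9), (2926, .two), (2927, .pq 2927 1 2 0), (2928, .big 61),
  (2929, .pq 29 1 101 1), (2930, .two), (2931, .pq 3 1 977 1), (2932, .pq 2 2 733 1),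
  (2933, .pq 7 1 419 1), (2934, .two), (2935, .pq 5 1 587 1), (2936, .pq 2 3 367 1),
  (2937, .big 89), (2938, .two), (2939, .pq 2939 1 2 0), (2940, .two), (2941, .pq 17 1 173 1),
  (2942, .pq 2 1 1471 1), (2943, .pq 3 3 109 1), (2944, .pq 2 7 23 1), (2945, .big 31),
  (2946, .two), (2947, .pq 7 1 421 1), (2948, .two), (2949, .pq 3 1 983 1), (2950, .two),
  (2951, .pq 13 1 227 1), (2952, .two), (2953, .pq 2953 1 2 0), (2954, .two), (2955, .big 197),
  (2956, .pq 2 2 739 1), (2957, .pq 2957 1 2 0), (2958, .two), (2959, .pq 11 1 269 1),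
  (2960, .big 37), (2961, .big 47), (2962, .pq 2 1 1481 1), (2963, .pq 2963 1 2 0), (2964, .two),
  (2965, .pq 5 1 593 1), (2966, .pq 2 1 1483 1), (2967, .big 43), (2968, .big 53),
  (2969, .pq 2969 1 2 0), (2970, .two), (2971, .pq 2971 1 2 0), (2972, .pq 2 2 743 1),
  (2973, .pq 3 1 991 1), (2974, .pq 2 1 1487 1), (2975, .big 17), (2976, .big 31),
  (2977, .pq 13 1 229 1), (2978, .pq 2 1 1489 1), (2979, .pq 3 2 331 1), (2980, .two),
  (2981, .pq 11 1 271 1), (2982, .two), (2983, .pq 19 1 157 1), (2984, .pq 2 3 373 1),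
  (2985, .big 199), (2986, .pq 2 1 1493 1), (2987, .pq 29 1 103 1), (2988, .two),
  (2989, .pq 7 2 61 1), (2990, .two), (2991, .pq 3 1 997 1), (2992, .big 17),
  (2993, .pq 41 1 73 1), (2994, .two), (2995, .pq 5 1 599 1), (2996, .two), (2997, .pq 3 4 37 1),
  (2998, .pq 2 1 1499 1), (2999, .pq 2999 1 2 0), (3000, .two), (3001, .pq 3001 1 2 0),
  (3002, .two), (3003, .syl 13 1 231), (3004, .pq 2 2 751 1), (3005, .pq 5 1 601 1), (3006, .two),
  (3007, .pq 31 1 97 1), (3008, .pq 2 6 47 1), (3009, .big 59), (3010, .two),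
  (3011, .pq 3011 1 2 0), (3012, .two), (3013, .pq 23 1 131 1), (3014, .two), (3015, .big 67),
  (3016, .two), (3017, .pq 7 1 431 1), (3018, .two), (3019, .pq 3019 1 2 0), (3020, .two),
  (3021, .big 53), (3022, .pq 2 1 1511 1), (3023, .pq 3023 1 2 0), (3024, .open'),
  (3025, .pq 5 2 11 2), (3026, .two), (3027, .pq 3 1 1009 1), (3028, .pq 2 2 757 1),
  (3029, .pq 13 1 233 1), (3030, .two), (3031, .pq 7 1 433 1), (3032, .pq 2 3 379 1),
  (3033, .pq 3 2 337 1), (3034, .two), (3035, .pq 5 1 607 1), (3036, .two),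
  (3037, .pq 3037 1 2 0), (3038, .two), (3039, .pq 3 1 1013 1), (3040, .big 19),
  (3041, .pq 3041 1 2 0), (3042, .two), (3043, .pq 17 1 179 1), (3044, .pq 2 2 761 1),
  (3045, .big 29), (3046, .pq 2 1 1523 1), (3047, .pq 11 1 277 1), (3048, .two),
  (3049, .pq 3049 1 2 0), (3050, .two), (3051, .pq 3 3 113 1), (3052, .two),
  (3053, .pq 43 1 71 1), (3054, .two), (3055, .big 47), (3056, .pq 2 4 191 1),
  (3057, .pq 3 1 1019 1), (3058, .two), (3059, .big 23), (3060, .two), (3061, .pq 3061 1 2 0),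
  (3062, .pq 2 1 1531 1), (3063, .pq 3 1 1021 1), (3064, .pq 2 3 383 1), (3065, .pq 5 1 613 1),
  (3066, .two), (3067, .pq 3067 1 2 0), (3068, .two), (3069, .big 31), (3070, .two),
  (3071, .pq 37 1 83 1), (3072, .pq 2 10 3 1), (3073, .pq 7 1 439 1), (3074, .two),
  (3075, .big 41), (3076, .pq 2 2 769 1), (3077, .pq 17 1 181 1), (3078, .two),
  (3079, .pq 3079 1 2 0), (3080, .open'), (3081, .big 79), (3082, .two), (3083, .pq 3083 1 2 0),
  (3084, .two), (3085, .pq 5 1 617 1), (3086, .pq 2 1 1543 1), (3087, .pq 3 2 7 3),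
  (3088, .pq 2 4 193 1), (3089, .pq 3089 1 2 0), (3090, .two), (3091, .pq 11 1 281 1),
  (3092, .pq 2 2 773 1)]

theorem table9_ok : table9.all (fun x => check x.1 x.2) = true := by decide +kernel

/-- Certificates for orders 3093 to 3292. -/
def table10 : List (Nat × Cert) := [
  (3093, .pq 3 1 1031 1), (3094, .two), (3095, .pq 5 1 619 1), (3096, .two),
  (3097, .pq 19 1 163 1), (3098, .pq 2 1 1549 1), (3099, .pq 3 1 1033 1), (3100, .two),
  (3101, .pq 7 1 443 1), (3102, .two), (3103, .pq 29 1 107 1), (3104, .pq 2 5 97 1),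
  (3105, .big 23), (3106, .pq 2 1 1553 1), (3107, .pq 13 1 239 1), (3108, .two),
  (3109, .pq 3109 1 2 0), (3110, .two), (3111, .big 61), (3112, .pq 2 3 389 1),
  (3113, .pq 11 1 283 1), (3114, .two), (3115, .big 89), (3116, .two), (3117, .pq 3 1 1039 1),
  (3118, .pq 2 1 1559 1), (3119, .pq 3119 1 2 0), (3120, .open'), (3121, .pq 3121 1 2 0),
  (3122, .two), (3123, .pq 3 2 347 1), (3124, .two), (3125, .pq 5 5 2 0), (3126, .two),
  (3127, .pq 53 1 59 1), (3128, .two), (3129, .big 149), (3130, .two), (3131, .pq 31 1 101 1),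
  (3132, .two), (3133, .pq 13 1 241 1), (3134, .pq 2 1 1567 1), (3135, .big 19),
  (3136, .pq 2 6 7 2), (3137, .pq 3137 1 2 0), (3138, .two), (3139, .pq 43 1 73 1), (3140, .two),
  (3141, .pq 3 2 349 1), (3142, .pq 2 1 1571 1), (3143, .pq 7 1 449 1), (3144, .two),
  (3145, .big 37), (3146, .two), (3147, .pq 3 1 1049 1), (3148, .pq 2 2 787 1),
  (3149, .pq 47 1 67 1), (3150, .two), (3151, .pq 23 1 137 1), (3152, .pq 2 4 197 1),
  (3153, .pq 3 1 1051 1), (3154, .two), (3155, .pq 5 1 631 1), (3156, .two), (3157, .big 41),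
  (3158, .pq 2 1 1579 1), (3159, .pq 3 5 13 1), (3160, .two), (3161, .pq 29 1 109 1),
  (3162, .two), (3163, .pq 3163 1 2 0), (3164, .two), (3165, .big 211), (3166, .pq 2 1 1583 1),
  (3167, .pq 3167 1 2 0), (3168, .quot 11 2 5 9), (3169, .pq 3169 1 2 0), (3170, .two),
  (3171, .big 151), (3172, .two), (3173, .pq 19 1 167 1), (3174, .two), (3175, .pq 5 2 127 1),
  (3176, .pq 2 3 397 1), (3177, .pq 3 2 353 1), (3178, .two), (3179, .pq 11 1 17 2), (3180, .two),
  (3181, .pq 3181 1 2 0), (3182, .two), (3183, .pq 3 1 1061 1), (3184, .pq 2 4 199 1),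
  (3185, .prq 5 13 7 2), (3186, .two), (3187, .pq 3187 1 2 0), (3188, .pq 2 2 797 1),
  (3189, .pq 3 1 1063 1), (3190, .two), (3191, .pq 3191 1 2 0), (3192, .big 19),
  (3193, .pq 31 1 103 1), (3194, .pq 2 1 1597 1), (3195, .big 71), (3196, .two),
  (3197, .pq 23 1 139 1), (3198, .two), (3199, .pq 7 1 457 1), (3200, .pq 2 7 5 2),
  (3201, .big 97), (3202, .pq 2 1 1601 1), (3203, .pq 3203 1 2 0), (3204, .two),
  (3205, .pq 5 1 641 1), (3206, .two), (3207, .pq 3 1 1069 1), (3208, .pq 2 3 401 1),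
  (3209, .pq 3209 1 2 0), (3210, .two), (3211, .pq 13 2 19 1), (3212, .two), (3213, .big 17),
  (3214, .pq 2 1 1607 1), (3215, .pq 5 1 643 1), (3216, .big 67), (3217, .pq 3217 1 2 0),
  (3218, .pq 2 1 1609 1), (3219, .big 37), (3220, .two), (3221, .pq 3221 1 2 0), (3222, .two),
  (3223, .pq 11 1 293 1), (3224, .two), (3225, .big 43), (3226, .pq 2 1 1613 1),
  (3227, .pq 7 1 461 1), (3228, .two), (3229, .pq 3229 1 2 0), (3230, .two),
  (3231, .pq 3 2 359 1), (3232, .pq 2 5 101 1), (3233, .pq 53 1 61 1), (3234, .two),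
  (3235, .pq 5 1 647 1), (3236, .pq 2 2 809 1), (3237, .big 83), (3238, .pq 2 1 1619 1),
  (3239, .pq 41 1 79 1), (3240, .two), (3241, .pq 7 1 463 1), (3242, .pq 2 1 1621 1),
  (3243, .big 47), (3244, .pq 2 2 811 1), (3245, .big 59), (3246, .two), (3247, .pq 17 1 191 1),
  (3248, .big 29), (3249, .pq 3 2 19 2), (3250, .two), (3251, .pq 3251 1 2 0), (3252, .two),
  (3253, .pq 3253 1 2 0), (3254, .pq 2 1 1627 1), (3255, .big 31), (3256, .two),
  (3257, .pq 3257 1 2 0), (3258, .two), (3259, .pq 3259 1 2 0), (3260, .two),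
  (3261, .pq 3 1 1087 1), (3262, .two), (3263, .pq 13 1 251 1), (3264, .big 17),
  (3265, .pq 5 1 653 1), (3266, .two), (3267, .pq 3 3 11 2), (3268, .two), (3269, .pq 7 1 467 1),
  (3270, .two), (3271, .pq 3271 1 2 0), (3272, .pq 2 3 409 1), (3273, .pq 3 1 1091 1),
  (3274, .pq 2 1 1637 1), (3275, .pq 5 2 131 1), (3276, .two), (3277, .pq 29 1 113 1),
  (3278, .two), (3279, .pq 3 1 1093 1), (3280, .big 41), (3281, .pq 17 1 193 1), (3282, .two),
  (3283, .pq 7 2 67 1), (3284, .pq 2 2 821 1), (3285, .big 73), (3286, .two),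
  (3287, .pq 19 1 173 1), (3288, .two), (3289, .big 23), (3290, .two), (3291, .pq 3 1 1097 1),
  (3292, .pq 2 2 823 1)]

theorem table10_ok : table10.all (fun x => check x.1 x.2) = true := by decide +kernel

/-- Certificates for orders 3293 to 3492. -/
def table11 : List (Nat × Cert) := [
  (3293, .pq 37 1 89 1), (3294, .two), (3295, .pq 5 1 659 1), (3296, .pq 2 5 103 1),
  (3297, .big 157), (3298, .two), (3299, .pq 3299 1 2 0), (3300, .two), (3301, .pq 3301 1 2 0),
  (3302, .two), (3303, .pq 3 2 367 1), (3304, .big 59), (3305, .pq 5 1 661 1), (3306, .two),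
  (3307, .pq 3307 1 2 0), (3308, .pq 2 2 827 1), (3309, .pq 3 1 1103 1), (3310, .two),
  (3311, .big 43), (3312, .big 23), (3313, .pq 3313 1 2 0), (3314, .pq 2 1 1657 1),
  (3315, .big 17), (3316, .pq 2 2 829 1), (3317, .pq 31 1 107 1), (3318, .two),
  (3319, .pq 3319 1 2 0), (3320, .two), (3321, .pq 3 4 41 1), (3322, .two),
  (3323, .pq 3323 1 2 0), (3324, .two), (3325, .big 19), (3326, .pq 2 1 1663 1),
  (3327, .pq 3 1 1109 1), (3328, .pq 2 8 13 1), (3329, .pq 3329 1 2 0), (3330, .two),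
  (3331, .pq 3331 1 2 0), (3332, .two), (3333, .big 101), (3334, .pq 2 1 1667 1), (3335, .big 29),
  (3336, .two), (3337, .pq 47 1 71 1), (3338, .pq 2 1 1669 1), (3339, .big 53), (3340, .two),
  (3341, .pq 13 1 257 1), (3342, .two), (3343, .pq 3343 1 2 0), (3344, .big 19), (3345, .big 223),
  (3346, .two), (3347, .pq 3347 1 2 0), (3348, .two), (3349, .pq 17 1 197 1), (3350, .two),
  (3351, .pq 3 1 1117 1), (3352, .pq 2 3 419 1), (3353, .pq 7 1 479 1), (3354, .two),
  (3355, .big 61), (3356, .pq 2 2 839 1), (3357, .pq 3 2 373 1), (3358, .two),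
  (3359, .pq 3359 1 2 0), (3360, .open'), (3361, .pq 3361 1 2 0), (3362, .pq 2 1 41 2),
  (3363, .big 59), (3364, .pq 2 2 29 2), (3365, .pq 5 1 673 1), (3366, .two), (3367, .big 37),
  (3368, .pq 2 3 421 1), (3369, .pq 3 1 1123 1), (3370, .two), (3371, .pq 3371 1 2 0),
  (3372, .two), (3373, .pq 3373 1 2 0), (3374, .two), (3375, .pq 3 3 5 3), (3376, .pq 2 4 211 1),
  (3377, .pq 11 1 307 1), (3378, .two), (3379, .pq 31 1 109 1), (3380, .two), (3381, .big 23),
  (3382, .two), (3383, .pq 17 1 199 1), (3384, .two), (3385, .pq 5 1 677 1),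
  (3386, .pq 2 1 1693 1), (3387, .pq 3 1 1129 1), (3388, .two), (3389, .pq 3389 1 2 0),
  (3390, .two), (3391, .pq 3391 1 2 0), (3392, .pq 2 6 53 1), (3393, .big 29),
  (3394, .pq 2 1 1697 1), (3395, .big 97), (3396, .two), (3397, .pq 43 1 79 1),
  (3398, .pq 2 1 1699 1), (3399, .big 103), (3400, .two), (3401, .pq 19 1 179 1), (3402, .two),
  (3403, .pq 41 1 83 1), (3404, .two), (3405, .big 227), (3406, .two), (3407, .pq 3407 1 2 0),
  (3408, .big 71), (3409, .pq 7 1 487 1), (3410, .two), (3411, .pq 3 2 379 1),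
  (3412, .pq 2 2 853 1), (3413, .pq 3413 1 2 0), (3414, .two), (3415, .pq 5 1 683 1),
  (3416, .big 61), (3417, .big 67), (3418, .pq 2 1 1709 1), (3419, .pq 13 1 263 1),
  (3420, .open'), (3421, .pq 11 1 311 1), (3422, .two), (3423, .big 163), (3424, .pq 2 5 107 1),
  (3425, .pq 5 2 137 1), (3426, .two), (3427, .pq 23 1 149 1), (3428, .pq 2 2 857 1),
  (3429, .pq 3 3 127 1), (3430, .two), (3431, .pq 47 1 73 1), (3432, .two),
  (3433, .pq 3433 1 2 0), (3434, .two), (3435, .big 229), (3436, .pq 2 2 859 1),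
  (3437, .pq 7 1 491 1), (3438, .two), (3439, .pq 19 1 181 1), (3440, .big 43), (3441, .big 37),
  (3442, .pq 2 1 1721 1), (3443, .pq 11 1 313 1), (3444, .two), (3445, .big 53),
  (3446, .pq 2 1 1723 1), (3447, .pq 3 2 383 1), (3448, .pq 2 3 431 1), (3449, .pq 3449 1 2 0),
  (3450, .two), (3451, .big 29), (3452, .pq 2 2 863 1), (3453, .pq 3 1 1151 1), (3454, .two),
  (3455, .pq 5 1 691 1), (3456, .pq 2 7 3 3), (3457, .pq 3457 1 2 0), (3458, .two),
  (3459, .pq 3 1 1153 1), (3460, .two), (3461, .pq 3461 1 2 0), (3462, .two),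
  (3463, .pq 3463 1 2 0), (3464, .pq 2 3 433 1), (3465, .syl 11 1 315), (3466, .pq 2 1 1733 1),
  (3467, .pq 3467 1 2 0), (3468, .two), (3469, .pq 3469 1 2 0), (3470, .two), (3471, .big 89),
  (3472, .big 31), (3473, .pq 23 1 151 1), (3474, .two), (3475, .pq 5 2 139 1), (3476, .two),
  (3477, .big 61), (3478, .two), (3479, .pq 7 2 71 1), (3480, .two), (3481, .pq 59 2 2 0),
  (3482, .pq 2 1 1741 1), (3483, .pq 3 4 43 1), (3484, .two), (3485, .big 41), (3486, .two),
  (3487, .pq 11 1 317 1), (3488, .pq 2 5 109 1), (3489, .pq 3 1 1163 1), (3490, .two),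
  (3491, .pq 3491 1 2 0), (3492, .two)]

theorem table11_ok : table11.all (fun x => check x.1 x.2) = true := by decide +kernel

/-- Certificates for orders 3493 to 3692. -/
def table12 : List (Nat × Cert) := [
  (3493, .pq 7 1 499 1), (3494, .pq 2 1 1747 1), (3495, .big 233), (3496, .two),
  (3497, .pq 13 1 269 1), (3498, .two), (3499, .pq 3499 1 2 0), (3500, .two),
  (3501, .pq 3 2 389 1), (3502, .two), (3503, .pq 31 1 113 1), (3504, .big 73),
  (3505, .pq 5 1 701 1), (3506, .pq 2 1 1753 1), (3507, .big 167), (3508, .pq 2 2 877 1),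
  (3509, .pq 11 2 29 1), (3510, .two), (3511, .pq 3511 1 2 0), (3512, .pq 2 3 439 1),
  (3513, .pq 3 1 1171 1), (3514, .two), (3515, .big 37), (3516, .two), (3517, .pq 3517 1 2 0),
  (3518, .pq 2 1 1759 1), (3519, .big 23), (3520, .prq 5 11 2 6), (3521, .pq 7 1 503 1),
  (3522, .two), (3523, .pq 13 1 271 1), (3524, .pq 2 2 881 1), (3525, .big 47), (3526, .two),
  (3527, .pq 3527 1 2 0), (3528, .open'), (3529, .pq 3529 1 2 0), (3530, .two), (3531, .big 107),
  (3532, .pq 2 2 883 1), (3533, .pq 3533 1 2 0), (3534, .two), (3535, .big 101), (3536, .big 17),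
  (3537, .pq 3 3 131 1), (3538, .two), (3539, .pq 3539 1 2 0), (3540, .two),
  (3541, .pq 3541 1 2 0), (3542, .two), (3543, .pq 3 1 1181 1), (3544, .pq 2 3 443 1),
  (3545, .pq 5 1 709 1), (3546, .two), (3547, .pq 3547 1 2 0), (3548, .pq 2 2 887 1),
  (3549, .prq 3 7 13 2), (3550, .two), (3551, .pq 53 1 67 1), (3552, .big 37), (3553, .big 19),
  (3554, .pq 2 1 1777 1), (3555, .big 79), (3556, .two), (3557, .pq 3557 1 2 0), (3558, .two),
  (3559, .pq 3559 1 2 0), (3560, .two), (3561, .pq 3 1 1187 1), (3562, .two),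
  (3563, .pq 7 1 509 1), (3564, .two), (3565, .big 31), (3566, .pq 2 1 1783 1), (3567, .big 41),
  (3568, .pq 2 4 223 1), (3569, .pq 43 1 83 1), (3570, .two), (3571, .pq 3571 1 2 0),
  (3572, .two), (3573, .pq 3 2 397 1), (3574, .pq 2 1 1787 1), (3575, .prq 11 13 5 2),
  (3576, .two), (3577, .pq 7 2 73 1), (3578, .pq 2 1 1789 1), (3579, .pq 3 1 1193 1),
  (3580, .two), (3581, .pq 3581 1 2 0), (3582, .two), (3583, .pq 3583 1 2 0), (3584, .pq 2 9 7 1),
  (3585, .big 239), (3586, .two), (3587, .pq 17 1 211 1), (3588, .two), (3589, .pq 37 1 97 1),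
  (3590, .two), (3591, .big 19), (3592, .pq 2 3 449 1), (3593, .pq 3593 1 2 0), (3594, .two),
  (3595, .pq 5 1 719 1), (3596, .two), (3597, .big 109), (3598, .two), (3599, .pq 59 1 61 1),
  (3600, .open'), (3601, .pq 13 1 277 1), (3602, .pq 2 1 1801 1), (3603, .pq 3 1 1201 1),
  (3604, .two), (3605, .big 103), (3606, .two), (3607, .pq 3607 1 2 0), (3608, .two),
  (3609, .pq 3 2 401 1), (3610, .two), (3611, .pq 23 1 157 1), (3612, .two),
  (3613, .pq 3613 1 2 0), (3614, .two), (3615, .big 241), (3616, .pq 2 5 113 1),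
  (3617, .pq 3617 1 2 0), (3618, .two), (3619, .big 47), (3620, .two), (3621, .big 71),
  (3622, .pq 2 1 1811 1), (3623, .pq 3623 1 2 0), (3624, .two), (3625, .pq 5 3 29 1),
  (3626, .two), (3627, .big 31), (3628, .pq 2 2 907 1), (3629, .pq 19 1 191 1), (3630, .two),
  (3631, .pq 3631 1 2 0), (3632, .pq 2 4 227 1), (3633, .big 173), (3634, .two),
  (3635, .pq 5 1 727 1), (3636, .two), (3637, .pq 3637 1 2 0), (3638, .two),
  (3639, .pq 3 1 1213 1), (3640, .succ 13 280), (3641, .pq 11 1 331 1), (3642, .two),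
  (3643, .pq 3643 1 2 0), (3644, .pq 2 2 911 1), (3645, .pq 3 6 5 1), (3646, .pq 2 1 1823 1),
  (3647, .pq 7 1 521 1), (3648, .big 19), (3649, .pq 41 1 89 1), (3650, .two),
  (3651, .pq 3 1 1217 1), (3652, .two), (3653, .pq 13 1 281 1), (3654, .two), (3655, .big 43),
  (3656, .pq 2 3 457 1), (3657, .big 53), (3658, .two), (3659, .pq 3659 1 2 0), (3660, .two),
  (3661, .pq 7 1 523 1), (3662, .pq 2 1 1831 1), (3663, .big 37), (3664, .pq 2 4 229 1),
  (3665, .pq 5 1 733 1), (3666, .two), (3667, .pq 19 1 193 1), (3668, .two),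
  (3669, .pq 3 1 1223 1), (3670, .two), (3671, .pq 3671 1 2 0), (3672, .two),
  (3673, .pq 3673 1 2 0), (3674, .two), (3675, .syl 3 1 1225), (3676, .pq 2 2 919 1),
  (3677, .pq 3677 1 2 0), (3678, .two), (3679, .pq 13 1 283 1), (3680, .big 23),
  (3681, .pq 3 2 409 1), (3682, .two), (3683, .pq 29 1 127 1), (3684, .two), (3685, .big 67),
  (3686, .two), (3687, .pq 3 1 1229 1), (3688, .pq 2 3 461 1), (3689, .big 31), (3690, .two),
  (3691, .pq 3691 1 2 0), (3692, .two)]

theorem table12_ok : table12.all (fun x => check x.1 x.2) = true := by decide +kernel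

/-- Certificates for orders 3693 to 3892. -/
def table13 : List (Nat × Cert) := [
  (3693, .pq 3 1 1231 1), (3694, .pq 2 1 1847 1), (3695, .pq 5 1 739 1), (3696, .open'),
  (3697, .pq 3697 1 2 0), (3698, .pq 2 1 43 2), (3699, .pq 3 3 137 1), (3700, .two),
  (3701, .pq 3701 1 2 0), (3702, .two), (3703, .pq 7 1 23 2), (3704, .pq 2 3 463 1),
  (3705, .big 19), (3706, .two), (3707, .pq 11 1 337 1), (3708, .two), (3709, .pq 3709 1 2 0),
  (3710, .two), (3711, .pq 3 1 1237 1), (3712, .pq 2 7 29 1), (3713, .pq 47 1 79 1), (3714, .two),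
  (3715, .pq 5 1 743 1), (3716, .pq 2 2 929 1), (3717, .big 59), (3718, .two),
  (3719, .pq 3719 1 2 0), (3720, .two), (3721, .pq 61 2 2 0), (3722, .pq 2 1 1861 1),
  (3723, .big 73), (3724, .two), (3725, .pq 5 2 149 1), (3726, .two), (3727, .pq 3727 1 2 0),
  (3728, .pq 2 4 233 1), (3729, .big 113), (3730, .two), (3731, .big 41), (3732, .two),
  (3733, .pq 3733 1 2 0), (3734, .pq 2 1 1867 1), (3735, .big 83), (3736, .pq 2 3 467 1),
  (3737, .pq 37 1 101 1), (3738, .two), (3739, .pq 3739 1 2 0), (3740, .two), (3741, .big 43),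
  (3742, .pq 2 1 1871 1), (3743, .pq 19 1 197 1), (3744, .quot 13 2 5 9), (3745, .big 107),
  (3746, .pq 2 1 1873 1), (3747, .pq 3 1 1249 1), (3748, .pq 2 2 937 1), (3749, .pq 23 1 163 1),
  (3750, .two), (3751, .pq 11 2 31 1), (3752, .big 67), (3753, .pq 3 3 139 1),
  (3754, .pq 2 1 1877 1), (3755, .pq 5 1 751 1), (3756, .two), (3757, .pq 13 1 17 2),
  (3758, .pq 2 1 1879 1), (3759, .big 179), (3760, .big 47), (3761, .pq 3761 1 2 0), (3762, .two),
  (3763, .pq 53 1 71 1), (3764, .pq 2 2 941 1), (3765, .big 251), (3766, .two),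
  (3767, .pq 3767 1 2 0), (3768, .two), (3769, .pq 3769 1 2 0), (3770, .two),
  (3771, .pq 3 2 419 1), (3772, .two), (3773, .pq 7 3 11 1), (3774, .two), (3775, .pq 5 2 151 1),
  (3776, .pq 2 6 59 1), (3777, .pq 3 1 1259 1), (3778, .pq 2 1 1889 1), (3779, .pq 3779 1 2 0),
  (3780, .two), (3781, .pq 19 1 199 1), (3782, .two), (3783, .big 97), (3784, .two),
  (3785, .pq 5 1 757 1), (3786, .two), (3787, .pq 7 1 541 1), (3788, .pq 2 2 947 1),
  (3789, .pq 3 2 421 1), (3790, .two), (3791, .pq 17 1 223 1), (3792, .big 79),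
  (3793, .pq 3793 1 2 0), (3794, .two), (3795, .big 23), (3796, .two), (3797, .pq 3797 1 2 0),
  (3798, .two), (3799, .pq 29 1 131 1), (3800, .two), (3801, .big 181), (3802, .pq 2 1 1901 1),
  (3803, .pq 3803 1 2 0), (3804, .two), (3805, .pq 5 1 761 1), (3806, .two), (3807, .pq 3 4 47 1),
  (3808, .big 17), (3809, .pq 13 1 293 1), (3810, .two), (3811, .pq 37 1 103 1),
  (3812, .pq 2 2 953 1), (3813, .big 41), (3814, .pq 2 1 1907 1), (3815, .big 109), (3816, .two),
  (3817, .pq 11 1 347 1), (3818, .two), (3819, .big 67), (3820, .two), (3821, .pq 3821 1 2 0),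
  (3822, .two), (3823, .pq 3823 1 2 0), (3824, .pq 2 4 239 1), (3825, .big 17),
  (3826, .pq 2 1 1913 1), (3827, .pq 43 1 89 1), (3828, .two), (3829, .pq 7 1 547 1),
  (3830, .two), (3831, .pq 3 1 1277 1), (3832, .pq 2 3 479 1), (3833, .pq 3833 1 2 0),
  (3834, .two), (3835, .big 59), (3836, .two), (3837, .pq 3 1 1279 1), (3838, .two),
  (3839, .pq 11 1 349 1), (3840, .prq 3 5 2 8), (3841, .pq 23 1 167 1), (3842, .two),
  (3843, .big 61), (3844, .pq 2 2 31 2), (3845, .pq 5 1 769 1), (3846, .two),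
  (3847, .pq 3847 1 2 0), (3848, .two), (3849, .pq 3 1 1283 1), (3850, .two),
  (3851, .pq 3851 1 2 0), (3852, .two), (3853, .pq 3853 1 2 0), (3854, .two), (3855, .big 257),
  (3856, .pq 2 4 241 1), (3857, .big 29), (3858, .two), (3859, .pq 17 1 227 1), (3860, .two),
  (3861, .prq 11 13 3 3), (3862, .pq 2 1 1931 1), (3863, .pq 3863 1 2 0), (3864, .big 23),
  (3865, .pq 5 1 773 1), (3866, .pq 2 1 1933 1), (3867, .pq 3 1 1289 1), (3868, .pq 2 2 967 1),
  (3869, .pq 53 1 73 1), (3870, .two), (3871, .pq 7 2 79 1), (3872, .pq 2 5 11 2),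
  (3873, .pq 3 1 1291 1), (3874, .two), (3875, .pq 5 3 31 1), (3876, .two),
  (3877, .pq 3877 1 2 0), (3878, .two), (3879, .pq 3 2 431 1), (3880, .two),
  (3881, .pq 3881 1 2 0), (3882, .two), (3883, .pq 11 1 353 1), (3884, .pq 2 2 971 1),
  (3885, .big 37), (3886, .two), (3887, .pq 13 2 23 1), (3888, .pq 2 4 3 5),
  (3889, .pq 3889 1 2 0), (3890, .two), (3891, .pq 3 1 1297 1), (3892, .two)]

theorem table13_ok : table13.all (fun x => check x.1 x.2) = true := by decide +kernel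

/-- Certificates for orders 3893 to 4092. -/
def table14 : List (Nat × Cert) := [
  (3893, .pq 17 1 229 1), (3894, .two), (3895, .big 41), (3896, .pq 2 3 487 1),
  (3897, .pq 3 2 433 1), (3898, .pq 2 1 1949 1), (3899, .pq 7 1 557 1), (3900, .two),
  (3901, .pq 47 1 83 1), (3902, .pq 2 1 1951 1), (3903, .pq 3 1 1301 1), (3904, .pq 2 6 61 1),
  (3905, .big 71), (3906, .two), (3907, .pq 3907 1 2 0), (3908, .pq 2 2 977 1),
  (3909, .pq 3 1 1303 1), (3910, .two), (3911, .pq 3911 1 2 0), (3912, .two), (3913, .big 43),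
  (3914, .two), (3915, .big 29), (3916, .two), (3917, .pq 3917 1 2 0), (3918, .two),
  (3919, .pq 3919 1 2 0), (3920, .syl 7 2 80), (3921, .pq 3 1 1307 1), (3922, .two),
  (3923, .pq 3923 1 2 0), (3924, .two), (3925, .pq 5 2 157 1), (3926, .two), (3927, .big 17),
  (3928, .pq 2 3 491 1), (3929, .pq 3929 1 2 0), (3930, .two), (3931, .pq 3931 1 2 0),
  (3932, .pq 2 2 983 1), (3933, .big 23), (3934, .two), (3935, .pq 5 1 787 1), (3936, .big 41),
  (3937, .pq 31 1 127 1), (3938, .two), (3939, .big 101), (3940, .two), (3941, .pq 7 1 563 1),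
  (3942, .two), (3943, .pq 3943 1 2 0), (3944, .two), (3945, .big 263), (3946, .pq 2 1 1973 1),
  (3947, .pq 3947 1 2 0), (3948, .two), (3949, .pq 11 1 359 1), (3950, .two),
  (3951, .pq 3 2 439 1), (3952, .big 19), (3953, .pq 59 1 67 1), (3954, .two), (3955, .big 113),
  (3956, .two), (3957, .pq 3 1 1319 1), (3958, .pq 2 1 1979 1), (3959, .pq 37 1 107 1),
  (3960, .two), (3961, .pq 17 1 233 1), (3962, .two), (3963, .pq 3 1 1321 1),
  (3964, .pq 2 2 991 1), (3965, .big 61), (3966, .two), (3967, .pq 3967 1 2 0),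
  (3968, .pq 2 7 31 1), (3969, .pq 3 4 7 2), (3970, .two), (3971, .pq 11 1 19 2), (3972, .two),
  (3973, .pq 29 1 137 1), (3974, .pq 2 1 1987 1), (3975, .big 53), (3976, .big 71),
  (3977, .pq 41 1 97 1), (3978, .two), (3979, .pq 23 1 173 1), (3980, .two),
  (3981, .pq 3 1 1327 1), (3982, .two), (3983, .pq 7 1 569 1), (3984, .big 83),
  (3985, .pq 5 1 797 1), (3986, .pq 2 1 1993 1), (3987, .pq 3 2 443 1), (3988, .pq 2 2 997 1),
  (3989, .pq 3989 1 2 0), (3990, .two), (3991, .pq 13 1 307 1), (3992, .pq 2 3 499 1),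
  (3993, .pq 3 1 11 3), (3994, .pq 2 1 1997 1), (3995, .big 47), (3996, .two),
  (3997, .pq 7 1 571 1), (3998, .pq 2 1 1999 1), (3999, .big 43), (4000, .pq 2 5 5 3),
  (4001, .pq 4001 1 2 0), (4002, .two), (4003, .pq 4003 1 2 0), (4004, .two), (4005, .big 89),
  (4006, .pq 2 1 2003 1), (4007, .pq 4007 1 2 0), (4008, .two), (4009, .pq 19 1 211 1),
  (4010, .two), (4011, .big 191), (4012, .two), (4013, .pq 4013 1 2 0), (4014, .two),
  (4015, .big 73), (4016, .pq 2 4 251 1), (4017, .big 103), (4018, .two), (4019, .pq 4019 1 2 0),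
  (4020, .two), (4021, .pq 4021 1 2 0), (4022, .pq 2 1 2011 1), (4023, .pq 3 3 149 1),
  (4024, .pq 2 3 503 1), (4025, .big 23), (4026, .two), (4027, .pq 4027 1 2 0), (4028, .two),
  (4029, .big 79), (4030, .two), (4031, .pq 29 1 139 1), (4032, .open'), (4033, .pq 37 1 109 1),
  (4034, .pq 2 1 2017 1), (4035, .big 269), (4036, .pq 2 2 1009 1), (4037, .pq 11 1 367 1),
  (4038, .two), (4039, .pq 7 1 577 1), (4040, .two), (4041, .pq 3 2 449 1), (4042, .two),
  (4043, .pq 13 1 311 1), (4044, .two), (4045, .pq 5 1 809 1), (4046, .two), (4047, .big 71),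
  (4048, .big 23), (4049, .pq 4049 1 2 0), (4050, .two), (4051, .pq 4051 1 2 0),
  (4052, .pq 2 2 1013 1), (4053, .big 193), (4054, .pq 2 1 2027 1), (4055, .pq 5 1 811 1),
  (4056, .two), (4057, .pq 4057 1 2 0), (4058, .pq 2 1 2029 1), (4059, .big 41), (4060, .two),
  (4061, .pq 31 1 131 1), (4062, .two), (4063, .pq 17 1 239 1), (4064, .pq 2 5 127 1),
  (4065, .big 271), (4066, .two), (4067, .pq 7 2 83 1), (4068, .two), (4069, .pq 13 1 313 1),
  (4070, .two), (4071, .big 59), (4072, .pq 2 3 509 1), (4073, .pq 4073 1 2 0), (4074, .two),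
  (4075, .pq 5 2 163 1), (4076, .pq 2 2 1019 1), (4077, .pq 3 3 151 1), (4078, .pq 2 1 2039 1),
  (4079, .pq 4079 1 2 0), (4080, .open'), (4081, .big 53), (4082, .two), (4083, .pq 3 1 1361 1),
  (4084, .pq 2 2 1021 1), (4085, .big 43), (4086, .two), (4087, .pq 61 1 67 1), (4088, .big 73),
  (4089, .big 47), (4090, .two), (4091, .pq 4091 1 2 0), (4092, .two)]

theorem table14_ok : table14.all (fun x => check x.1 x.2) = true := by decide +kernel

/-- Certificates for orders 4093 to 4292. -/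
def table15 : List (Nat × Cert) := [
  (4093, .pq 4093 1 2 0), (4094, .two), (4095, .syl 5 1 819), (4096, .pq 2 12 3 0),
  (4097, .pq 17 1 241 1), (4098, .two), (4099, .pq 4099 1 2 0), (4100, .two),
  (4101, .pq 3 1 1367 1), (4102, .two), (4103, .pq 11 1 373 1), (4104, .two),
  (4105, .pq 5 1 821 1), (4106, .pq 2 1 2053 1), (4107, .pq 3 1 37 2), (4108, .two),
  (4109, .pq 7 1 587 1), (4110, .two), (4111, .pq 4111 1 2 0), (4112, .pq 2 4 257 1),
  (4113, .pq 3 2 457 1), (4114, .two), (4115, .pq 5 1 823 1), (4116, .two),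
  (4117, .pq 23 1 179 1), (4118, .two), (4119, .pq 3 1 1373 1), (4120, .two),
  (4121, .pq 13 1 317 1), (4122, .two), (4123, .big 31), (4124, .pq 2 2 1031 1),
  (4125, .prq 3 11 5 3), (4126, .pq 2 1 2063 1), (4127, .pq 4127 1 2 0), (4128, .big 43),
  (4129, .pq 4129 1 2 0), (4130, .two), (4131, .pq 3 5 17 1), (4132, .pq 2 2 1033 1),
  (4133, .pq 4133 1 2 0), (4134, .two), (4135, .pq 5 1 827 1), (4136, .two), (4137, .big 197),
  (4138, .pq 2 1 2069 1), (4139, .pq 4139 1 2 0), (4140, .two), (4141, .pq 41 1 101 1),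
  (4142, .two), (4143, .pq 3 1 1381 1), (4144, .big 37), (4145, .pq 5 1 829 1), (4146, .two),
  (4147, .big 29), (4148, .two), (4149, .pq 3 2 461 1), (4150, .two), (4151, .pq 7 1 593 1),
  (4152, .two), (4153, .pq 4153 1 2 0), (4154, .two), (4155, .big 277), (4156, .pq 2 2 1039 1),
  (4157, .pq 4157 1 2 0), (4158, .two), (4159, .pq 4159 1 2 0), (4160, .prq 5 13 2 6),
  (4161, .big 73), (4162, .pq 2 1 2081 1), (4163, .pq 23 1 181 1), (4164, .two), (4165, .big 17),
  (4166, .pq 2 1 2083 1), (4167, .pq 3 2 463 1), (4168, .pq 2 3 521 1), (4169, .pq 11 1 379 1),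
  (4170, .two), (4171, .pq 43 1 97 1), (4172, .two), (4173, .big 107), (4174, .pq 2 1 2087 1),
  (4175, .pq 5 2 167 1), (4176, .big 29), (4177, .pq 4177 1 2 0), (4178, .pq 2 1 2089 1),
  (4179, .big 199), (4180, .two), (4181, .pq 37 1 113 1), (4182, .two), (4183, .pq 47 1 89 1),
  (4184, .pq 2 3 523 1), (4185, .big 31), (4186, .two), (4187, .pq 53 1 79 1), (4188, .two),
  (4189, .pq 59 1 71 1), (4190, .two), (4191, .big 127), (4192, .pq 2 5 131 1),
  (4193, .pq 7 1 599 1), (4194, .two), (4195, .pq 5 1 839 1), (4196, .pq 2 2 1049 1),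
  (4197, .pq 3 1 1399 1), (4198, .pq 2 1 2099 1), (4199, .big 19), (4200, .open'),
  (4201, .pq 4201 1 2 0), (4202, .two), (4203, .pq 3 2 467 1), (4204, .pq 2 2 1051 1),
  (4205, .pq 5 1 29 2), (4206, .two), (4207, .pq 7 1 601 1), (4208, .pq 2 4 263 1),
  (4209, .big 61), (4210, .two), (4211, .pq 4211 1 2 0), (4212, .two), (4213, .pq 11 1 383 1),
  (4214, .two), (4215, .big 281), (4216, .two), (4217, .pq 4217 1 2 0), (4218, .two),
  (4219, .pq 4219 1 2 0), (4220, .two), (4221, .big 67), (4222, .pq 2 1 2111 1),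
  (4223, .pq 41 1 103 1), (4224, .prq 3 11 2 7), (4225, .pq 5 2 13 2), (4226, .pq 2 1 2113 1),
  (4227, .pq 3 1 1409 1), (4228, .two), (4229, .pq 4229 1 2 0), (4230, .two),
  (4231, .pq 4231 1 2 0), (4232, .pq 2 3 23 2), (4233, .big 83), (4234, .two),
  (4235, .prq 5 7 11 2), (4236, .two), (4237, .pq 19 1 223 1), (4238, .two),
  (4239, .pq 3 3 157 1), (4240, .big 53), (4241, .pq 4241 1 2 0), (4242, .two),
  (4243, .pq 4243 1 2 0), (4244, .pq 2 2 1061 1), (4245, .big 283), (4246, .two),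
  (4247, .pq 31 1 137 1), (4248, .two), (4249, .pq 7 1 607 1), (4250, .two), (4251, .big 109),
  (4252, .pq 2 2 1063 1), (4253, .pq 4253 1 2 0), (4254, .two), (4255, .big 37), (4256, .big 19),
  (4257, .big 43), (4258, .pq 2 1 2129 1), (4259, .pq 4259 1 2 0), (4260, .two),
  (4261, .pq 4261 1 2 0), (4262, .pq 2 1 2131 1), (4263, .big 29), (4264, .two),
  (4265, .pq 5 1 853 1), (4266, .two), (4267, .pq 17 1 251 1), (4268, .two),
  (4269, .pq 3 1 1423 1), (4270, .two), (4271, .pq 4271 1 2 0), (4272, .big 89),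
  (4273, .pq 4273 1 2 0), (4274, .pq 2 1 2137 1), (4275, .big 19), (4276, .pq 2 2 1069 1),
  (4277, .big 47), (4278, .two), (4279, .pq 11 1 389 1), (4280, .two), (4281, .pq 3 1 1427 1),
  (4282, .pq 2 1 2141 1), (4283, .pq 4283 1 2 0), (4284, .two), (4285, .pq 5 1 857 1),
  (4286, .pq 2 1 2143 1), (4287, .pq 3 1 1429 1), (4288, .pq 2 6 67 1), (4289, .pq 4289 1 2 0),
  (4290, .two), (4291, .pq 7 1 613 1), (4292, .two)]

theorem table15_ok : table15.all (fun x => check x.1 x.2) = true := by decide +kernel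

/-- Certificates for orders 4293 to 4492. -/
def table16 : List (Nat × Cert) := [
  (4293, .pq 3 4 53 1), (4294, .two), (4295, .pq 5 1 859 1), (4296, .two), (4297, .pq 4297 1 2 0),
  (4298, .two), (4299, .pq 3 1 1433 1), (4300, .two), (4301, .big 23), (4302, .two),
  (4303, .pq 13 1 331 1), (4304, .pq 2 4 269 1), (4305, .big 41), (4306, .pq 2 1 2153 1),
  (4307, .pq 59 1 73 1), (4308, .two), (4309, .pq 31 1 139 1), (4310, .two),
  (4311, .pq 3 2 479 1), (4312, .quot 11 7 2 8), (4313, .pq 19 1 227 1), (4314, .two),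
  (4315, .pq 5 1 863 1), (4316, .two), (4317, .pq 3 1 1439 1), (4318, .two),
  (4319, .pq 7 1 617 1), (4320, .open'), (4321, .pq 29 1 149 1), (4322, .pq 2 1 2161 1),
  (4323, .big 131), (4324, .two), (4325, .pq 5 2 173 1), (4326, .two), (4327, .pq 4327 1 2 0),
  (4328, .pq 2 3 541 1), (4329, .big 37), (4330, .two), (4331, .pq 61 1 71 1), (4332, .two),
  (4333, .pq 7 1 619 1), (4334, .two), (4335, .big 17), (4336, .pq 2 4 271 1),
  (4337, .pq 4337 1 2 0), (4338, .two), (4339, .pq 4339 1 2 0), (4340, .two),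
  (4341, .pq 3 1 1447 1), (4342, .two), (4343, .pq 43 1 101 1), (4344, .two), (4345, .big 79),
  (4346, .two), (4347, .big 23), (4348, .pq 2 2 1087 1), (4349, .pq 4349 1 2 0), (4350, .two),
  (4351, .pq 19 1 229 1), (4352, .pq 2 8 17 1), (4353, .pq 3 1 1451 1), (4354, .two),
  (4355, .big 67), (4356, .two), (4357, .pq 4357 1 2 0), (4358, .pq 2 1 2179 1),
  (4359, .pq 3 1 1453 1), (4360, .two), (4361, .pq 7 2 89 1), (4362, .two),
  (4363, .pq 4363 1 2 0), (4364, .pq 2 2 1091 1), (4365, .big 97), (4366, .two),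
  (4367, .pq 11 1 397 1), (4368, .succ 13 336), (4369, .pq 17 1 257 1), (4370, .two),
  (4371, .big 47), (4372, .pq 2 2 1093 1), (4373, .pq 4373 1 2 0), (4374, .pq 2 1 3 7),
  (4375, .pq 5 4 7 1), (4376, .pq 2 3 547 1), (4377, .pq 3 1 1459 1), (4378, .two),
  (4379, .pq 29 1 151 1), (4380, .two), (4381, .pq 13 1 337 1), (4382, .two),
  (4383, .pq 3 2 487 1), (4384, .pq 2 5 137 1), (4385, .pq 5 1 877 1), (4386, .two),
  (4387, .pq 41 1 107 1), (4388, .pq 2 2 1097 1), (4389, .big 19), (4390, .two),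
  (4391, .pq 4391 1 2 0), (4392, .two), (4393, .pq 23 1 191 1), (4394, .pq 2 1 13 3),
  (4395, .big 293), (4396, .two), (4397, .pq 4397 1 2 0), (4398, .two), (4399, .pq 53 1 83 1),
  (4400, .open'), (4401, .pq 3 3 163 1), (4402, .two), (4403, .big 37), (4404, .two),
  (4405, .pq 5 1 881 1), (4406, .pq 2 1 2203 1), (4407, .big 113), (4408, .two),
  (4409, .pq 4409 1 2 0), (4410, .two), (4411, .pq 11 1 401 1), (4412, .pq 2 2 1103 1),
  (4413, .pq 3 1 1471 1), (4414, .pq 2 1 2207 1), (4415, .pq 5 1 883 1), (4416, .big 23),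
  (4417, .pq 7 1 631 1), (4418, .pq 2 1 47 2), (4419, .pq 3 2 491 1), (4420, .two),
  (4421, .pq 4421 1 2 0), (4422, .two), (4423, .pq 4423 1 2 0), (4424, .big 79), (4425, .big 59),
  (4426, .pq 2 1 2213 1), (4427, .pq 19 1 233 1), (4428, .two), (4429, .pq 43 1 103 1),
  (4430, .two), (4431, .big 211), (4432, .pq 2 4 277 1), (4433, .big 31), (4434, .two),
  (4435, .pq 5 1 887 1), (4436, .pq 2 2 1109 1), (4437, .big 29), (4438, .two),
  (4439, .pq 23 1 193 1), (4440, .two), (4441, .pq 4441 1 2 0), (4442, .pq 2 1 2221 1),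
  (4443, .pq 3 1 1481 1), (4444, .two), (4445, .big 127), (4446, .two), (4447, .pq 4447 1 2 0),
  (4448, .pq 2 5 139 1), (4449, .pq 3 1 1483 1), (4450, .two), (4451, .pq 4451 1 2 0),
  (4452, .two), (4453, .pq 61 1 73 1), (4454, .two), (4455, .prq 5 11 3 4), (4456, .pq 2 3 557 1),
  (4457, .pq 4457 1 2 0), (4458, .two), (4459, .pq 7 3 13 1), (4460, .two),
  (4461, .pq 3 1 1487 1), (4462, .two), (4463, .pq 4463 1 2 0), (4464, .big 31), (4465, .big 47),
  (4466, .two), (4467, .pq 3 1 1489 1), (4468, .pq 2 2 1117 1), (4469, .pq 41 1 109 1),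
  (4470, .two), (4471, .pq 17 1 263 1), (4472, .two), (4473, .big 71), (4474, .pq 2 1 2237 1),
  (4475, .pq 5 2 179 1), (4476, .two), (4477, .pq 11 2 37 1), (4478, .pq 2 1 2239 1),
  (4479, .pq 3 1 1493 1), (4480, .prq 5 7 2 7), (4481, .pq 4481 1 2 0), (4482, .two),
  (4483, .pq 4483 1 2 0), (4484, .two), (4485, .big 23), (4486, .pq 2 1 2243 1),
  (4487, .pq 7 1 641 1), (4488, .two), (4489, .pq 67 2 2 0), (4490, .two), (4491, .pq 3 2 499 1),
  (4492, .pq 2 2 1123 1)]

theorem table16_ok : table16.all (fun x => check x.1 x.2) = true := by decide +kernel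

/-- Certificates for orders 4493 to 4692. -/
def table17 : List (Nat × Cert) := [
  (4493, .pq 4493 1 2 0), (4494, .two), (4495, .big 31), (4496, .pq 2 4 281 1),
  (4497, .pq 3 1 1499 1), (4498, .two), (4499, .pq 11 1 409 1), (4500, .two),
  (4501, .pq 7 1 643 1), (4502, .pq 2 1 2251 1), (4503, .big 79), (4504, .pq 2 3 563 1),
  (4505, .big 53), (4506, .two), (4507, .pq 4507 1 2 0), (4508, .two), (4509, .pq 3 3 167 1),
  (4510, .two), (4511, .pq 13 1 347 1), (4512, .big 47), (4513, .pq 4513 1 2 0), (4514, .two),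
  (4515, .big 43), (4516, .pq 2 2 1129 1), (4517, .pq 4517 1 2 0), (4518, .two),
  (4519, .pq 4519 1 2 0), (4520, .two), (4521, .big 137), (4522, .two), (4523, .pq 4523 1 2 0),
  (4524, .two), (4525, .pq 5 2 181 1), (4526, .two), (4527, .pq 3 2 503 1), (4528, .pq 2 4 283 1),
  (4529, .pq 7 1 647 1), (4530, .two), (4531, .pq 23 1 197 1), (4532, .two),
  (4533, .pq 3 1 1511 1), (4534, .pq 2 1 2267 1), (4535, .pq 5 1 907 1), (4536, .selfC 7 4 3),
  (4537, .pq 13 1 349 1), (4538, .pq 2 1 2269 1), (4539, .big 89), (4540, .two),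
  (4541, .pq 19 1 239 1), (4542, .two), (4543, .big 59), (4544, .pq 2 6 71 1), (4545, .big 101),
  (4546, .pq 2 1 2273 1), (4547, .pq 4547 1 2 0), (4548, .two), (4549, .pq 4549 1 2 0),
  (4550, .two), (4551, .big 41), (4552, .pq 2 3 569 1), (4553, .pq 29 1 157 1), (4554, .two),
  (4555, .pq 5 1 911 1), (4556, .two), (4557, .big 31), (4558, .two), (4559, .pq 47 1 97 1),
  (4560, .big 19), (4561, .pq 4561 1 2 0), (4562, .pq 2 1 2281 1), (4563, .pq 3 3 13 2),
  (4564, .two), (4565, .big 83), (4566, .two), (4567, .pq 4567 1 2 0), (4568, .pq 2 3 571 1),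
  (4569, .pq 3 1 1523 1), (4570, .two), (4571, .pq 7 1 653 1), (4572, .two),
  (4573, .pq 17 1 269 1), (4574, .pq 2 1 2287 1), (4575, .big 61), (4576, .prq 11 13 2 5),
  (4577, .pq 23 1 199 1), (4578, .two), (4579, .pq 19 1 241 1), (4580, .two),
  (4581, .pq 3 2 509 1), (4582, .two), (4583, .pq 4583 1 2 0), (4584, .two), (4585, .big 131),
  (4586, .pq 2 1 2293 1), (4587, .big 139), (4588, .two), (4589, .pq 13 1 353 1), (4590, .two),
  (4591, .pq 4591 1 2 0), (4592, .big 41), (4593, .pq 3 1 1531 1), (4594, .pq 2 1 2297 1),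
  (4595, .pq 5 1 919 1), (4596, .two), (4597, .pq 4597 1 2 0), (4598, .two), (4599, .big 73),
  (4600, .two), (4601, .pq 43 1 107 1), (4602, .two), (4603, .pq 4603 1 2 0),
  (4604, .pq 2 2 1151 1), (4605, .big 307), (4606, .two), (4607, .pq 17 1 271 1),
  (4608, .pq 2 9 3 2), (4609, .pq 11 1 419 1), (4610, .two), (4611, .big 53),
  (4612, .pq 2 2 1153 1), (4613, .pq 7 1 659 1), (4614, .two), (4615, .big 71),
  (4616, .pq 2 3 577 1), (4617, .pq 3 5 19 1), (4618, .pq 2 1 2309 1), (4619, .pq 31 1 149 1),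
  (4620, .two), (4621, .pq 4621 1 2 0), (4622, .pq 2 1 2311 1), (4623, .big 67),
  (4624, .pq 2 4 17 2), (4625, .pq 5 3 37 1), (4626, .two), (4627, .pq 7 1 661 1), (4628, .two),
  (4629, .pq 3 1 1543 1), (4630, .two), (4631, .pq 11 1 421 1), (4632, .two),
  (4633, .pq 41 1 113 1), (4634, .two), (4635, .big 103), (4636, .two), (4637, .pq 4637 1 2 0),
  (4638, .two), (4639, .pq 4639 1 2 0), (4640, .big 29), (4641, .big 17), (4642, .two),
  (4643, .pq 4643 1 2 0), (4644, .two), (4645, .pq 5 1 929 1), (4646, .two),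
  (4647, .pq 3 1 1549 1), (4648, .big 83), (4649, .pq 4649 1 2 0), (4650, .two),
  (4651, .pq 4651 1 2 0), (4652, .pq 2 2 1163 1), (4653, .big 47), (4654, .two), (4655, .big 19),
  (4656, .big 97), (4657, .pq 4657 1 2 0), (4658, .two), (4659, .pq 3 1 1553 1), (4660, .two),
  (4661, .pq 59 1 79 1), (4662, .two), (4663, .pq 4663 1 2 0), (4664, .two), (4665, .big 311),
  (4666, .pq 2 1 2333 1), (4667, .pq 13 1 359 1), (4668, .two), (4669, .big 29), (4670, .two),
  (4671, .pq 3 3 173 1), (4672, .pq 2 6 73 1), (4673, .pq 4673 1 2 0), (4674, .two),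
  (4675, .big 17), (4676, .two), (4677, .pq 3 1 1559 1), (4678, .pq 2 1 2339 1),
  (4679, .pq 4679 1 2 0), (4680, .two), (4681, .pq 31 1 151 1), (4682, .pq 2 1 2341 1),
  (4683, .big 223), (4684, .pq 2 2 1171 1), (4685, .pq 5 1 937 1), (4686, .two),
  (4687, .pq 43 1 109 1), (4688, .pq 2 4 293 1), (4689, .pq 3 2 521 1), (4690, .two),
  (4691, .pq 4691 1 2 0), (4692, .two)]

theorem table17_ok : table17.all (fun x => check x.1 x.2) = true := by decide +kernel

/-- Certificates for orders 4693 to 4892. -/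
def table18 : List (Nat × Cert) := [
  (4693, .pq 13 1 19 2), (4694, .pq 2 1 2347 1), (4695, .big 313), (4696, .pq 2 3 587 1),
  (4697, .big 61), (4698, .two), (4699, .pq 37 1 127 1), (4700, .two), (4701, .pq 3 1 1567 1),
  (4702, .pq 2 1 2351 1), (4703, .pq 4703 1 2 0), (4704, .syl 7 2 96), (4705, .pq 5 1 941 1),
  (4706, .two), (4707, .pq 3 2 523 1), (4708, .two), (4709, .pq 17 1 277 1), (4710, .two),
  (4711, .pq 7 1 673 1), (4712, .two), (4713, .pq 3 1 1571 1), (4714, .pq 2 1 2357 1),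
  (4715, .big 41), (4716, .two), (4717, .pq 53 1 89 1), (4718, .two), (4719, .prq 3 13 11 2),
  (4720, .big 59), (4721, .pq 4721 1 2 0), (4722, .two), (4723, .pq 4723 1 2 0),
  (4724, .pq 2 2 1181 1), (4725, .open'), (4726, .two), (4727, .pq 29 1 163 1), (4728, .two),
  (4729, .pq 4729 1 2 0), (4730, .two), (4731, .big 83), (4732, .two), (4733, .pq 4733 1 2 0),
  (4734, .two), (4735, .pq 5 1 947 1), (4736, .pq 2 7 37 1), (4737, .pq 3 1 1579 1), (4738, .two),
  (4739, .pq 7 1 677 1), (4740, .two), (4741, .pq 11 1 431 1), (4742, .pq 2 1 2371 1),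
  (4743, .big 31), (4744, .pq 2 3 593 1), (4745, .big 73), (4746, .two), (4747, .pq 47 1 101 1),
  (4748, .pq 2 2 1187 1), (4749, .pq 3 1 1583 1), (4750, .two), (4751, .pq 4751 1 2 0),
  (4752, .succ 11 432), (4753, .pq 7 2 97 1), (4754, .pq 2 1 2377 1), (4755, .big 317),
  (4756, .two), (4757, .pq 67 1 71 1), (4758, .two), (4759, .pq 4759 1 2 0), (4760, .big 17),
  (4761, .pq 3 2 23 2), (4762, .pq 2 1 2381 1), (4763, .pq 11 1 433 1), (4764, .two),
  (4765, .pq 5 1 953 1), (4766, .pq 2 1 2383 1), (4767, .big 227), (4768, .pq 2 5 149 1),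
  (4769, .pq 19 1 251 1), (4770, .two), (4771, .pq 13 1 367 1), (4772, .pq 2 2 1193 1),
  (4773, .big 43), (4774, .two), (4775, .pq 5 2 191 1), (4776, .two), (4777, .pq 17 1 281 1),
  (4778, .pq 2 1 2389 1), (4779, .pq 3 4 59 1), (4780, .two), (4781, .pq 7 1 683 1), (4782, .two),
  (4783, .pq 4783 1 2 0), (4784, .big 23), (4785, .big 29), (4786, .pq 2 1 2393 1),
  (4787, .pq 4787 1 2 0), (4788, .two), (4789, .pq 4789 1 2 0), (4790, .two),
  (4791, .pq 3 1 1597 1), (4792, .pq 2 3 599 1), (4793, .pq 4793 1 2 0), (4794, .two),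
  (4795, .big 137), (4796, .two), (4797, .big 41), (4798, .pq 2 1 2399 1), (4799, .pq 4799 1 2 0),
  (4800, .open'), (4801, .pq 4801 1 2 0), (4802, .pq 2 1 7 4), (4803, .pq 3 1 1601 1),
  (4804, .pq 2 2 1201 1), (4805, .pq 5 1 31 2), (4806, .two), (4807, .big 23),
  (4808, .pq 2 3 601 1), (4809, .big 229), (4810, .two), (4811, .pq 17 1 283 1), (4812, .two),
  (4813, .pq 4813 1 2 0), (4814, .two), (4815, .big 107), (4816, .big 43), (4817, .pq 4817 1 2 0),
  (4818, .two), (4819, .pq 61 1 79 1), (4820, .two), (4821, .pq 3 1 1607 1),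
  (4822, .pq 2 1 2411 1), (4823, .big 53), (4824, .two), (4825, .pq 5 2 193 1), (4826, .two),
  (4827, .pq 3 1 1609 1), (4828, .two), (4829, .pq 11 1 439 1), (4830, .two),
  (4831, .pq 4831 1 2 0), (4832, .pq 2 5 151 1), (4833, .pq 3 3 179 1), (4834, .pq 2 1 2417 1),
  (4835, .pq 5 1 967 1), (4836, .two), (4837, .pq 7 1 691 1), (4838, .two),
  (4839, .pq 3 1 1613 1), (4840, .two), (4841, .pq 47 1 103 1), (4842, .two),
  (4843, .pq 29 1 167 1), (4844, .two), (4845, .big 19), (4846, .pq 2 1 2423 1),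
  (4847, .pq 37 1 131 1), (4848, .big 101), (4849, .pq 13 1 373 1), (4850, .two),
  (4851, .quot 11 7 2 9), (4852, .pq 2 2 1213 1), (4853, .pq 23 1 211 1), (4854, .two),
  (4855, .pq 5 1 971 1), (4856, .pq 2 3 607 1), (4857, .pq 3 1 1619 1), (4858, .two),
  (4859, .pq 43 1 113 1), (4860, .two), (4861, .pq 4861 1 2 0), (4862, .two),
  (4863, .pq 3 1 1621 1), (4864, .pq 2 8 19 1), (4865, .big 139), (4866, .two),
  (4867, .pq 31 1 157 1), (4868, .pq 2 2 1217 1), (4869, .pq 3 2 541 1), (4870, .two),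
  (4871, .pq 4871 1 2 0), (4872, .big 29), (4873, .pq 11 1 443 1), (4874, .pq 2 1 2437 1),
  (4875, .prq 3 13 5 3), (4876, .two), (4877, .pq 4877 1 2 0), (4878, .two), (4879, .big 41),
  (4880, .big 61), (4881, .pq 3 1 1627 1), (4882, .pq 2 1 2441 1), (4883, .pq 19 1 257 1),
  (4884, .two), (4885, .pq 5 1 977 1), (4886, .two), (4887, .pq 3 3 181 1), (4888, .two),
  (4889, .pq 4889 1 2 0), (4890, .two), (4891, .pq 67 1 73 1), (4892, .pq 2 2 1223 1)]

theorem table18_ok : table18.all (fun x => check x.1 x.2) = true := by decide +kernel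

/-- Certificates for orders 4893 to 5092. -/
def table19 : List (Nat × Cert) := [
  (4893, .big 233), (4894, .pq 2 1 2447 1), (4895, .big 89), (4896, .big 17),
  (4897, .pq 59 1 83 1), (4898, .two), (4899, .big 71), (4900, .two), (4901, .pq 13 2 29 1),
  (4902, .two), (4903, .pq 4903 1 2 0), (4904, .pq 2 3 613 1), (4905, .big 109), (4906, .two),
  (4907, .pq 7 1 701 1), (4908, .two), (4909, .pq 4909 1 2 0), (4910, .two),
  (4911, .pq 3 1 1637 1), (4912, .pq 2 4 307 1), (4913, .pq 17 3 2 0), (4914, .two),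
  (4915, .pq 5 1 983 1), (4916, .pq 2 2 1229 1), (4917, .big 149), (4918, .pq 2 1 2459 1),
  (4919, .pq 4919 1 2 0), (4920, .two), (4921, .big 37), (4922, .two), (4923, .pq 3 2 547 1),
  (4924, .pq 2 2 1231 1), (4925, .pq 5 2 197 1), (4926, .two), (4927, .pq 13 1 379 1),
  (4928, .prq 7 11 2 6), (4929, .big 53), (4930, .two), (4931, .pq 4931 1 2 0), (4932, .two),
  (4933, .pq 4933 1 2 0), (4934, .pq 2 1 2467 1), (4935, .big 47), (4936, .pq 2 3 617 1),
  (4937, .pq 4937 1 2 0), (4938, .two), (4939, .pq 11 1 449 1), (4940, .two),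
  (4941, .pq 3 4 61 1), (4942, .two), (4943, .pq 4943 1 2 0), (4944, .big 103), (4945, .big 43),
  (4946, .pq 2 1 2473 1), (4947, .big 97), (4948, .pq 2 2 1237 1), (4949, .pq 7 2 101 1),
  (4950, .two), (4951, .pq 4951 1 2 0), (4952, .pq 2 3 619 1), (4953, .big 127),
  (4954, .pq 2 1 2477 1), (4955, .pq 5 1 991 1), (4956, .two), (4957, .pq 4957 1 2 0),
  (4958, .two), (4959, .big 29), (4960, .big 31), (4961, .pq 11 2 41 1), (4962, .two),
  (4963, .pq 7 1 709 1), (4964, .two), (4965, .big 331), (4966, .two), (4967, .pq 4967 1 2 0),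
  (4968, .two), (4969, .pq 4969 1 2 0), (4970, .two), (4971, .pq 3 1 1657 1), (4972, .two),
  (4973, .pq 4973 1 2 0), (4974, .two), (4975, .pq 5 2 199 1), (4976, .pq 2 4 311 1),
  (4977, .big 79), (4978, .two), (4979, .pq 13 1 383 1), (4980, .two), (4981, .pq 17 1 293 1),
  (4982, .two), (4983, .big 151), (4984, .big 89), (4985, .pq 5 1 997 1), (4986, .two),
  (4987, .pq 4987 1 2 0), (4988, .two), (4989, .pq 3 1 1663 1), (4990, .two), (4991, .big 31),
  (4992, .prq 3 13 2 7), (4993, .pq 4993 1 2 0), (4994, .two), (4995, .big 37),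
  (4996, .pq 2 2 1249 1), (4997, .pq 19 1 263 1), (4998, .two), (4999, .pq 4999 1 2 0),
  (5000, .pq 2 3 5 4), (5001, .pq 3 1 1667 1), (5002, .two), (5003, .pq 5003 1 2 0), (5004, .two),
  (5005, .syl 13 1 385), (5006, .pq 2 1 2503 1), (5007, .pq 3 1 1669 1), (5008, .pq 2 4 313 1),
  (5009, .pq 5009 1 2 0), (5010, .two), (5011, .pq 5011 1 2 0), (5012, .two),
  (5013, .pq 3 2 557 1), (5014, .two), (5015, .big 59), (5016, .two), (5017, .pq 29 1 173 1),
  (5018, .two), (5019, .big 239), (5020, .two), (5021, .pq 5021 1 2 0), (5022, .two),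
  (5023, .pq 5023 1 2 0), (5024, .pq 2 5 157 1), (5025, .big 67), (5026, .two),
  (5027, .pq 11 1 457 1), (5028, .two), (5029, .pq 47 1 107 1), (5030, .two), (5031, .big 43),
  (5032, .two), (5033, .pq 7 1 719 1), (5034, .two), (5035, .big 53), (5036, .pq 2 2 1259 1),
  (5037, .big 73), (5038, .two), (5039, .pq 5039 1 2 0), (5040, .open'), (5041, .pq 71 2 2 0),
  (5042, .pq 2 1 2521 1), (5043, .pq 3 1 41 2), (5044, .two), (5045, .pq 5 1 1009 1),
  (5046, .two), (5047, .pq 7 2 103 1), (5048, .pq 2 3 631 1), (5049, .prq 11 17 3 3),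
  (5050, .two), (5051, .pq 5051 1 2 0), (5052, .two), (5053, .pq 31 1 163 1), (5054, .two),
  (5055, .big 337), (5056, .pq 2 6 79 1), (5057, .pq 13 1 389 1), (5058, .two),
  (5059, .pq 5059 1 2 0), (5060, .two), (5061, .big 241), (5062, .pq 2 1 2531 1),
  (5063, .pq 61 1 83 1), (5064, .two), (5065, .pq 5 1 1013 1), (5066, .two),
  (5067, .pq 3 2 563 1), (5068, .two), (5069, .pq 37 1 137 1), (5070, .two),
  (5071, .pq 11 1 461 1), (5072, .pq 2 4 317 1), (5073, .big 89), (5074, .two), (5075, .big 29),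
  (5076, .two), (5077, .pq 5077 1 2 0), (5078, .pq 2 1 2539 1), (5079, .pq 3 1 1693 1),
  (5080, .two), (5081, .pq 5081 1 2 0), (5082, .two), (5083, .big 23), (5084, .two),
  (5085, .big 113), (5086, .pq 2 1 2543 1), (5087, .pq 5087 1 2 0), (5088, .big 53),
  (5089, .pq 7 1 727 1), (5090, .two), (5091, .pq 3 1 1697 1), (5092, .two)]

theorem table19_ok : table19.all (fun x => check x.1 x.2) = true := by decide +kernel

/-- Certificates for orders 5093 to 5292. -/
def table20 : List (Nat × Cert) := [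
  (5093, .pq 11 1 463 1), (5094, .two), (5095, .pq 5 1 1019 1), (5096, .quot 13 7 2 8),
  (5097, .pq 3 1 1699 1), (5098, .pq 2 1 2549 1), (5099, .pq 5099 1 2 0), (5100, .two),
  (5101, .pq 5101 1 2 0), (5102, .pq 2 1 2551 1), (5103, .pq 3 6 7 1), (5104, .big 29),
  (5105, .pq 5 1 1021 1), (5106, .two), (5107, .pq 5107 1 2 0), (5108, .pq 2 2 1277 1),
  (5109, .big 131), (5110, .two), (5111, .pq 19 1 269 1), (5112, .two), (5113, .pq 5113 1 2 0),
  (5114, .pq 2 1 2557 1), (5115, .big 31), (5116, .pq 2 2 1279 1), (5117, .big 43), (5118, .two),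
  (5119, .pq 5119 1 2 0), (5120, .pq 2 10 5 1), (5121, .pq 3 2 569 1), (5122, .two),
  (5123, .pq 47 1 109 1), (5124, .two), (5125, .pq 5 3 41 1), (5126, .two),
  (5127, .pq 3 1 1709 1), (5128, .pq 2 3 641 1), (5129, .pq 23 1 223 1), (5130, .two),
  (5131, .pq 7 1 733 1), (5132, .pq 2 2 1283 1), (5133, .big 59), (5134, .two), (5135, .big 79),
  (5136, .big 107), (5137, .pq 11 1 467 1), (5138, .two), (5139, .pq 3 2 571 1), (5140, .two),
  (5141, .pq 53 1 97 1), (5142, .two), (5143, .pq 37 1 139 1), (5144, .pq 2 3 643 1),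
  (5145, .prq 3 5 7 3), (5146, .two), (5147, .pq 5147 1 2 0), (5148, .two),
  (5149, .pq 19 1 271 1), (5150, .two), (5151, .big 101), (5152, .big 23), (5153, .pq 5153 1 2 0),
  (5154, .two), (5155, .pq 5 1 1031 1), (5156, .pq 2 2 1289 1), (5157, .pq 3 3 191 1),
  (5158, .pq 2 1 2579 1), (5159, .big 67), (5160, .two), (5161, .pq 13 1 397 1), (5162, .two),
  (5163, .pq 3 1 1721 1), (5164, .pq 2 2 1291 1), (5165, .pq 5 1 1033 1), (5166, .two),
  (5167, .pq 5167 1 2 0), (5168, .big 19), (5169, .pq 3 1 1723 1), (5170, .two),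
  (5171, .pq 5171 1 2 0), (5172, .two), (5173, .pq 7 1 739 1), (5174, .two), (5175, .big 23),
  (5176, .pq 2 3 647 1), (5177, .pq 31 1 167 1), (5178, .two), (5179, .pq 5179 1 2 0),
  (5180, .two), (5181, .big 157), (5182, .pq 2 1 2591 1), (5183, .pq 71 1 73 1),
  (5184, .pq 2 6 3 4), (5185, .big 61), (5186, .pq 2 1 2593 1), (5187, .big 19),
  (5188, .pq 2 2 1297 1), (5189, .pq 5189 1 2 0), (5190, .two), (5191, .pq 29 1 179 1),
  (5192, .two), (5193, .pq 3 2 577 1), (5194, .two), (5195, .pq 5 1 1039 1), (5196, .two),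
  (5197, .pq 5197 1 2 0), (5198, .two), (5199, .pq 3 1 1733 1), (5200, .open'),
  (5201, .pq 7 1 743 1), (5202, .two), (5203, .pq 11 2 43 1), (5204, .pq 2 2 1301 1),
  (5205, .big 347), (5206, .two), (5207, .pq 41 1 127 1), (5208, .big 31), (5209, .pq 5209 1 2 0),
  (5210, .two), (5211, .pq 3 3 193 1), (5212, .pq 2 2 1303 1), (5213, .pq 13 1 401 1),
  (5214, .two), (5215, .big 149), (5216, .pq 2 5 163 1), (5217, .big 47), (5218, .pq 2 1 2609 1),
  (5219, .pq 17 1 307 1), (5220, .two), (5221, .pq 23 1 227 1), (5222, .two),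
  (5223, .pq 3 1 1741 1), (5224, .pq 2 3 653 1), (5225, .big 19), (5226, .two),
  (5227, .pq 5227 1 2 0), (5228, .pq 2 2 1307 1), (5229, .big 83), (5230, .two),
  (5231, .pq 5231 1 2 0), (5232, .big 109), (5233, .pq 5233 1 2 0), (5234, .pq 2 1 2617 1),
  (5235, .big 349), (5236, .two), (5237, .pq 5237 1 2 0), (5238, .two), (5239, .pq 13 2 31 1),
  (5240, .two), (5241, .pq 3 1 1747 1), (5242, .pq 2 1 2621 1), (5243, .pq 7 2 107 1),
  (5244, .two), (5245, .pq 5 1 1049 1), (5246, .two), (5247, .big 53), (5248, .pq 2 7 41 1),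
  (5249, .pq 29 1 181 1), (5250, .two), (5251, .pq 59 1 89 1), (5252, .two), (5253, .big 103),
  (5254, .two), (5255, .pq 5 1 1051 1), (5256, .two), (5257, .pq 7 1 751 1), (5258, .two),
  (5259, .pq 3 1 1753 1), (5260, .two), (5261, .pq 5261 1 2 0), (5262, .two),
  (5263, .pq 19 1 277 1), (5264, .big 47), (5265, .prq 5 13 3 4), (5266, .pq 2 1 2633 1),
  (5267, .pq 23 1 229 1), (5268, .two), (5269, .pq 11 1 479 1), (5270, .two), (5271, .big 251),
  (5272, .pq 2 3 659 1), (5273, .pq 5273 1 2 0), (5274, .two), (5275, .pq 5 2 211 1),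
  (5276, .pq 2 2 1319 1), (5277, .pq 3 1 1759 1), (5278, .two), (5279, .pq 5279 1 2 0),
  (5280, .succ 11 480), (5281, .pq 5281 1 2 0), (5282, .two), (5283, .pq 3 2 587 1),
  (5284, .pq 2 2 1321 1), (5285, .big 151), (5286, .two), (5287, .pq 17 1 311 1),
  (5288, .pq 2 3 661 1), (5289, .big 43), (5290, .two), (5291, .big 37), (5292, .two)]

theorem table20_ok : table20.all (fun x => check x.1 x.2) = true := by decide +kernel

/-- Certificates for orders 5293 to 5492. -/
def table21 : List (Nat × Cert) := [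
  (5293, .pq 67 1 79 1), (5294, .pq 2 1 2647 1), (5295, .big 353), (5296, .pq 2 4 331 1),
  (5297, .pq 5297 1 2 0), (5298, .two), (5299, .pq 7 1 757 1), (5300, .two), (5301, .big 31),
  (5302, .two), (5303, .pq 5303 1 2 0), (5304, .two), (5305, .pq 5 1 1061 1), (5306, .two),
  (5307, .big 61), (5308, .pq 2 2 1327 1), (5309, .pq 5309 1 2 0), (5310, .two),
  (5311, .pq 47 1 113 1), (5312, .pq 2 6 83 1), (5313, .big 23), (5314, .pq 2 1 2657 1),
  (5315, .pq 5 1 1063 1), (5316, .two), (5317, .pq 13 1 409 1), (5318, .pq 2 1 2659 1),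
  (5319, .pq 3 3 197 1), (5320, .big 19), (5321, .pq 17 1 313 1), (5322, .two),
  (5323, .pq 5323 1 2 0), (5324, .pq 2 2 11 3), (5325, .big 71), (5326, .pq 2 1 2663 1),
  (5327, .pq 7 1 761 1), (5328, .big 37), (5329, .pq 73 2 2 0), (5330, .two),
  (5331, .pq 3 1 1777 1), (5332, .two), (5333, .pq 5333 1 2 0), (5334, .two), (5335, .big 97),
  (5336, .two), (5337, .pq 3 2 593 1), (5338, .two), (5339, .pq 19 1 281 1), (5340, .two),
  (5341, .pq 7 2 109 1), (5342, .pq 2 1 2671 1), (5343, .big 137), (5344, .pq 2 5 167 1),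
  (5345, .pq 5 1 1069 1), (5346, .two), (5347, .pq 5347 1 2 0), (5348, .two),
  (5349, .pq 3 1 1783 1), (5350, .two), (5351, .pq 5351 1 2 0), (5352, .two),
  (5353, .pq 53 1 101 1), (5354, .pq 2 1 2677 1), (5355, .syl 17 1 315), (5356, .two),
  (5357, .pq 11 1 487 1), (5358, .two), (5359, .pq 23 1 233 1), (5360, .big 67),
  (5361, .pq 3 1 1787 1), (5362, .two), (5363, .pq 31 1 173 1), (5364, .two), (5365, .big 37),
  (5366, .pq 2 1 2683 1), (5367, .pq 3 1 1789 1), (5368, .two), (5369, .big 59), (5370, .two),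
  (5371, .pq 41 1 131 1), (5372, .two), (5373, .pq 3 3 199 1), (5374, .pq 2 1 2687 1),
  (5375, .pq 5 3 43 1), (5376, .prq 3 7 2 8), (5377, .pq 19 1 283 1), (5378, .pq 2 1 2689 1),
  (5379, .big 163), (5380, .two), (5381, .pq 5381 1 2 0), (5382, .two), (5383, .pq 7 1 769 1),
  (5384, .pq 2 3 673 1), (5385, .big 359), (5386, .pq 2 1 2693 1), (5387, .pq 5387 1 2 0),
  (5388, .two), (5389, .pq 17 1 317 1), (5390, .two), (5391, .pq 3 2 599 1),
  (5392, .pq 2 4 337 1), (5393, .pq 5393 1 2 0), (5394, .two), (5395, .big 83), (5396, .two),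
  (5397, .big 257), (5398, .pq 2 1 2699 1), (5399, .pq 5399 1 2 0), (5400, .two),
  (5401, .pq 11 1 491 1), (5402, .two), (5403, .pq 3 1 1801 1), (5404, .two), (5405, .big 47),
  (5406, .two), (5407, .pq 5407 1 2 0), (5408, .pq 2 5 13 2), (5409, .pq 3 2 601 1), (5410, .two),
  (5411, .pq 7 1 773 1), (5412, .two), (5413, .pq 5413 1 2 0), (5414, .pq 2 1 2707 1),
  (5415, .big 19), (5416, .pq 2 3 677 1), (5417, .pq 5417 1 2 0), (5418, .two),
  (5419, .pq 5419 1 2 0), (5420, .two), (5421, .big 139), (5422, .pq 2 1 2711 1), (5423, .big 29),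
  (5424, .big 113), (5425, .big 31), (5426, .pq 2 1 2713 1), (5427, .pq 3 4 67 1), (5428, .two),
  (5429, .pq 61 1 89 1), (5430, .two), (5431, .pq 5431 1 2 0), (5432, .big 97),
  (5433, .pq 3 1 1811 1), (5434, .two), (5435, .pq 5 1 1087 1), (5436, .two),
  (5437, .pq 5437 1 2 0), (5438, .pq 2 1 2719 1), (5439, .big 37), (5440, .prq 5 17 2 6),
  (5441, .pq 5441 1 2 0), (5442, .two), (5443, .pq 5443 1 2 0), (5444, .pq 2 2 1361 1),
  (5445, .syl 5 1 1089), (5446, .two), (5447, .pq 13 1 419 1), (5448, .two),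
  (5449, .pq 5449 1 2 0), (5450, .two), (5451, .big 79), (5452, .two), (5453, .big 41),
  (5454, .two), (5455, .pq 5 1 1091 1), (5456, .big 31), (5457, .big 107), (5458, .pq 2 1 2729 1),
  (5459, .pq 53 1 103 1), (5460, .two), (5461, .pq 43 1 127 1), (5462, .pq 2 1 2731 1),
  (5463, .pq 3 2 607 1), (5464, .pq 2 3 683 1), (5465, .pq 5 1 1093 1), (5466, .two),
  (5467, .big 71), (5468, .pq 2 2 1367 1), (5469, .pq 3 1 1823 1), (5470, .two),
  (5471, .pq 5471 1 2 0), (5472, .big 19), (5473, .pq 13 1 421 1), (5474, .two), (5475, .big 73),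
  (5476, .pq 2 2 37 2), (5477, .pq 5477 1 2 0), (5478, .two), (5479, .pq 5479 1 2 0),
  (5480, .two), (5481, .big 29), (5482, .pq 2 1 2741 1), (5483, .pq 5483 1 2 0), (5484, .two),
  (5485, .pq 5 1 1097 1), (5486, .two), (5487, .big 59), (5488, .pq 2 4 7 3),
  (5489, .pq 11 1 499 1), (5490, .two), (5491, .pq 17 2 19 1), (5492, .pq 2 2 1373 1)]

theorem table21_ok : table21.all (fun x => check x.1 x.2) = true := by decide +kernel

/-- Certificates for orders 5493 to 5692. -/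
def table22 : List (Nat × Cert) := [
  (5493, .pq 3 1 1831 1), (5494, .two), (5495, .big 157), (5496, .two), (5497, .pq 23 1 239 1),
  (5498, .pq 2 1 2749 1), (5499, .big 47), (5500, .two), (5501, .pq 5501 1 2 0), (5502, .two),
  (5503, .pq 5503 1 2 0), (5504, .pq 2 7 43 1), (5505, .big 367), (5506, .pq 2 1 2753 1),
  (5507, .pq 5507 1 2 0), (5508, .two), (5509, .pq 7 1 787 1), (5510, .two), (5511, .big 167),
  (5512, .two), (5513, .pq 37 1 149 1), (5514, .two), (5515, .pq 5 1 1103 1), (5516, .two),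
  (5517, .pq 3 2 613 1), (5518, .two), (5519, .pq 5519 1 2 0), (5520, .big 23),
  (5521, .pq 5521 1 2 0), (5522, .two), (5523, .big 263), (5524, .pq 2 2 1381 1),
  (5525, .prq 13 17 5 2), (5526, .two), (5527, .pq 5527 1 2 0), (5528, .pq 2 3 691 1),
  (5529, .big 97), (5530, .two), (5531, .pq 5531 1 2 0), (5532, .two), (5533, .pq 11 1 503 1),
  (5534, .pq 2 1 2767 1), (5535, .big 41), (5536, .pq 2 5 173 1), (5537, .pq 7 2 113 1),
  (5538, .two), (5539, .pq 29 1 191 1), (5540, .two), (5541, .pq 3 1 1847 1), (5542, .two),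
  (5543, .pq 23 1 241 1), (5544, .succ 11 504), (5545, .pq 5 1 1109 1), (5546, .two),
  (5547, .pq 3 1 43 2), (5548, .two), (5549, .pq 31 1 179 1), (5550, .two), (5551, .big 61),
  (5552, .pq 2 4 347 1), (5553, .pq 3 2 617 1), (5554, .pq 2 1 2777 1), (5555, .big 101),
  (5556, .two), (5557, .pq 5557 1 2 0), (5558, .two), (5559, .big 109), (5560, .two),
  (5561, .pq 67 1 83 1), (5562, .two), (5563, .pq 5563 1 2 0), (5564, .two), (5565, .big 53),
  (5566, .two), (5567, .pq 19 1 293 1), (5568, .big 29), (5569, .pq 5569 1 2 0), (5570, .two),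
  (5571, .pq 3 2 619 1), (5572, .two), (5573, .pq 5573 1 2 0), (5574, .two),
  (5575, .pq 5 2 223 1), (5576, .two), (5577, .prq 3 11 13 2), (5578, .pq 2 1 2789 1),
  (5579, .pq 7 1 797 1), (5580, .two), (5581, .pq 5581 1 2 0), (5582, .pq 2 1 2791 1),
  (5583, .pq 3 1 1861 1), (5584, .pq 2 4 349 1), (5585, .pq 5 1 1117 1), (5586, .two),
  (5587, .pq 37 1 151 1), (5588, .two), (5589, .pq 3 5 23 1), (5590, .two),
  (5591, .pq 5591 1 2 0), (5592, .two), (5593, .big 47), (5594, .pq 2 1 2797 1), (5595, .big 373),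
  (5596, .pq 2 2 1399 1), (5597, .pq 29 1 193 1), (5598, .two), (5599, .pq 11 1 509 1),
  (5600, .open'), (5601, .pq 3 1 1867 1), (5602, .pq 2 1 2801 1), (5603, .pq 13 1 431 1),
  (5604, .two), (5605, .big 59), (5606, .pq 2 1 2803 1), (5607, .big 89), (5608, .pq 2 3 701 1),
  (5609, .pq 71 1 79 1), (5610, .two), (5611, .pq 31 1 181 1), (5612, .two),
  (5613, .pq 3 1 1871 1), (5614, .two), (5615, .pq 5 1 1123 1), (5616, .open'),
  (5617, .pq 41 1 137 1), (5618, .pq 2 1 53 2), (5619, .pq 3 1 1873 1), (5620, .two),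
  (5621, .big 73), (5622, .two), (5623, .pq 5623 1 2 0), (5624, .two), (5625, .pq 3 2 5 4),
  (5626, .two), (5627, .pq 17 1 331 1), (5628, .two), (5629, .pq 13 1 433 1), (5630, .two),
  (5631, .pq 3 1 1877 1), (5632, .pq 2 9 11 1), (5633, .pq 43 1 131 1), (5634, .two),
  (5635, .big 23), (5636, .pq 2 2 1409 1), (5637, .pq 3 1 1879 1), (5638, .pq 2 1 2819 1),
  (5639, .pq 5639 1 2 0), (5640, .two), (5641, .pq 5641 1 2 0), (5642, .two), (5643, .big 19),
  (5644, .two), (5645, .pq 5 1 1129 1), (5646, .two), (5647, .pq 5647 1 2 0),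
  (5648, .pq 2 4 353 1), (5649, .big 269), (5650, .two), (5651, .pq 5651 1 2 0), (5652, .two),
  (5653, .pq 5653 1 2 0), (5654, .two), (5655, .big 29), (5656, .big 101), (5657, .pq 5657 1 2 0),
  (5658, .two), (5659, .pq 5659 1 2 0), (5660, .two), (5661, .big 37), (5662, .two),
  (5663, .pq 7 1 809 1), (5664, .big 59), (5665, .big 103), (5666, .pq 2 1 2833 1),
  (5667, .pq 3 1 1889 1), (5668, .two), (5669, .pq 5669 1 2 0), (5670, .two),
  (5671, .pq 53 1 107 1), (5672, .pq 2 3 709 1), (5673, .big 61), (5674, .pq 2 1 2837 1),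
  (5675, .pq 5 2 227 1), (5676, .two), (5677, .pq 7 1 811 1), (5678, .two), (5679, .pq 3 2 631 1),
  (5680, .big 71), (5681, .big 23), (5682, .two), (5683, .pq 5683 1 2 0), (5684, .two),
  (5685, .big 379), (5686, .pq 2 1 2843 1), (5687, .pq 11 2 47 1), (5688, .two),
  (5689, .pq 5689 1 2 0), (5690, .two), (5691, .big 271), (5692, .pq 2 2 1423 1)]

theorem table22_ok : table22.all (fun x => check x.1 x.2) = true := by decide +kernel

/-- Certificates for orders 5693 to 5892. -/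
def table23 : List (Nat × Cert) := [
  (5693, .pq 5693 1 2 0), (5694, .two), (5695, .big 67), (5696, .pq 2 6 89 1),
  (5697, .pq 3 3 211 1), (5698, .two), (5699, .pq 41 1 139 1), (5700, .two),
  (5701, .pq 5701 1 2 0), (5702, .pq 2 1 2851 1), (5703, .pq 3 1 1901 1), (5704, .two),
  (5705, .big 163), (5706, .two), (5707, .pq 13 1 439 1), (5708, .pq 2 2 1427 1),
  (5709, .big 173), (5710, .two), (5711, .pq 5711 1 2 0), (5712, .syl 17 1 336),
  (5713, .pq 29 1 197 1), (5714, .pq 2 1 2857 1), (5715, .big 127), (5716, .pq 2 2 1429 1),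
  (5717, .pq 5717 1 2 0), (5718, .two), (5719, .big 43), (5720, .two), (5721, .pq 3 1 1907 1),
  (5722, .pq 2 1 2861 1), (5723, .pq 59 1 97 1), (5724, .two), (5725, .pq 5 2 229 1),
  (5726, .two), (5727, .big 83), (5728, .pq 2 5 179 1), (5729, .pq 17 1 337 1), (5730, .two),
  (5731, .pq 11 1 521 1), (5732, .pq 2 2 1433 1), (5733, .quot 13 7 2 9), (5734, .two),
  (5735, .big 37), (5736, .two), (5737, .pq 5737 1 2 0), (5738, .two), (5739, .pq 3 1 1913 1),
  (5740, .two), (5741, .pq 5741 1 2 0), (5742, .two), (5743, .pq 5743 1 2 0),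
  (5744, .pq 2 4 359 1), (5745, .big 383), (5746, .two), (5747, .pq 7 1 821 1), (5748, .two),
  (5749, .pq 5749 1 2 0), (5750, .two), (5751, .pq 3 4 71 1), (5752, .pq 2 3 719 1),
  (5753, .pq 11 1 523 1), (5754, .two), (5755, .pq 5 1 1151 1), (5756, .pq 2 2 1439 1),
  (5757, .big 101), (5758, .pq 2 1 2879 1), (5759, .pq 13 1 443 1), (5760, .open'),
  (5761, .pq 7 1 823 1), (5762, .two), (5763, .big 113), (5764, .two), (5765, .pq 5 1 1153 1),
  (5766, .two), (5767, .pq 73 1 79 1), (5768, .big 103), (5769, .pq 3 2 641 1), (5770, .two),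
  (5771, .pq 29 1 199 1), (5772, .two), (5773, .pq 23 1 251 1), (5774, .pq 2 1 2887 1),
  (5775, .syl 11 1 525), (5776, .pq 2 4 19 2), (5777, .pq 53 1 109 1), (5778, .two),
  (5779, .pq 5779 1 2 0), (5780, .two), (5781, .big 47), (5782, .two), (5783, .pq 5783 1 2 0),
  (5784, .two), (5785, .big 89), (5786, .two), (5787, .pq 3 2 643 1), (5788, .pq 2 2 1447 1),
  (5789, .pq 7 1 827 1), (5790, .two), (5791, .pq 5791 1 2 0), (5792, .pq 2 5 181 1),
  (5793, .pq 3 1 1931 1), (5794, .pq 2 1 2897 1), (5795, .big 61), (5796, .two), (5797, .big 31),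
  (5798, .two), (5799, .pq 3 1 1933 1), (5800, .two), (5801, .pq 5801 1 2 0), (5802, .two),
  (5803, .pq 7 1 829 1), (5804, .pq 2 2 1451 1), (5805, .big 43), (5806, .pq 2 1 2903 1),
  (5807, .pq 5807 1 2 0), (5808, .syl 11 2 48), (5809, .pq 37 1 157 1), (5810, .two),
  (5811, .big 149), (5812, .pq 2 2 1453 1), (5813, .pq 5813 1 2 0), (5814, .two),
  (5815, .pq 5 1 1163 1), (5816, .pq 2 3 727 1), (5817, .big 277), (5818, .pq 2 1 2909 1),
  (5819, .pq 11 1 23 2), (5820, .two), (5821, .pq 5821 1 2 0), (5822, .two),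
  (5823, .pq 3 2 647 1), (5824, .prq 7 13 2 6), (5825, .pq 5 2 233 1), (5826, .two),
  (5827, .pq 5827 1 2 0), (5828, .two), (5829, .big 67), (5830, .two), (5831, .pq 7 3 17 1),
  (5832, .pq 2 3 3 6), (5833, .pq 19 1 307 1), (5834, .pq 2 1 2917 1), (5835, .big 389),
  (5836, .pq 2 2 1459 1), (5837, .pq 13 1 449 1), (5838, .two), (5839, .pq 5839 1 2 0),
  (5840, .big 73), (5841, .big 59), (5842, .two), (5843, .pq 5843 1 2 0), (5844, .two),
  (5845, .big 167), (5846, .two), (5847, .pq 3 1 1949 1), (5848, .two), (5849, .pq 5849 1 2 0),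
  (5850, .two), (5851, .pq 5851 1 2 0), (5852, .two), (5853, .pq 3 1 1951 1),
  (5854, .pq 2 1 2927 1), (5855, .pq 5 1 1171 1), (5856, .big 61), (5857, .pq 5857 1 2 0),
  (5858, .two), (5859, .big 31), (5860, .two), (5861, .pq 5861 1 2 0), (5862, .two),
  (5863, .big 41), (5864, .pq 2 3 733 1), (5865, .big 23), (5866, .two), (5867, .pq 5867 1 2 0),
  (5868, .two), (5869, .pq 5869 1 2 0), (5870, .two), (5871, .big 103), (5872, .pq 2 4 367 1),
  (5873, .pq 7 1 839 1), (5874, .two), (5875, .pq 5 3 47 1), (5876, .two), (5877, .pq 3 2 653 1),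
  (5878, .pq 2 1 2939 1), (5879, .pq 5879 1 2 0), (5880, .open'), (5881, .pq 5881 1 2 0),
  (5882, .two), (5883, .big 53), (5884, .pq 2 2 1471 1), (5885, .big 107), (5886, .two),
  (5887, .pq 7 1 29 2), (5888, .pq 2 8 23 1), (5889, .big 151), (5890, .two),
  (5891, .pq 43 1 137 1), (5892, .two)]

theorem table23_ok : table23.all (fun x => check x.1 x.2) = true := by decide +kernel

/-- Certificates for orders 5893 to 6092. -/
def table24 : List (Nat × Cert) := [
  (5893, .pq 71 1 83 1), (5894, .two), (5895, .big 131), (5896, .two), (5897, .pq 5897 1 2 0),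
  (5898, .two), (5899, .pq 17 1 347 1), (5900, .two), (5901, .big 281), (5902, .two),
  (5903, .pq 5903 1 2 0), (5904, .big 41), (5905, .pq 5 1 1181 1), (5906, .pq 2 1 2953 1),
  (5907, .big 179), (5908, .two), (5909, .pq 19 1 311 1), (5910, .two), (5911, .pq 23 1 257 1),
  (5912, .pq 2 3 739 1), (5913, .pq 3 4 73 1), (5914, .pq 2 1 2957 1), (5915, .prq 5 7 13 2),
  (5916, .two), (5917, .pq 61 1 97 1), (5918, .two), (5919, .pq 3 1 1973 1), (5920, .big 37),
  (5921, .pq 31 1 191 1), (5922, .two), (5923, .pq 5923 1 2 0), (5924, .pq 2 2 1481 1),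
  (5925, .big 79), (5926, .pq 2 1 2963 1), (5927, .pq 5927 1 2 0), (5928, .two),
  (5929, .pq 7 2 11 2), (5930, .two), (5931, .pq 3 2 659 1), (5932, .pq 2 2 1483 1),
  (5933, .pq 17 1 349 1), (5934, .two), (5935, .pq 5 1 1187 1), (5936, .big 53),
  (5937, .pq 3 1 1979 1), (5938, .pq 2 1 2969 1), (5939, .pq 5939 1 2 0), (5940, .two),
  (5941, .pq 13 1 457 1), (5942, .pq 2 1 2971 1), (5943, .big 283), (5944, .pq 2 3 743 1),
  (5945, .big 41), (5946, .two), (5947, .pq 19 1 313 1), (5948, .pq 2 2 1487 1),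
  (5949, .pq 3 2 661 1), (5950, .two), (5951, .pq 11 1 541 1), (5952, .big 31),
  (5953, .pq 5953 1 2 0), (5954, .two), (5955, .big 397), (5956, .pq 2 2 1489 1), (5957, .big 37),
  (5958, .two), (5959, .pq 59 1 101 1), (5960, .two), (5961, .pq 3 1 1987 1), (5962, .two),
  (5963, .pq 67 1 89 1), (5964, .two), (5965, .pq 5 1 1193 1), (5966, .two),
  (5967, .prq 13 17 3 3), (5968, .pq 2 4 373 1), (5969, .pq 47 1 127 1), (5970, .two),
  (5971, .pq 7 1 853 1), (5972, .pq 2 2 1493 1), (5973, .big 181), (5974, .two),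
  (5975, .pq 5 2 239 1), (5976, .two), (5977, .pq 43 1 139 1), (5978, .two),
  (5979, .pq 3 1 1993 1), (5980, .two), (5981, .pq 5981 1 2 0), (5982, .two),
  (5983, .pq 31 1 193 1), (5984, .prq 11 17 2 5), (5985, .big 19), (5986, .two),
  (5987, .pq 5987 1 2 0), (5988, .two), (5989, .pq 53 1 113 1), (5990, .two),
  (5991, .pq 3 1 1997 1), (5992, .big 107), (5993, .pq 13 1 461 1), (5994, .two),
  (5995, .big 109), (5996, .pq 2 2 1499 1), (5997, .pq 3 1 1999 1), (5998, .pq 2 1 2999 1),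
  (5999, .pq 7 1 857 1), (6000, .open'), (6001, .pq 17 1 353 1), (6002, .pq 2 1 3001 1),
  (6003, .big 29), (6004, .two), (6005, .pq 5 1 1201 1), (6006, .two), (6007, .pq 6007 1 2 0),
  (6008, .pq 2 3 751 1), (6009, .pq 3 1 2003 1), (6010, .two), (6011, .pq 6011 1 2 0),
  (6012, .two), (6013, .pq 7 1 859 1), (6014, .two), (6015, .big 401), (6016, .pq 2 7 47 1),
  (6017, .pq 11 1 547 1), (6018, .two), (6019, .pq 13 1 463 1), (6020, .two),
  (6021, .pq 3 3 223 1), (6022, .pq 2 1 3011 1), (6023, .pq 19 1 317 1), (6024, .two),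
  (6025, .pq 5 2 241 1), (6026, .two), (6027, .big 41), (6028, .two), (6029, .pq 6029 1 2 0),
  (6030, .two), (6031, .pq 37 1 163 1), (6032, .big 29), (6033, .pq 3 1 2011 1), (6034, .two),
  (6035, .big 71), (6036, .two), (6037, .pq 6037 1 2 0), (6038, .pq 2 1 3019 1), (6039, .big 61),
  (6040, .two), (6041, .pq 7 1 863 1), (6042, .two), (6043, .pq 6043 1 2 0),
  (6044, .pq 2 2 1511 1), (6045, .big 31), (6046, .pq 2 1 3023 1), (6047, .pq 6047 1 2 0),
  (6048, .open'), (6049, .pq 23 1 263 1), (6050, .two), (6051, .pq 3 1 2017 1), (6052, .two),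
  (6053, .pq 6053 1 2 0), (6054, .two), (6055, .big 173), (6056, .pq 2 3 757 1),
  (6057, .pq 3 2 673 1), (6058, .two), (6059, .pq 73 1 83 1), (6060, .two), (6061, .big 29),
  (6062, .two), (6063, .big 47), (6064, .pq 2 4 379 1), (6065, .pq 5 1 1213 1), (6066, .two),
  (6067, .pq 6067 1 2 0), (6068, .two), (6069, .prq 3 7 17 2), (6070, .two),
  (6071, .pq 13 1 467 1), (6072, .open'), (6073, .pq 6073 1 2 0), (6074, .pq 2 1 3037 1),
  (6075, .pq 3 5 5 2), (6076, .two), (6077, .pq 59 1 103 1), (6078, .two), (6079, .pq 6079 1 2 0),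
  (6080, .big 19), (6081, .pq 3 1 2027 1), (6082, .pq 2 1 3041 1), (6083, .big 79), (6084, .two),
  (6085, .pq 5 1 1217 1), (6086, .two), (6087, .pq 3 1 2029 1), (6088, .pq 2 3 761 1),
  (6089, .pq 6089 1 2 0), (6090, .two), (6091, .pq 6091 1 2 0), (6092, .pq 2 2 1523 1)]

theorem table24_ok : table24.all (fun x => check x.1 x.2) = true := by decide +kernel

/-- Certificates for orders 6093 to 6232. -/
def table25 : List (Nat × Cert) := [
  (6093, .pq 3 2 677 1), (6094, .two), (6095, .big 53), (6096, .big 127), (6097, .big 67),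
  (6098, .pq 2 1 3049 1), (6099, .big 107), (6100, .two), (6101, .pq 6101 1 2 0), (6102, .two),
  (6103, .pq 17 1 359 1), (6104, .big 109), (6105, .big 37), (6106, .two), (6107, .pq 31 1 197 1),
  (6108, .two), (6109, .pq 41 1 149 1), (6110, .two), (6111, .big 97), (6112, .pq 2 5 191 1),
  (6113, .pq 6113 1 2 0), (6114, .two), (6115, .pq 5 1 1223 1), (6116, .two),
  (6117, .pq 3 1 2039 1), (6118, .two), (6119, .pq 29 1 211 1), (6120, .two),
  (6121, .pq 6121 1 2 0), (6122, .pq 2 1 3061 1), (6123, .big 157), (6124, .pq 2 2 1531 1),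
  (6125, .pq 5 3 7 2), (6126, .two), (6127, .pq 11 1 557 1), (6128, .pq 2 4 383 1),
  (6129, .pq 3 3 227 1), (6130, .two), (6131, .pq 6131 1 2 0), (6132, .two),
  (6133, .pq 6133 1 2 0), (6134, .pq 2 1 3067 1), (6135, .big 409), (6136, .two),
  (6137, .pq 17 1 19 2), (6138, .two), (6139, .pq 7 1 877 1), (6140, .two), (6141, .big 89),
  (6142, .two), (6143, .pq 6143 1 2 0), (6144, .pq 2 11 3 1), (6145, .pq 5 1 1229 1),
  (6146, .two), (6147, .pq 3 2 683 1), (6148, .two), (6149, .big 43), (6150, .two),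
  (6151, .pq 6151 1 2 0), (6152, .pq 2 3 769 1), (6153, .big 293), (6154, .two),
  (6155, .pq 5 1 1231 1), (6156, .two), (6157, .pq 47 1 131 1), (6158, .pq 2 1 3079 1),
  (6159, .pq 3 1 2053 1), (6160, .open'), (6161, .pq 61 1 101 1), (6162, .two),
  (6163, .pq 6163 1 2 0), (6164, .two), (6165, .big 137), (6166, .pq 2 1 3083 1),
  (6167, .pq 7 1 881 1), (6168, .two), (6169, .pq 31 1 199 1), (6170, .two),
  (6171, .prq 3 17 11 2), (6172, .pq 2 2 1543 1), (6173, .pq 6173 1 2 0), (6174, .two),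
  (6175, .big 19), (6176, .pq 2 5 193 1), (6177, .big 71), (6178, .pq 2 1 3089 1),
  (6179, .pq 37 1 167 1), (6180, .two), (6181, .pq 7 1 883 1), (6182, .two),
  (6183, .pq 3 3 229 1), (6184, .pq 2 3 773 1), (6185, .pq 5 1 1237 1), (6186, .two),
  (6187, .pq 23 1 269 1), (6188, .two), (6189, .pq 3 1 2063 1), (6190, .two),
  (6191, .pq 41 1 151 1), (6192, .big 43), (6193, .pq 11 1 563 1), (6194, .two), (6195, .big 59),
  (6196, .pq 2 2 1549 1), (6197, .pq 6197 1 2 0), (6198, .two), (6199, .pq 6199 1 2 0),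
  (6200, .two), (6201, .big 53), (6202, .two), (6203, .pq 6203 1 2 0), (6204, .two),
  (6205, .big 73), (6206, .two), (6207, .pq 3 1 2069 1), (6208, .pq 2 6 97 1),
  (6209, .pq 7 1 887 1), (6210, .two), (6211, .pq 6211 1 2 0), (6212, .pq 2 2 1553 1),
  (6213, .big 109), (6214, .two), (6215, .big 113), (6216, .big 37), (6217, .pq 6217 1 2 0),
  (6218, .pq 2 1 3109 1), (6219, .pq 3 2 691 1), (6220, .two), (6221, .pq 6221 1 2 0),
  (6222, .two), (6223, .pq 7 2 127 1), (6224, .pq 2 4 389 1), (6225, .big 83), (6226, .two),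
  (6227, .pq 13 1 479 1), (6228, .two), (6229, .pq 6229 1 2 0), (6230, .two), (6231, .big 67),
  (6232, .two)]

theorem table25_ok : table25.all (fun x => check x.1 x.2) = true := by decide +kernel

/-- A covered range of orders. -/
theorem exists_cert {t : List (Nat × Cert)} {s len n : ℕ} (hok : t.all (fun x => check x.1 x.2) = true)
    (h : t.map Prod.fst = List.range' s len) (h1 : s ≤ n) (h2 : n < s + len) :
    ∃ c, check n c = true := by
  have hm : n ∈ t.map Prod.fst := by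
    rw [h, List.mem_range']
    exact ⟨n - s, by omega, by omega⟩
  obtain ⟨x, hx, rfl⟩ := List.mem_map.1 hm
  exact ⟨x.2, List.all_eq_true.1 hok x hx⟩

/-- A non-abelian simple group of order in `[1093, 6232]` has one of the open orders. -/
theorem card_mem_openOrders {G : Type*} [Group G] [Finite G] [IsSimpleGroup G]
    (hG : ¬ IsMulCommutative G) (h1 : 1092 < Nat.card G) (h2 : Nat.card G ≤ 6232) :
    Nat.card G ∈ openOrders := by
  by_cases h0 : Nat.card G < 1293
  · obtain ⟨c, hc⟩ := exists_cert (n := Nat.card G) table0_ok (s := 1093) (len := 200) (by decide +kernel) (by omega) (by omega)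
    exact mem_open_of_check hG hc
  by_cases h1 : Nat.card G < 1493
  · obtain ⟨c, hc⟩ := exists_cert (n := Nat.card G) table1_ok (s := 1293) (len := 200) (by decide +kernel) (by omega) (by omega)
    exact mem_open_of_check hG hc
  by_cases h2 : Nat.card G < 1693
  · obtain ⟨c, hc⟩ := exists_cert (n := Nat.card G) table2_ok (s := 1493) (len := 200) (by decide +kernel) (by omega) (by omega)
    exact mem_open_of_check hG hc
  by_cases h3 : Nat.card G < 1893
  · obtain ⟨c, hc⟩ := exists_cert (n := Nat.card G) table3_ok (s := 1693) (len := 200) (by decide +kernel) (by omega) (by omega)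
    exact mem_open_of_check hG hc
  by_cases h4 : Nat.card G < 2093
  · obtain ⟨c, hc⟩ := exists_cert (n := Nat.card G) table4_ok (s := 1893) (len := 200) (by decide +kernel) (by omega) (by omega)
    exact mem_open_of_check hG hc
  by_cases h5 : Nat.card G < 2293
  · obtain ⟨c, hc⟩ := exists_cert (n := Nat.card G) table5_ok (s := 2093) (len := 200) (by decide +kernel) (by omega) (by omega)
    exact mem_open_of_check hG hc
  by_cases h6 : Nat.card G < 2493
  · obtain ⟨c, hc⟩ := exists_cert (n := Nat.card G) table6_ok (s := 2293) (len := 200) (by decide +kernel) (by omega) (by omega)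
    exact mem_open_of_check hG hc
  by_cases h7 : Nat.card G < 2693
  · obtain ⟨c, hc⟩ := exists_cert (n := Nat.card G) table7_ok (s := 2493) (len := 200) (by decide +kernel) (by omega) (by omega)
    exact mem_open_of_check hG hc
  by_cases h8 : Nat.card G < 2893
  · obtain ⟨c, hc⟩ := exists_cert (n := Nat.card G) table8_ok (s := 2693) (len := 200) (by decide +kernel) (by omega) (by omega)
    exact mem_open_of_check hG hc
  by_cases h9 : Nat.card G < 3093
  · obtain ⟨c, hc⟩ := exists_cert (n := Nat.card G) table9_ok (s := 2893) (len := 200) (by decide +kernel) (by omega) (by omega)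
    exact mem_open_of_check hG hc
  by_cases h10 : Nat.card G < 3293
  · obtain ⟨c, hc⟩ := exists_cert (n := Nat.card G) table10_ok (s := 3093) (len := 200) (by decide +kernel) (by omega) (by omega)
    exact mem_open_of_check hG hc
  by_cases h11 : Nat.card G < 3493
  · obtain ⟨c, hc⟩ := exists_cert (n := Nat.card G) table11_ok (s := 3293) (len := 200) (by decide +kernel) (by omega) (by omega)
    exact mem_open_of_check hG hc
  by_cases h12 : Nat.card G < 3693
  · obtain ⟨c, hc⟩ := exists_cert (n := Nat.card G) table12_ok (s := 3493) (len := 200) (by decide +kernel) (by omega) (by omega)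
    exact mem_open_of_check hG hc
  by_cases h13 : Nat.card G < 3893
  · obtain ⟨c, hc⟩ := exists_cert (n := Nat.card G) table13_ok (s := 3693) (len := 200) (by decide +kernel) (by omega) (by omega)
    exact mem_open_of_check hG hc
  by_cases h14 : Nat.card G < 4093
  · obtain ⟨c, hc⟩ := exists_cert (n := Nat.card G) table14_ok (s := 3893) (len := 200) (by decide +kernel) (by omega) (by omega)
    exact mem_open_of_check hG hc
  by_cases h15 : Nat.card G < 4293
  · obtain ⟨c, hc⟩ := exists_cert (n := Nat.card G) table15_ok (s := 4093) (len := 200) (by decide +kernel) (by omega) (by omega)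
    exact mem_open_of_check hG hc
  by_cases h16 : Nat.card G < 4493
  · obtain ⟨c, hc⟩ := exists_cert (n := Nat.card G) table16_ok (s := 4293) (len := 200) (by decide +kernel) (by omega) (by omega)
    exact mem_open_of_check hG hc
  by_cases h17 : Nat.card G < 4693
  · obtain ⟨c, hc⟩ := exists_cert (n := Nat.card G) table17_ok (s := 4493) (len := 200) (by decide +kernel) (by omega) (by omega)
    exact mem_open_of_check hG hc
  by_cases h18 : Nat.card G < 4893
  · obtain ⟨c, hc⟩ := exists_cert (n := Nat.card G) table18_ok (s := 4693) (len := 200) (by decide +kernel) (by omega) (by omega)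
    exact mem_open_of_check hG hc
  by_cases h19 : Nat.card G < 5093
  · obtain ⟨c, hc⟩ := exists_cert (n := Nat.card G) table19_ok (s := 4893) (len := 200) (by decide +kernel) (by omega) (by omega)
    exact mem_open_of_check hG hc
  by_cases h20 : Nat.card G < 5293
  · obtain ⟨c, hc⟩ := exists_cert (n := Nat.card G) table20_ok (s := 5093) (len := 200) (by decide +kernel) (by omega) (by omega)
    exact mem_open_of_check hG hc
  by_cases h21 : Nat.card G < 5493
  · obtain ⟨c, hc⟩ := exists_cert (n := Nat.card G) table21_ok (s := 5293) (len := 200) (by decide +kernel) (by omega) (by omega)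
    exact mem_open_of_check hG hc
  by_cases h22 : Nat.card G < 5693
  · obtain ⟨c, hc⟩ := exists_cert (n := Nat.card G) table22_ok (s := 5493) (len := 200) (by decide +kernel) (by omega) (by omega)
    exact mem_open_of_check hG hc
  by_cases h23 : Nat.card G < 5893
  · obtain ⟨c, hc⟩ := exists_cert (n := Nat.card G) table23_ok (s := 5693) (len := 200) (by decide +kernel) (by omega) (by omega)
    exact mem_open_of_check hG hc
  by_cases h24 : Nat.card G < 6093
  · obtain ⟨c, hc⟩ := exists_cert (n := Nat.card G) table24_ok (s := 5893) (len := 200) (by decide +kernel) (by omega) (by omega)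
    exact mem_open_of_check hG hc
  obtain ⟨c, hc⟩ := exists_cert (n := Nat.card G) table25_ok (s := 6093) (len := 140) (by decide +kernel) (by omega) (by omega)
  exact mem_open_of_check hG hc

end CfsgLib.SmallOrders.Range
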