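import Cfsg.Agent.Lib.SmallOrders.Range.Kill1512
import Cfsg.Agent.S0983
import Cfsg.Agent.S0496
import Cfsg.Agent.S1015
import Cfsg.Agent.S1017

/-!
The orders of non-abelian simple groups below 6000.
-/

set_option autoImplicit false

namespace CfsgLib.SmallOrders.Range

/-- A non-abelian simple group of order below 6000 has one of eleven orders. -/
theorem card_simple_lt_6000 {G : Type*} [Group G] [Finite G] [IsSimpleGroup G]
    (hG : ¬ IsMulCommutative G) (h : Nat.card G < 6000) :
    Nat.card G ∈ [60, 168, 360, 504, 660, 1092, 2448, 2520, 3420, 4080, 5616] := by
  simp only [List.mem_cons, List.not_mem_nil, or_false]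
  rcases Nat.lt_or_ge 1092 (Nat.card G) with h1 | h1
  · rcases Nat.lt_or_ge 3640 (Nat.card G) with h2 | h2
    · have := Cfsg.Agent.S0983.result hG h2 (by omega)
      omega
    · have hm := card_mem_openOrders hG h1 (by omega)
      simp only [openOrders, List.mem_cons, List.not_mem_nil, or_false] at hm
      have := card_ne_1400 hG
      have := card_ne_1512 hG
      have := card_ne_1575 hG
      have := card_ne_1680 hG
      have := card_ne_2160 hG
      have := card_ne_2400 hG
      have := card_ne_2475 hG
      have := card_ne_2800 hG
      have := card_ne_2880 hG
      have := card_ne_3024 hG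
      have := card_ne_3080 hG
      have := card_ne_3120 hG
      have := card_ne_3360 hG
      have := card_ne_3528 hG
      have := card_ne_3600 hG
      have := Cfsg.Agent.S1015.result (G := G)
      have := Cfsg.Agent.S1017.result (G := G)
      omega
  · have := Cfsg.Agent.S0496.result hG h1
    omega

end CfsgLib.SmallOrders.Range
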