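import Cfsg.Agent.Lib.SmallOrders.Range.Local
import Cfsg.Agent.Lib.SmallOrders.Toolkit
import Cfsg.Agent.S0996
import Cfsg.Agent.S1001

/-!
Small orders of simple groups: elements centralising an element of prime order.
-/

set_option autoImplicit false

namespace CfsgLib.SmallOrders.Range

open Subgroup MulAction CfsgLib.SmallGroups CfsgLib.KGroups.SmallOrders

variable {G : Type*} [Group G] [Finite G] [IsSimpleGroup G] (hG : ¬ IsMulCommutative G)
include hG

/-- No element of order `q` centralises an element of order `p` acting without fixed points, if the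
congruences forbid every number of fixed points. -/
theorem no_commuting {p q : ℕ} [hp : Fact p.Prime] [hq : Fact q.Prime] {M : Subgroup G} (hM : M ≠ ⊤)
    (hpM : ¬ p ∣ Nat.card M) {g z : G} (hg : orderOf g = p) (hz : orderOf z = q) (hc : Commute g z)
    (h : ∀ f ∈ List.range M.index, f % p = 0 → f % q = M.index % q →
      q = 2 ∧ (M.index - f) % 4 ≠ 0) : False := by
  have hα : Nat.card (G ⧸ M) = M.index := (index_eq_card M).symm
  have hd := dvd_card_fixedBy_of_commute hg hc hpM
  have hmod := card_modEq_card_fixedBy (α := G ⧸ M) (hz ▸ pow_orderOf_eq_one z : z ^ q = 1)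
  rw [hα] at hmod
  have hlt := CfsgLib.SmallOrders.fix_lt_index hM (CfsgLib.SmallOrders.ne_one_of_orderOf hz)
  obtain ⟨hq2, h4⟩ := h _ (List.mem_range.2 hlt) (Nat.mod_eq_zero_of_dvd hd) hmod.symm
  subst hq2
  have := four_dvd_moved (α := G ⧸ M) hG (g := z) (hz ▸ pow_orderOf_eq_one z)
  rw [hα] at this
  exact h4 (Nat.mod_eq_zero_of_dvd this)

omit [IsSimpleGroup G] hG in
/-- An element of prime order dividing the order of a Sylow centraliser. -/
theorem exists_commuting {p q c m : ℕ} [hp : Fact p.Prime] [hq : Fact q.Prime]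
    (hn : Nat.card G = p * m) (hm : ¬ p ∣ m) (P : Sylow p G)
    (hC : Nat.card ↥(centralizer ((P : Subgroup G) : Set G)) = p * c) (hqc : q ∣ c) :
    ∃ g z : G, g ∈ (P : Subgroup G) ∧ orderOf g = p ∧ z ∈ centralizer ((P : Subgroup G) : Set G) ∧
      orderOf z = q ∧ Commute g z ∧ zpowers g = (P : Subgroup G) := by
  obtain ⟨⟨z, hzC⟩, hz⟩ := exists_prime_orderOf_dvd_card'
    (G := ↥(centralizer ((P : Subgroup G) : Set G))) q (hC ▸ hqc.mul_left p)
  have hP : Nat.card ↥(P : Subgroup G) = p := by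
    simpa using card_sylow_eq (a := 1) (by simpa using hn) hm P
  obtain ⟨⟨g, hgP⟩, hg⟩ := exists_prime_orderOf_dvd_card' (G := ↥(P : Subgroup G)) p
    (dvd_of_eq hP.symm)
  have hgp : orderOf g = p := (Subgroup.orderOf_coe _).trans hg
  exact ⟨g, z, hgP, hgp, hzC, (Subgroup.orderOf_coe _).trans hz, mem_centralizer_iff.1 hzC g hgP,
    CfsgLib.SmallOrders.zpowers_eq_sylow P hP hgP (CfsgLib.SmallOrders.ne_one_of_orderOf hgp)⟩

/-- A self-centralising Sylow subgroup of prime order with few conjugates gives `L₂`. -/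
theorem order_of_self_central {p m : ℕ} [hp : Fact p.Prime] (hn : Nat.card G = p * m) (hm : ¬ p ∣ m)
    (P : Sylow p G) (hC : Nat.card ↥(centralizer ((P : Subgroup G) : Set G)) = p)
    (hfew : 2 * Nat.card (Sylow p G) < (p + 1) * (p + 2)) :
    2 * Nat.card G = p * (p ^ 2 - 1) ∨
      ∃ j, p = 2 ^ j + 1 ∧ Nat.card G = 2 ^ j * ((2 ^ j) ^ 2 - 1) := by
  have hP : Nat.card ↥(P : Subgroup G) = p := by
    simpa using card_sylow_eq (a := 1) (by simpa using hn) hm P
  obtain ⟨⟨g, hgP⟩, hg⟩ := exists_prime_orderOf_dvd_card' (G := ↥(P : Subgroup G)) p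
    (dvd_of_eq hP.symm)
  have hgp : orderOf g = p := (Subgroup.orderOf_coe _).trans hg
  have hz := CfsgLib.SmallOrders.zpowers_eq_sylow P hP hgP (CfsgLib.SmallOrders.ne_one_of_orderOf hgp)
  have hCP : centralizer ({g} : Set G) = zpowers g := by
    rw [← centralizer_closure, ← zpowers_eq_closure, hz]
    refine (eq_of_le_of_card_ge ?_ (by rw [hC, hP])).symm
    have : IsMulCommutative ↥(P : Subgroup G) := by
      have := isCyclic_of_prime_card hP
      infer_instance
    exact le_centralizer _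
  have hperf : commutator G = ⊤ :=
    (inferInstance : (commutator G).Normal).eq_bot_or_eq_top.resolve_left
      fun h => hG (IsMulCommutative.of_comm fun a b => ((mem_center_iff.mp
        ((commutator_eq_bot_iff_center_eq_top G).mp h ▸ mem_top a)) b).symm)
  rcases Cfsg.Agent.S0996.result hperf p g hgp hCP hfew with
    ⟨F, _, _, hF, h3, ⟨e⟩⟩ | ⟨j, F, _, _, hF, hpj, h3, ⟨e⟩⟩
  · left
    rw [Nat.card_congr e.toEquiv]
    exact ClassicalLinear.card_PSL_two_of_odd hF (hp.out.odd_of_ne_two (by omega))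
  · refine Or.inr ⟨j, hpj, ?_⟩
    rw [Nat.card_congr e.toEquiv]
    refine ClassicalLinear.card_PSL_two_of_even hF ?_
    refine (Nat.even_pow).2 ⟨even_two, fun h => ?_⟩
    subst h
    simp at hpj
    omega

/-- Orders `p 3^a 2^b`. -/
theorem order_of_three_primes {p a b m : ℕ} [hp : Fact p.Prime] (hn : Nat.card G = p * m)
    (hm : m = 3 ^ a * 2 ^ b) (hpm : ¬ p ∣ m)
    (h : ∀ d ∈ (List.range (m + 1)).filter (cand (Nat.card G) p 1 m),
      (p - 1) % (m / d) ≠ 0 ∨ 2 * d < (p + 1) * (p + 2)) :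
    2 * Nat.card G = p * (p ^ 2 - 1) ∨
      ∃ j, p = 2 ^ j + 1 ∧ Nat.card G = 2 ^ j * ((2 ^ j) ^ 2 - 1) := by
  obtain ⟨P⟩ := (inferInstance : Nonempty (Sylow p G))
  obtain ⟨c, e, hC, -, -, hep, hprod⟩ := sylow_prime_data hG hn hpm P
  have hc : c = 1 := by
    by_contra hc
    obtain ⟨q, hq, hqc⟩ := Nat.exists_prime_and_dvd hc
    have := Fact.mk hq
    obtain ⟨g, z, hgP, hg, hzC, hz, hgz, hgen⟩ := exists_commuting hn hpm P hC hqc
    have hcen := Cfsg.Agent.S1001.result p a b hp.out (by rw [hn, hm, mul_assoc]) g hg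
    have hmem : z ∈ centralizer ({g} : Set G) := mem_centralizer_singleton_iff.2 hgz.symm.eq
    have : orderOf z ∣ p := by
      have h' := Subgroup.orderOf_dvd_natCard _ (hcen ▸ hmem)
      rwa [Nat.card_zpowers, hg] at h'
    rw [hz] at this
    have hqp : q = p := (Nat.prime_dvd_prime_iff_eq hq hp.out).1 this
    subst hqp
    exact hpm (hqc.trans (hprod ▸ dvd_mul_of_dvd_right (dvd_mul_right c e) _))
  subst hc
  rw [one_mul] at hprod
  rw [mul_one] at hC
  refine order_of_self_central hG hn hpm P hC ((h _ (sylow_mem_cand hG (a := 1) (by simpa using hn) hpm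
    Nat.one_pos)).resolve_left fun h0 => h0 ?_)
  rw [← hprod, Nat.mul_div_cancel_left _ Nat.card_pos]
  exact Nat.mod_eq_zero_of_dvd hep

end CfsgLib.SmallOrders.Range
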