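import Cfsg.Agent.Lib.SmallOrders.Range.Central
import Cfsg.Agent.Lib.CharTheory.Burnside
import Cfsg.Agent.S0998
import Cfsg.Agent.S0997

/-!
Certificates excluding orders up to 6232 of non-abelian simple groups.
-/

set_option autoImplicit false

namespace CfsgLib.SmallOrders.Range

open Subgroup CfsgLib.SmallGroups CfsgLib.KGroups.SmallOrders

/-- Reasons excluding an order. -/
inductive Cert
  | pq (p a q b : Nat)
  | two
  | syl (p a m : Nat)
  | big (p : Nat)
  | prq (p r q b : Nat)
  | quot (p q b g : Nat)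
  | succ (p m : Nat)
  | selfC (p a b : Nat)
  | open'

/-- Trial division up to 80. -/
def isPrimeB (p : Nat) : Bool :=
  decide (2 ≤ p) && decide (p < 6400) &&
    (List.range 80).all fun d => decide (d < 2) || decide (p ≤ d) || decide (p % d ≠ 0)

/-- The orders not excluded by a certificate. -/
def openOrders : List Nat :=
  [1200, 1400, 1512, 1575, 1680, 2016, 2160, 2400, 2448, 2475, 2520, 2800, 2880, 3024, 3080, 3120,
    3360, 3420, 3528, 3600, 3696, 4032, 4080, 4200, 4320, 4400, 4725, 4800, 5040, 5200, 5600,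
    5616, 5760, 5880, 6000, 6048, 6072, 6160]

/-- The order is not that of `L₂(p)` or of `L₂(p - 1)`. -/
def notPSL (n p : Nat) : Bool :=
  decide (2 * n ≠ p * (p ^ 2 - 1)) && decide (n ≠ (p - 1) * ((p - 1) ^ 2 - 1))

/-- The certificate checker. -/
def check (n : Nat) : Cert → Bool
  | .pq p a q b => isPrimeB p && isPrimeB q && decide (n = p ^ a * q ^ b)
  | .two => decide (n % 2 = 0) && decide (n % 16 ≠ 0) && decide (n % 56 ≠ 0) && decide (n ≠ 2520) &&
      decide (n ≤ 6232) && (List.range 24).all fun q => decide (q % 2 = 0) || decide (q = 21) || decide (2 * n ≠ q * (q ^ 2 - 1))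
  | .syl p a m => isPrimeB p && decide (n = p ^ a * m) && decide (m % p ≠ 0) && decide (0 < a) &&
      (List.range (m + 1)).all fun d => !cand n p a m d
  | .big p => isPrimeB p && decide (n % p = 0) && decide (n < p ^ 3) && notPSL n p
  | .prq p r q b => isPrimeB p && isPrimeB r && isPrimeB q && decide (p ≠ q) && decide (p ≠ r) &&
      decide (q ≠ r) && decide (n = p * r * q ^ b) && decide (n ≠ 60) && decide (n ≠ 168)
  | .quot p q b g => isPrimeB p && isPrimeB q && decide (p ≠ q) && decide (n = p * q ^ b * g) &&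
      decide (g < p - 1) && notPSL n p
  | .succ p m => isPrimeB p && decide (n = p ^ 1 * m) && decide (m % p ≠ 0) &&
      decide ((List.range (m + 1)).filter (cand n p 1 m) = [p + 1]) &&
      (List.range p).all fun e => decide ((p + 1) * e ≠ m) || decide (e ≤ 1) ||
        decide ((p - 1) % e ≠ 0) || (decide (p % 4 = 3) && decide (e % 2 = 0))
  | .selfC p a b => isPrimeB p && decide ((3 ^ a * 2 ^ b) % p ≠ 0) && decide (n = p * (3 ^ a * 2 ^ b)) &&
      notPSL n p && ((List.range (3 ^ a * 2 ^ b + 1)).filter (cand n p 1 (3 ^ a * 2 ^ b))).all fun d =>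
        decide ((p - 1) % ((3 ^ a * 2 ^ b) / d) ≠ 0) || decide (2 * d < (p + 1) * (p + 2))
  | .open' => openOrders.elem n

theorem prime_of_isPrimeB {p : Nat} (h : isPrimeB p = true) : p.Prime := by
  simp only [isPrimeB, Bool.and_eq_true, decide_eq_true_eq, List.all_eq_true, Bool.or_eq_true,
    List.mem_range] at h
  by_contra hp
  have h2 := (Nat.minFac_prime (show p ≠ 1 by omega)).two_le
  have hsq := Nat.minFac_sq_le_self (by omega) hp
  have hlt : p.minFac < 80 := by nlinarith
  rcases h.2 p.minFac hlt with (h3 | h3) | h3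
  · omega
  · nlinarith
  · exact h3 (Nat.mod_eq_zero_of_dvd (Nat.minFac_dvd p))

theorem eq_of_notPSL {n p : Nat} (h : notPSL n p = true)
    (h' : 2 * n = p * (p ^ 2 - 1) ∨ ∃ j, p = 2 ^ j + 1 ∧ n = 2 ^ j * ((2 ^ j) ^ 2 - 1)) : False := by
  simp only [notPSL, Bool.and_eq_true, decide_eq_true_eq] at h
  rcases h' with h' | ⟨j, rfl, h'⟩
  · exact h.1 h'
  · rw [Nat.add_sub_cancel] at h
    exact h.2 h'

/-- A checked certificate leaves one of the open orders. -/
theorem mem_open_of_check {G : Type*} [Group G] [Finite G] [IsSimpleGroup G]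
    (hG : ¬ IsMulCommutative G) {c : Cert} (h : check (Nat.card G) c = true) :
    Nat.card G ∈ openOrders := by
  cases c with
  | pq p a q b =>
    simp only [check, Bool.and_eq_true, decide_eq_true_eq] at h
    exfalso
    exact hG (IsMulCommutative.of_comm (IsSimpleGroup.comm_iff_isSolvable.2
      (CharTheory.isSolvable_of_card_dvd_pow_mul_pow p q a b (prime_of_isPrimeB h.1.1)
        (prime_of_isPrimeB h.1.2) (dvd_of_eq h.2))))
  | two =>
    simp only [check, Bool.and_eq_true, decide_eq_true_eq, List.all_eq_true, List.mem_range,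
      Bool.or_eq_true] at h
    obtain ⟨⟨⟨⟨⟨h2, h16⟩, h56⟩, h7⟩, hle⟩, hq⟩ := h
    exfalso
    rcases order_of_two_small hG (Nat.dvd_of_mod_eq_zero h2)
      (fun hd => h16 (Nat.mod_eq_zero_of_dvd hd)) (fun hd => h56 (Nat.mod_eq_zero_of_dvd hd)) with
      ⟨q, hpp, hodd, -, hn⟩ | hn
    · have hq24 : q < 24 := by
        by_contra hge
        have h24 : 24 ^ 2 ≤ q ^ 2 := Nat.pow_le_pow_left (by omega) 2
        have : 24 * (24 ^ 2 - 1) ≤ q * (q ^ 2 - 1) := Nat.mul_le_mul (by omega) (by omega)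
        omega
      rcases hq q hq24 with (h' | rfl) | h'
      · rw [Nat.odd_iff] at hodd
        omega
      · obtain ⟨r, k, hr, -, hk⟩ := (isPrimePow_nat_iff _).1 hpp
        have h3 : (3 : ℕ) = r := (Nat.prime_dvd_prime_iff_eq Nat.prime_three hr).1
          (Nat.prime_three.dvd_of_dvd_pow (hk ▸ (by norm_num : (3 : ℕ) ∣ 21)))
        have h7 : (7 : ℕ) = r := (Nat.prime_dvd_prime_iff_eq (by norm_num) hr).1
          ((show Nat.Prime 7 by norm_num).dvd_of_dvd_pow (hk ▸ (by norm_num : (7 : ℕ) ∣ 21)))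
        omega
      · exact h' hn
    · exact h7 hn
  | syl p a m =>
    simp only [check, Bool.and_eq_true, decide_eq_true_eq, List.all_eq_true, List.mem_range,
      Bool.not_eq_true'] at h
    obtain ⟨⟨⟨⟨hp, hn⟩, hm⟩, ha⟩, hall⟩ := h
    exfalso
    have : Fact p.Prime := ⟨prime_of_isPrimeB hp⟩
    have hs := sylow_mem_cand hG hn (fun hd => hm (Nat.mod_eq_zero_of_dvd hd)) ha
    rw [List.mem_filter, List.mem_range] at hs
    rw [hall _ hs.1] at hs
    exact Bool.false_ne_true hs.2
  | big p =>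
    simp only [check, Bool.and_eq_true, decide_eq_true_eq] at h
    obtain ⟨⟨⟨hp, hd⟩, hb⟩, hne⟩ := h
    exact (eq_of_notPSL hne
      (order_of_big_prime hG (prime_of_isPrimeB hp) (Nat.dvd_of_mod_eq_zero hd) hb)).elim
  | prq p r q b =>
    simp only [check, Bool.and_eq_true, decide_eq_true_eq] at h
    obtain ⟨⟨⟨⟨⟨⟨⟨⟨hp, hr⟩, hq⟩, hpq⟩, hpr⟩, hqr⟩, hn⟩, h60⟩, h168⟩ := h
    exfalso
    rcases Cfsg.Agent.S0998.result (fun hc => hG inferInstance) p q r b (prime_of_isPrimeB hp)
      (prime_of_isPrimeB hq) (prime_of_isPrimeB hr) hpq hpr hqr hn with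
      ⟨F, _, _, hF, ⟨e⟩⟩ | ⟨F, _, _, hF, ⟨e⟩⟩
    · have := ClassicalLinear.card_PSL_two_of_odd (F := F) hF ⟨2, rfl⟩
      rw [← Nat.card_congr e.toEquiv] at this
      omega
    · have := ClassicalLinear.card_PSL_two_of_odd (F := F) hF ⟨3, rfl⟩
      rw [← Nat.card_congr e.toEquiv] at this
      omega
  | quot p q b g =>
    simp only [check, Bool.and_eq_true, decide_eq_true_eq] at h
    obtain ⟨⟨⟨⟨⟨hp, hq⟩, hpq⟩, hn⟩, hg⟩, hne⟩ := h
    refine (eq_of_notPSL hne ?_).elim
    rcases Cfsg.Agent.S0997.result (fun hc => hG inferInstance) p q b g (prime_of_isPrimeB hp)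
      (prime_of_isPrimeB hq) hpq hn hg with
      ⟨m, F, _, _, hF, hpm, ⟨e⟩⟩ | ⟨m, F, _, _, hF, hpm, h3, ⟨e⟩⟩
    · left
      rw [Nat.card_congr e.toEquiv]
      refine ClassicalLinear.card_PSL_two_of_odd hF ((prime_of_isPrimeB hp).odd_of_ne_two ?_)
      intro h2
      subst h2
      have h0 : g = 0 := by omega
      subst h0
      have := Nat.card_pos (α := G)
      omega
    · refine Or.inr ⟨m, hpm, ?_⟩
      rw [Nat.card_congr e.toEquiv]
      refine ClassicalLinear.card_PSL_two_of_even hF ?_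
      refine (Nat.even_pow).2 ⟨even_two, fun h => ?_⟩
      subst h
      simp at hpm
      omega
  | succ p m =>
    simp only [check, Bool.and_eq_true, decide_eq_true_eq, List.all_eq_true, List.mem_range,
      Bool.or_eq_true] at h
    obtain ⟨⟨⟨⟨hp, hn⟩, hm⟩, hopt⟩, he⟩ := h
    exfalso
    have : Fact p.Prime := ⟨prime_of_isPrimeB hp⟩
    have hm' : ¬ p ∣ m := fun hd => hm (Nat.mod_eq_zero_of_dvd hd)
    have hs := sylow_mem_cand hG hn hm' Nat.one_pos
    rw [hopt, List.mem_singleton] at hs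
    rw [pow_one] at hn
    obtain ⟨e, he1, hep, hprod, hev⟩ := automiser_of_succ hG hn hm' hs
    have hp2 := (prime_of_isPrimeB hp).two_le
    have hle : e ≤ p - 1 := Nat.le_of_dvd (by omega) hep
    rcases he e (by omega) with ((h1 | h1) | h1) | ⟨h4, h2⟩
    · exact h1 hprod
    · omega
    · exact h1 (Nat.mod_eq_zero_of_dvd hep)
    · exact hev h4 (Nat.dvd_of_mod_eq_zero h2)
  | selfC p a b =>
    simp only [check, Bool.and_eq_true, decide_eq_true_eq, List.all_eq_true, Bool.or_eq_true] at h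
    obtain ⟨⟨⟨⟨hp, hm⟩, hn⟩, hne⟩, hd⟩ := h
    have : Fact p.Prime := ⟨prime_of_isPrimeB hp⟩
    exact (eq_of_notPSL hne (order_of_three_primes hG hn rfl
      (fun hdv => hm (Nat.mod_eq_zero_of_dvd hdv)) hd)).elim
  | open' => exact List.mem_of_elem_eq_true h

end CfsgLib.SmallOrders.Range
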