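import Cfsg.Agent.Lib.SmallGroups.StrongReal

/-!
The degree pair of a self-centralising Sylow subgroup of prime order with automiser of order 2, with
the parity of the values at involutions.
-/

set_option autoImplicit false

open scoped ComplexConjugate

namespace CfsgLib.SmallOrders.Range

open Subgroup Cfsg CfsgLib.CharTheory CfsgLib.SmallGroups CfsgLib.SmallGroups.SelfCentral

universe u

variable {G : Type u} [Group G] [Fintype G]

variable [IsSimpleGroup G]

set_option maxHeartbeats 1200000 in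
open scoped Classical in
/-- The degree pair and the centraliser orders of involutions. -/
theorem exists_degree_pair_parity (hG : ¬ IsMulCommutative G) {p : ℕ} [hp : Fact p.Prime] (hp2 : p ≠ 2)
    (P : Sylow p G) (hP : Nat.card ↥(P : Subgroup G) = p)
    (hC : Nat.card ↥(centralizer ((P : Subgroup G) : Set G)) = p)
    (hN : Nat.card ↥(normalizer ((P : Subgroup G) : Set G)) = p * 2) :
    ∃ A : ℕ, 1 < A ∧ A ∣ Nat.card G ∧ (A + 1) ∣ Nat.card G ∧ A ^ 2 + (A + 1) ^ 2 < Nat.card G ∧
      ∀ u : G, orderOf u = 2 → ∃ a : ℤ, Even (a - A) ∧ a ≠ A ∧ a ≤ A ∧ -(A : ℤ) ≤ a ∧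
        (a - A) ^ 2 * Nat.card G = p * (Nat.card ↥(centralizer ({u} : Set G)) : ℤ) ^ 2 * (A * (A + 1)) := by
  have : Fintype (IrrCharacter G) := by
    have : Finite (IrrCharacter G) := Nat.finite_of_card_ne_zero (by
      rw [card_irrCharacter]; exact Nat.card_pos.ne')
    exact Fintype.ofFinite _
  obtain ⟨deg, ι, _, rel, n, hdeg, hsq, hι, htriv, hzero, hrefl, hin, -, -, -, hchar⟩ :=
    exists_vectors_char P hP hC hN
  have : Nonempty ι := (Nat.card_pos_iff.mp (hι ▸ Nat.sub_pos_of_lt hp.out.one_lt)).1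
  obtain ⟨i⟩ := this
  obtain ⟨μ, hμ, hμn⟩ := hchar i
  set one := trivIrr G with hone
  have hdeg1 : deg one = 1 := by
    have h := (hdeg one).1
    rw [hone, trivIrr_apply] at h
    exact_mod_cast h.symm
  -- the support
  have hnorm : ∑ ψ ∈ Finset.univ.erase one, n i ψ * n i ψ = 2 := by
    have h := hin i i (hrefl i)
    rw [← Finset.add_sum_erase _ _ (Finset.mem_univ one), htriv] at h
    push_cast at h
    linarith
  set supp := (Finset.univ.erase one).filter fun ψ => n i ψ ≠ 0 with hsupp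
  have hval : ∀ ψ ∈ supp, n i ψ = 1 ∨ n i ψ = -1 := by
    intro ψ hψ
    obtain ⟨h1, h2⟩ := Finset.mem_filter.mp hψ
    have h3 := Finset.single_le_sum (f := fun φ => n i φ * n i φ) (fun φ _ => mul_self_nonneg _) h1
    rw [hnorm] at h3
    have : n i ψ < 2 := by nlinarith
    have : -2 < n i ψ := by nlinarith
    omega
  have hsc : supp.card = 2 := by
    have h := hnorm
    rw [← Finset.sum_filter_of_ne (p := fun ψ => n i ψ ≠ 0) (fun ψ _ hne h0 => hne (by rw [h0, mul_zero])),
      ← hsupp, Finset.sum_congr rfl (g := fun _ => (1 : ℤ)) (fun ψ hψ => by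
        rcases hval ψ hψ with h' | h' <;> rw [h'] <;> rfl), Finset.sum_const, nsmul_one] at h
    exact_mod_cast h
  have hexp : ∀ f : IrrCharacter G → ℂ, ∑ ψ, (n i ψ : ℂ) * f ψ = f one + ∑ ψ ∈ supp, (n i ψ : ℂ) * f ψ := by
    intro f
    rw [← Finset.add_sum_erase _ _ (Finset.mem_univ one), htriv, Int.cast_one, one_mul]
    congr 1
    exact (Finset.sum_filter_of_ne (p := fun ψ => n i ψ ≠ 0) (fun ψ _ hne h0 => hne (by rw [h0]; simp))).symm
  obtain ⟨ψ₀, φ₀, hne₀, hsupp₀⟩ := Finset.card_eq_two.mp hsc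
  have hgt : ∀ ψ ∈ supp, 1 < deg ψ := by
    intro ψ hψ
    by_contra h
    have h1 : deg ψ = 1 := by have := (hdeg ψ).2.1; omega
    obtain ⟨ν, hν⟩ := exists_hom_of_degree_one ψ.2 (by rw [(hdeg ψ).1, h1, Nat.cast_one])
    refine (Finset.mem_erase.mp (Finset.mem_filter.mp hψ).1).1 (Subtype.ext ?_)
    rw [hν]
    funext g
    have hker : ν.ker = ⊤ := by
      refine ((inferInstance : ν.ker.Normal).eq_bot_or_eq_top).resolve_left fun hb => hG ?_
      exact IsMulCommutative.of_comm fun a b =>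
        (MonoidHom.ker_eq_bot_iff ν).mp hb (by rw [map_mul, map_mul, mul_comm])
    show (ν g : ℂ) = 1
    rw [show ν g = 1 from MonoidHom.mem_ker.mp (hker ▸ mem_top g), Units.val_one]
  obtain ⟨ψ, φ, hsum2, hψ, hφ, hne⟩ : ∃ ψ φ : IrrCharacter G, supp = {ψ, φ} ∧ n i ψ = 1 ∧ n i φ = -1 ∧ ψ ≠ φ := by
    have ha : ψ₀ ∈ supp := by rw [hsupp₀]; simp
    have hb : φ₀ ∈ supp := by rw [hsupp₀]; simp
    have h0 : ((∑ ψ, n i ψ * deg ψ : ℤ) : ℂ) = 0 := by rw [hzero]; simp
    push_cast at h0
    rw [hexp fun ψ => (deg ψ : ℂ), hsupp₀, Finset.sum_pair hne₀, hdeg1] at h0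
    have hd₀ := hgt _ ha
    have hd₁ := hgt _ hb
    rcases hval _ ha with h1 | h1 <;> rcases hval _ hb with h2 | h2 <;> rw [h1, h2] at h0
    · exfalso
      have h' : ((1 + deg ψ₀ + deg φ₀ : ℕ) : ℂ) = ((0 : ℕ) : ℂ) := by push_cast at h0 ⊢; linear_combination h0
      have := Nat.cast_inj.mp h'
      omega
    · exact ⟨ψ₀, φ₀, hsupp₀, h1, h2, hne₀⟩
    · exact ⟨φ₀, ψ₀, hsupp₀.trans (Finset.pair_comm _ _), h2, h1, hne₀.symm⟩
    · exfalso
      have h' : ((deg ψ₀ + deg φ₀ : ℕ) : ℂ) = ((1 : ℕ) : ℂ) := by push_cast at h0 ⊢; linear_combination -h0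
      have := Nat.cast_inj.mp h'
      omega
  have hsum : ∀ f : IrrCharacter G → ℂ, ∑ χ, (n i χ : ℂ) * f χ = f one + f ψ - f φ := by
    intro f
    rw [hexp, hsum2, Finset.sum_pair hne, hψ, hφ]
    push_cast
    ring
  set A := deg ψ with hA
  have hX : deg φ = A + 1 := by
    have h0 : ((∑ χ, n i χ * deg χ : ℤ) : ℂ) = 0 := by rw [hzero]; simp
    push_cast at h0
    rw [hsum fun χ => (deg χ : ℂ), hdeg1, ← hA] at h0
    have h' : ((deg φ : ℕ) : ℂ) = ((A + 1 : ℕ) : ℂ) := by push_cast at h0 ⊢; linear_combination -h0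
    exact Nat.cast_inj.mp h'
  refine ⟨A, hgt ψ (by rw [hsum2]; simp), (hdeg ψ).2.2, hX ▸ (hdeg φ).2.2, ?_, fun u hu => ?_⟩
  · have h1 : one ∉ ({ψ, φ} : Finset (IrrCharacter G)) := fun h => by
      rw [← hsum2] at h; exact (Finset.mem_erase.mp (Finset.mem_filter.mp h).1).1 rfl
    have h := Finset.sum_le_sum_of_subset (f := fun χ => deg χ ^ 2)
      (Finset.subset_univ (insert one ({ψ, φ} : Finset (IrrCharacter G))))
    rw [hsq, Finset.sum_insert h1, Finset.sum_pair hne, hdeg1, hX, ← hA] at h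
    omega
  -- the weights on `P`
  let F : G → ℂ := fun g => if hg : g ∈ (P : Subgroup G) then conj (1 - (μ ⟨g, hg⟩ : ℂ)) else 0
  have hF : ∀ χ : IrrCharacter G, ∑ g : G, F g * (χ : G → ℂ) g = (p : ℂ) * n i χ := by
    intro χ
    have h := congrArg conj (hμn χ)
    simp only [classInner, map_mul, map_sum, map_inv₀, map_natCast, Complex.conj_conj, hP, map_intCast] at h
    rw [← h, ← mul_assoc, mul_inv_cancel₀ (Nat.cast_ne_zero.mpr hp.out.ne_zero), one_mul,
      ← Finset.sum_subset (Finset.subset_univ (Finset.univ.filter fun g : G => g ∈ (P : Subgroup G)))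
        (fun g _ hg => by
          have : g ∉ (P : Subgroup G) := fun h => hg (Finset.mem_filter.mpr ⟨Finset.mem_univ _, h⟩)
          simp [F, dif_neg this])]
    refine (Finset.sum_subtype (p := fun g => g ∈ (P : Subgroup G)) (F := inferInstance) _ (fun g => by simp) _).trans ?_
    exact Finset.sum_congr rfl fun z _ => by simp only [F, dif_pos z.2]
  -- the rational value
  obtain ⟨d, a, hd, ha, hpar⟩ := CfsgLib.Involutions.exists_int_of_involution ψ.2 (a := u)
    (by rw [← pow_two, ← hu, pow_orderOf_eq_one])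
  obtain ⟨d', x, hd', hx, -⟩ := CfsgLib.Involutions.exists_int_of_involution φ.2 (a := u)
    (by rw [← pow_two, ← hu, pow_orderOf_eq_one])
  have hcol : (1 : ℂ) + a - x = 0 := by
    have h : ∑ χ : IrrCharacter G, (n i χ : ℂ) * conj ((χ : G → ℂ) u) = 0 := by
      apply mul_left_cancel₀ (Nat.cast_ne_zero.mpr hp.out.ne_zero : (p : ℂ) ≠ 0)
      rw [mul_zero, Finset.mul_sum]
      simp only [← mul_assoc, ← hF, Finset.sum_mul]
      rw [Finset.sum_comm]
      refine Finset.sum_eq_zero fun g _ => ?_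
      simp only [mul_assoc, ← Finset.mul_sum, sum_mul_conj]
      by_cases hc : IsConj g u
      · have hg : g ∉ (P : Subgroup G) := fun hg => by
          obtain ⟨c, hcu⟩ := isConj_iff.mp hc
          have h2 : orderOf g = 2 := by
            rw [← hu, ← hcu]; exact (orderOf_injective (MulAut.conj c).toMonoidHom (MulAut.conj c).injective g).symm
          have := (Nat.prime_dvd_prime_iff_eq Nat.prime_two hp.out).mp (hP ▸ h2 ▸ Subgroup.orderOf_dvd_natCard _ hg)
          exact hp2 this.symm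
        simp [F, dif_neg hg]
      · rw [if_neg hc, mul_zero]
    rw [hsum fun χ => conj ((χ : G → ℂ) u), hone, trivIrr_apply, ha, hx] at h
    simpa using h
  have hne' : a ≠ A := by
    intro haA
    obtain ⟨K, hKn, hK, -⟩ := exists_kernel (IsIrrCharacter.isCharacter ψ.2)
    have huK : u ∈ K := (hK u).mpr (by rw [ha, haA, (hdeg ψ).1]; push_cast; rfl)
    have htop : K = ⊤ := (hKn.eq_bot_or_eq_top).resolve_left fun h => by
      rw [h, mem_bot] at huK; rw [huK, orderOf_one] at hu; omega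
    have hconst : ∀ g, (ψ : G → ℂ) g = (ψ : G → ℂ) 1 := fun g => (hK g).mp (htop ▸ mem_top g)
    have h1 : (ψ : G → ℂ) 1 = 1 := by
      by_contra hne1
      have h0 := classInner_eq_zero_of_ne ψ.2 isIrrCharacter_one fun e => hne1 (congrFun e 1)
      rw [funext hconst] at h0
      exact apply_one_ne_zero_of_isIrr ψ.2 (by simpa [classInner] using h0)
    rw [(hdeg ψ).1] at h1
    have h1' : A = 1 := Nat.cast_eq_one.mp h1
    have := hgt ψ (by rw [hsum2]; simp)
    omega
  have hnorm' : ‖((a : ℤ) : ℂ)‖ ≤ (A : ℝ) := by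
    obtain ⟨m, ρ, -, hρ⟩ := ψ.2
    have h := norm_character_le ρ u
    have h1 := (hdeg ψ).1
    rw [← hρ, ρ.char_one, Nat.cast_inj] at h1
    rw [hρ, ha, h1] at h
    exact h
  rw [Complex.norm_intCast] at hnorm'
  obtain ⟨hlo, hhi⟩ := abs_le.mp hnorm'
  refine ⟨a, by
    rw [(hdeg ψ).1, ← hA, Nat.cast_inj] at hd
    rw [hd]
    exact hpar, hne', by exact_mod_cast hhi, by exact_mod_cast hlo, ?_⟩
  -- the structure constant
  set cnt : G → ℕ := fun g => (Finset.univ.filter fun x => IsConj u x ∧ IsConj u (x * g)).card with hcnt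
  set N := normalizer ((P : Subgroup G) : Set G) with hNdef
  have hCP : centralizer ((P : Subgroup G) : Set G) = (P : Subgroup G) := by
    have : IsCyclic ↥(P : Subgroup G) := isCyclic_of_prime_card hP
    have : IsMulCommutative ↥(P : Subgroup G) := ⟨⟨fun a b => IsCyclic.commGroup.mul_comm a b⟩⟩
    exact (eq_of_le_of_card_ge (P : Subgroup G).le_centralizer (by rw [hC, hP])).symm
  set K₀ := (Finset.univ.filter fun x => x ∈ N ∧ IsConj u x).card with hK₀
  have hord : ∀ x, IsConj u x → x * x = 1 := fun x hx => by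
    obtain ⟨c, rfl⟩ := isConj_iff.mp hx
    calc c * u * c⁻¹ * (c * u * c⁻¹) = c * (u * u) * c⁻¹ := by group
      _ = 1 := by rw [show u * u = 1 by rw [← pow_two, ← hu, pow_orderOf_eq_one]]; group
  have hP2 : ∀ x ∈ (P : Subgroup G), x * x = 1 → x = 1 := fun x hx h => by
    have hd : orderOf x ∣ Nat.gcd 2 p := Nat.dvd_gcd (orderOf_dvd_of_pow_eq_one (by rw [pow_two, h]))
      (hP ▸ Subgroup.orderOf_dvd_natCard _ hx)
    rw [(Nat.coprime_primes Nat.prime_two hp.out).mpr (Ne.symm hp2)] at hd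
    exact orderOf_eq_one_iff.mp (Nat.dvd_one.mp hd)
  have hu1 : ∀ x, IsConj u x → x ∉ (P : Subgroup G) := fun x hx hxP => by
    obtain ⟨c, hc⟩ := isConj_iff.mp hx
    have h1 := hP2 x hxP (hord x hx)
    rw [h1, mul_inv_eq_one, mul_eq_left] at hc
    rw [hc, orderOf_one] at hu
    omega
  have hconjN : ∀ x ∈ N, x ∉ (P : Subgroup G) → ∀ y ∈ (P : Subgroup G), IsConj x (x * y) := by
    intro x hx hxP y hy
    obtain ⟨hxx, hxinv⟩ := involution_of_mem_normalizer P hp2 hCP hP hN hx hxP
    -- a square root of `y`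
    set h := y ^ ((p + 1) / 2) with hh
    have hh2 : h * h = y := by
      have hodd : (p + 1) / 2 + (p + 1) / 2 = p + 1 := by
        rcases hp.out.eq_two_or_odd with h' | h' <;> omega
      rw [hh, ← pow_add, hodd, pow_succ, ← hP]
      have : y ^ Nat.card ↥(P : Subgroup G) = 1 := orderOf_dvd_iff_pow_eq_one.mp (Subgroup.orderOf_dvd_natCard _ hy)
      rw [this, one_mul]
    refine isConj_iff.mpr ⟨h⁻¹, ?_⟩
    have hi := hxinv h⁻¹ (inv_mem (pow_mem hy _))
    rw [inv_inv] at hi
    calc h⁻¹ * x * h⁻¹⁻¹ = (x * x) * (h⁻¹ * x * h) := by rw [hxx, one_mul, inv_inv]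
      _ = x * (x * h⁻¹ * x) * h := by group
      _ = x * y := by rw [hi, mul_assoc, hh2]
  have hcntP : ∀ g ∈ (P : Subgroup G), g ≠ 1 → cnt g = K₀ := by
    intro g hg hg1
    simp only [hcnt, hK₀]
    congr 1
    ext x
    simp only [Finset.mem_filter, Finset.mem_univ, true_and]
    constructor
    · rintro ⟨h1, h2⟩
      refine ⟨?_, h1⟩
      have hinv : x * g * x⁻¹ = g⁻¹ := by
        rw [show x⁻¹ = x from inv_eq_of_mul_eq_one_right (hord x h1), eq_inv_iff_mul_eq_one]
        simpa [mul_assoc] using hord _ h2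
      rw [hNdef, mem_normalizer_iff_map_conj_eq]
      refine eq_of_le_of_card_ge ?_ (le_of_eq (card_map_of_injective (MulAut.conj x).injective).symm)
      rintro _ ⟨z, hz, rfl⟩
      obtain ⟨k, hk⟩ := mem_zpowers_iff.mp
        ((zpowers_eq_top_of_prime_card hP (g := (⟨g, hg⟩ : ↥(P : Subgroup G)))
          (fun h => hg1 (congrArg Subtype.val h))) ▸ mem_top (⟨z, hz⟩ : ↥(P : Subgroup G)))
      have hk' : g ^ k = z := congrArg Subtype.val hk
      show (MulAut.conj x) z ∈ (P : Subgroup G)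
      rw [← hk', map_zpow, MulAut.conj_apply, hinv]
      exact zpow_mem (inv_mem hg) k
    · rintro ⟨h1, h2⟩
      exact ⟨h2, h2.trans (hconjN x h1 (hu1 x h2) g hg)⟩
  have hFsum : ∑ g : G, F g * (cnt g : ℂ) = (p : ℂ) * K₀ := by
    calc ∑ g : G, F g * (cnt g : ℂ) = ∑ g : G, F g * (K₀ : ℂ) := by
          refine Finset.sum_congr rfl fun g _ => ?_
          by_cases hg : g ∈ (P : Subgroup G)
          · by_cases hg1 : g = 1
            · subst hg1
              have hF1 : F 1 = 0 := by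
                simp only [F, dif_pos hg]
                rw [show (⟨1, hg⟩ : ↥(P : Subgroup G)) = 1 from rfl, map_one]
                simp
              rw [hF1, zero_mul, zero_mul]
            · rw [hcntP g hg hg1]
          · simp only [F, dif_neg hg, zero_mul]
      _ = (p : ℂ) * K₀ := by
          rw [← Finset.sum_mul]
          have h := hF one
          rw [htriv, Int.cast_one, mul_one] at h
          simp only [hone, trivIrr_apply, mul_one] at h
          rw [h]
  have hmain := CfsgLib.BrauerCharacters.sum_weight_pairs u u F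
  simp only [hF] at hmain
  have hmain' : (p : ℂ) * K₀ = ((centralizer ({u} : Set G)).index : ℂ) / (Nat.card G : ℂ) *
      ((p : ℂ) * ∑ χ : IrrCharacter G, (n i χ : ℂ) * (centralChar (χ : G → ℂ) u * conj ((χ : G → ℂ) u))) := by
    simp only [hcnt] at hFsum
    clear_value F
    refine Eq.trans ?_ (hmain.trans ?_)
    · rw [← hFsum]
      refine Finset.sum_congr rfl fun g _ => congrArg (F g * ·) (congrArg Nat.cast (congrArg Finset.card ?_))
      exact Finset.ext fun y => by simp only [Finset.mem_filter, Finset.mem_univ, true_and]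
    congr 1
    rw [Finset.mul_sum]
    exact Finset.sum_congr rfl fun χ _ => by ring
  rw [hsum fun χ => centralChar (χ : G → ℂ) u * conj ((χ : G → ℂ) u)] at hmain'
  simp only [centralChar, hone, trivIrr_apply, ha, hx, (hdeg ψ).1, (hdeg φ).1, hX, map_intCast, map_one,
    ← hA] at hmain'
  set k := (centralizer ({u} : Set G)).index with hk
  set c := Nat.card ↥(centralizer ({u} : Set G)) with hc
  have hkc : (k : ℂ) * c = Nat.card G := by
    rw [hk, hc, ← Nat.cast_mul, index_mul_card]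
  have hx' : (x : ℂ) = a + 1 := by linear_combination -hcol
  have hA0 : (A : ℂ) ≠ 0 := Nat.cast_ne_zero.mpr (by have := hgt ψ (by rw [hsum2]; simp); omega)
  have hA1 : (A : ℂ) + 1 ≠ 0 := by exact_mod_cast Nat.succ_ne_zero A
  have hG0 : (Nat.card G : ℂ) ≠ 0 := by simp
  have hp0 : (p : ℂ) ≠ 0 := Nat.cast_ne_zero.mpr hp.out.ne_zero
  have heq : (K₀ : ℂ) * c ^ 2 * (A * (A + 1)) = ((a : ℂ) - A) ^ 2 * Nat.card G := by
    rw [hx'] at hmain'
    push_cast at hmain'
    field_simp at hmain'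
    rw [← hkc] at hmain' ⊢
    refine mul_left_cancel₀ (Nat.cast_ne_zero.mpr (index_ne_zero_of_finite : k ≠ 0) : (k : ℂ) ≠ 0) ?_
    linear_combination (c : ℂ) * hmain'
  have hK : K₀ = p := by
    have hK0 : K₀ ≠ 0 := fun h0 => by
      rw [h0, Nat.cast_zero, zero_mul, zero_mul, eq_comm, mul_eq_zero] at heq
      refine heq.elim (fun h => hne' ?_) hG0
      have h' : (a : ℂ) = (((A : ℕ) : ℤ) : ℂ) := by
        push_cast; exact sub_eq_zero.mp ((pow_eq_zero_iff two_ne_zero).mp h)
      exact_mod_cast h'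
    obtain ⟨x₀, hx₀⟩ := Finset.card_pos.mp (Nat.pos_of_ne_zero hK0)
    simp only [Finset.mem_filter, Finset.mem_univ, true_and] at hx₀
    obtain ⟨hx₀N, hx₀u⟩ := hx₀
    rw [hK₀, ← hP, Nat.card_eq_fintype_card]
    refine (Finset.card_bij (fun (z : ↥(P : Subgroup G)) _ => x₀ * (z : G)) (fun z _ => ?_) (fun a _ b _ h => ?_)
      (fun x hx => ?_)).symm
    · exact Finset.mem_filter.mpr ⟨Finset.mem_univ _, mul_mem hx₀N (le_normalizer z.2),
        hx₀u.trans (hconjN x₀ hx₀N (hu1 _ hx₀u) z z.2)⟩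
    · exact Subtype.ext (mul_left_cancel h)
    · simp only [Finset.mem_filter, Finset.mem_univ, true_and] at hx
      have hidx : ((P : Subgroup G).subgroupOf N).index = 2 := by
        have h := card_mul_index ((P : Subgroup G).subgroupOf N)
        rw [Nat.card_congr (subgroupOfEquivOfLe le_normalizer).toEquiv, hP, hN] at h
        exact Nat.eq_of_mul_eq_mul_left hp.out.pos h
      have hmem : x₀⁻¹ * x ∈ (P : Subgroup G) :=
        (mul_mem_iff_of_index_two hidx (a := (⟨x₀, hx₀N⟩ : N)⁻¹) (b := ⟨x, hx.1⟩)).mpr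
          ⟨fun h => absurd (inv_mem_iff.mp h) (hu1 _ hx₀u), fun h => absurd h (hu1 _ hx.2)⟩
      exact ⟨⟨_, hmem⟩, Finset.mem_univ _, mul_inv_cancel_left x₀ x⟩
  rw [hK] at heq
  have : ((((a - A) ^ 2 * Nat.card G : ℤ)) : ℂ) = (((p * (c : ℤ) ^ 2 * (A * (A + 1)) : ℤ)) : ℂ) := by
    push_cast
    linear_combination -heq
  exact_mod_cast this

end CfsgLib.SmallOrders.Range
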