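import Cfsg.Agent.Lib.SmallOrders.Range.Kill3120

/-!
No simple group has order 1512.
-/

set_option autoImplicit false

namespace CfsgLib.SmallOrders.Range

open Subgroup MulAction CfsgLib.SmallGroups CfsgLib.KGroups.SmallOrders

variable {G : Type*} [Group G] [Finite G]

/-- Transfer at an element whose conjugate powers have the expected image. -/
theorem transfer_eq_pow_of_key {H : Subgroup G} {A : Type*} [CommGroup A] (φ : H →* A) {x : G}
    (hx : x ∈ H)
    (key : ∀ (k : ℕ) (g : G) (hg : g⁻¹ * x ^ k * g ∈ H), φ ⟨g⁻¹ * x ^ k * g, hg⟩ = φ ⟨x, hx⟩ ^ k) :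
    MonoidHom.transfer φ x = φ ⟨x, hx⟩ ^ H.index := by
  classical
  let := H.fintypeQuotientOfFiniteIndex
  rw [MonoidHom.transfer_eq_prod_quotient_orbitRel_zpowers_quot, index_eq_sum_minimalPeriod H x,
    ← Finset.prod_pow_eq_pow_sum]
  exact Finset.prod_congr rfl fun q _ => key _ _ _

omit [Finite G] in
/-- A normal Sylow subgroup contains the elements of `p`-power order normalising it. -/
theorem mem_sylow_of_mem_normalizer {p : ℕ} [Fact p.Prime] (P : Sylow p G) {g : G}
    (hg : g ∈ normalizer ((P : Subgroup G) : Set G)) {k : ℕ} (hk : orderOf g = p ^ k) : g ∈ (P : Subgroup G) :=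
  ((IsPGroup.inf_normalizer_sylow (IsPGroup.of_card (p := p) (n := k) (G := zpowers g)
    (by rw [Nat.card_zpowers, hk])) P).le ⟨mem_zpowers g, hg⟩).2

/-- A number of fixed Sylow subgroups: the Sylow number of the centraliser. -/
theorem card_centralizer_two {T : Sylow 2 G} [Fact (Nat.Prime 2)] (hab : IsMulCommutative ↥(T : Subgroup G))
    {u : G} (huT : u ∈ (T : Subgroup G)) (hu : orderOf u = 2) :
    Nat.card (fixedBy (Sylow 2 G) u) * Nat.card ↥(normalizer ((T : Subgroup G) : Set G) ⊓
      centralizer ({u} : Set G) : Subgroup G) = Nat.card ↥(centralizer ({u} : Set G)) := by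
  classical
  set C := centralizer ({u} : Set G) with hC
  have habR : ∀ R : Sylow 2 G, IsMulCommutative ↥(R : Subgroup G) := fun R => by
    obtain ⟨x, rfl⟩ := MulAction.exists_smul_eq G T R
    exact IsMulCommutative.of_comm fun a b => by
      have e := (T.equivSMul x).symm
      exact e.injective (by rw [map_mul, map_mul]; exact hab.is_comm.comm _ _)
  have hfix : ∀ R : Sylow 2 G, u • R = R ↔ (R : Subgroup G) ≤ C := by
    intro R
    constructor
    · intro hR y hy
      have huR := mem_sylow_of_mem_normalizer R (Sylow.smul_eq_iff_mem_normalizer.1 hR) (k := 1) (by rw [hu, pow_one])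
      exact mem_centralizer_singleton_iff.2
        (congrArg Subtype.val ((habR R).is_comm.comm (⟨y, hy⟩ : ↥(R : Subgroup G)) ⟨u, huR⟩))
    · intro hR
      refine Sylow.smul_eq_iff_mem_normalizer.2 (centralizer_le_normalizer _ ?_)
      exact mem_centralizer_iff.2 fun y hy => mem_centralizer_singleton_iff.1 (hR hy)
  have hTC : (T : Subgroup G) ≤ C := (hfix T).1 (Sylow.smul_eq_iff_mem_normalizer.2 (le_normalizer huT))
  have hcard : Nat.card (fixedBy (Sylow 2 G) u) = Nat.card (Sylow 2 C) := by
    refine Nat.card_congr (Equiv.ofBijective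
      (fun R : fixedBy (Sylow 2 G) u => (R : Sylow 2 G).subtype ((hfix R.1).1 R.2)) ⟨?_, ?_⟩)
    · intro R S h; exact Subtype.ext (Sylow.subtype_injective h)
    · intro S
      obtain ⟨R, hR⟩ := (S.isPGroup'.map C.subtype).exists_le_sylow
      have heq : (S : Subgroup C).map C.subtype = (R : Subgroup G) := by
        refine eq_of_le_of_card_ge hR ?_
        rw [card_subtype, R.card_eq_multiplicity]
        refine Nat.le_of_dvd Nat.card_pos (S.pow_dvd_card_of_pow_dvd_card ?_)
        rw [← T.card_eq_multiplicity]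
        exact card_dvd_of_le hTC
      have hle : (R : Subgroup G) ≤ C := heq ▸ map_subtype_le _
      refine ⟨⟨R, (hfix R).2 hle⟩, Sylow.ext ?_⟩
      rw [Sylow.coe_subtype, subgroupOf, ← heq, comap_map_eq_self_of_injective C.subtype_injective]
  rw [hcard, CfsgLib.SmallGroups.TwentyOne.card_sylow_subgroup T hTC, ← inf_relIndex_right, mul_comm,
    ← Nat.card_congr (subgroupOfEquivOfLe
      (inf_le_right : normalizer ((T : Subgroup G) : Set G) ⊓ C ≤ C)).toEquiv, relIndex, card_mul_index]

variable [IsSimpleGroup G] (hG : ¬ IsMulCommutative G)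
include hG

/-- The data of order 1512: the Sylow 2-normaliser and the centraliser of an involution. -/
theorem data_1512 (h : Nat.card G = 1512) :
    ∃ (T : Sylow 2 G) (g : G), IsMulCommutative ↥(T : Subgroup G) ∧ orderOf g = 7 ∧
      g ∈ normalizer ((T : Subgroup G) : Set G) ∧ (∀ y, Commute g y → orderOf y ∣ 7) ∧
      (∀ t ∈ (T : Subgroup G), t ≠ 1 → orderOf t = 2 ∧
        ∀ s ∈ (T : Subgroup G), s ≠ 1 → ∃ i : ℕ, g ^ i * t * (g ^ i)⁻¹ = s) ∧
      ((Nat.card (Sylow 2 G) = 27 ∧ ∀ u ∈ (T : Subgroup G), u ≠ 1 → Nat.card (fixedBy (Sylow 2 G) u) = 3) ∨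
      (Nat.card (Sylow 2 G) = 9 ∧ ∀ u ∈ (T : Subgroup G), u ≠ 1 → Nat.card (fixedBy (Sylow 2 G) u) = 1)) := by
  classical
  have := Fact.mk Nat.prime_two
  have : Fact (Nat.Prime 7) := ⟨by norm_num⟩
  obtain ⟨T⟩ := (inferInstance : Nonempty (Sylow 2 G))
  have hT : Nat.card ↥(T : Subgroup G) = 8 := by
    rw [card_sylow_eq (a := 3) (m := 189) (h.trans (by norm_num)) (by norm_num) T]; norm_num
  have hab : IsMulCommutative ↥(T : Subgroup G) := by
    by_contra hab
    rcases CfsgLib.TwoGroups.dihedral_or_quaternion_of_card_eight hT hab with hd | hq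
    · rcases order_of_dihedral hG T (k := 4) (by norm_num) hd with ⟨q, -, -, -, hq⟩ | hq
      · rw [h] at hq
        have hq16 : q < 16 := by
          by_contra hge
          have h2 : 16 ^ 2 ≤ q ^ 2 := Nat.pow_le_pow_left (by omega) 2
          have : 16 * (16 ^ 2 - 1) ≤ q * (q ^ 2 - 1) := Nat.mul_le_mul (by omega) (by omega)
          omega
        interval_cases q <;> norm_num at hq
      · omega
    · obtain ⟨e⟩ := hq
      have hZ := Cfsg.Agent.S0201.result T 0 (e.trans (MulEquiv.refl _)) (fun N hN hodd => by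
        rcases hN.eq_bot_or_eq_top with h' | h'
        · exact h'
        · subst h'
          rw [card_top, h] at hodd
          exact absurd hodd (by decide))
      rcases (inferInstance : (center G).Normal).eq_bot_or_eq_top with h' | h'
      · rw [h', card_bot] at hZ; omega
      · exact hG (IsMulCommutative.of_comm fun a b =>
          ((mem_center_iff.mp (h' ▸ mem_top a)) b).symm)
  set N := normalizer ((T : Subgroup G) : Set G) with hNdef
  have h7 := seven_dvd_normalizer hG T hT hab
  obtain ⟨⟨g, hgN⟩, hg'⟩ := exists_prime_orderOf_dvd_card' (G := ↥N) 7 h7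
  have hg : orderOf g = 7 := (Subgroup.orderOf_coe _).trans hg'
  have hcg : ∀ y, Commute g y → orderOf y ∣ 7 := by
    intro y hy
    have hcen := Cfsg.Agent.S1001.result 7 3 3 (by norm_num) (h.trans (by norm_num)) g hg
    have hmem : y ∈ centralizer ({g} : Set G) := mem_centralizer_singleton_iff.2 hy.symm.eq
    have h' := Subgroup.orderOf_dvd_natCard _ (hcen ▸ hmem)
    rwa [Nat.card_zpowers, hg] at h'
  have htwo : ∀ y : G, orderOf y ∣ 8 → Commute g y → y = 1 := fun y hy hc => by
    have := Nat.dvd_gcd hy (hcg y hc)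
    norm_num at this
    exact this
  -- the orbit of `g` on the non-trivial elements
  have hgpow : ∀ i : ℕ, g ^ i ∈ N := fun i => pow_mem hgN i
  have horbit : ∀ t ∈ (T : Subgroup G), t ≠ 1 → ∀ s ∈ (T : Subgroup G), s ≠ 1 →
      ∃ i : ℕ, g ^ i * t * (g ^ i)⁻¹ = s := by
    intro t ht ht1 s hs hs1
    let f : Fin 7 → {y : ↥(T : Subgroup G) // y ≠ 1} := fun i =>
      ⟨⟨g ^ (i : ℕ) * t * (g ^ (i : ℕ))⁻¹, (mem_normalizer_iff.1 (hgpow i) t).1 ht⟩, fun he =>
        ht1 (conj_eq_one_iff.1 (congrArg Subtype.val he))⟩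
    have hinj : Function.Injective f := by
      intro i j hij
      have he : g ^ (i : ℕ) * t * (g ^ (i : ℕ))⁻¹ = g ^ (j : ℕ) * t * (g ^ (j : ℕ))⁻¹ :=
        congrArg (fun y : {y : ↥(T : Subgroup G) // y ≠ 1} => ((y : ↥(T : Subgroup G)) : G)) hij
      by_contra hne
      have hc : Commute ((g ^ (j : ℕ))⁻¹ * g ^ (i : ℕ)) t := by
        show (g ^ (j : ℕ))⁻¹ * g ^ (i : ℕ) * t = t * ((g ^ (j : ℕ))⁻¹ * g ^ (i : ℕ))
        calc (g ^ (j : ℕ))⁻¹ * g ^ (i : ℕ) * t
            = (g ^ (j : ℕ))⁻¹ * (g ^ (i : ℕ) * t * (g ^ (i : ℕ))⁻¹) * g ^ (i : ℕ) := by group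
          _ = t * ((g ^ (j : ℕ))⁻¹ * g ^ (i : ℕ)) := by rw [he]; group
      have hz : (g ^ (j : ℕ))⁻¹ * g ^ (i : ℕ) = g ^ ((i : ℤ) - j) := by
        rw [zpow_sub, zpow_natCast, zpow_natCast]
        exact ((Commute.refl g).pow_pow _ _).inv_left.eq
      rw [hz] at hc
      obtain ⟨a, b, hab'⟩ : IsCoprime ((i : ℤ) - j) 7 := by
        rw [Int.isCoprime_iff_gcd_eq_one]
        have hne' : ((i : ℤ) - j).natAbs ≠ 0 := by
          simp only [ne_eq, Int.natAbs_eq_zero, sub_eq_zero, Nat.cast_inj]
          exact fun e => hne (Fin.ext e)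
        have hlt : ((i : ℤ) - j).natAbs < 7 := by have := i.2; have := j.2; omega
        exact ((Nat.Prime.coprime_iff_not_dvd (by norm_num : Nat.Prime 7)).2 fun hd =>
          absurd (Nat.le_of_dvd (by omega) hd) (by omega)).symm
      have hg1 : Commute g t := by
        have := hc.zpow_left a
        rw [← zpow_mul] at this
        have e : g ^ (((i : ℤ) - j) * a) = g := by
          rw [show ((i : ℤ) - j) * a = 1 - b * 7 by linarith, zpow_sub, zpow_one, mul_comm b,
            zpow_mul, zpow_ofNat, ← hg, pow_orderOf_eq_one, one_zpow, inv_one, mul_one]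
        rwa [e] at this
      exact ht1 (htwo t (hT ▸ Subgroup.orderOf_dvd_natCard _ ht) hg1)
    have hbij : Function.Bijective f := hinj.bijective_of_nat_card_le (by
      have := Finite.card_subtype_lt (p := fun y : ↥(T : Subgroup G) => y ≠ 1) (x := 1) (by simp)
      rw [Nat.card_fin]
      omega)
    obtain ⟨i, hi⟩ := hbij.2 ⟨⟨s, hs⟩, fun he => hs1 (congrArg Subtype.val he)⟩
    exact ⟨i, congrArg (fun y : {y : ↥(T : Subgroup G) // y ≠ 1} => ((y : ↥(T : Subgroup G)) : G)) hi⟩
  have hord : ∀ t ∈ (T : Subgroup G), t ≠ 1 → orderOf t = 2 := by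
    intro t ht ht1
    obtain ⟨⟨s, hs⟩, hs2⟩ := exists_prime_orderOf_dvd_card' (G := ↥(T : Subgroup G)) 2 (hT ▸ by norm_num)
    have hs2' : orderOf s = 2 := (Subgroup.orderOf_coe _).trans hs2
    obtain ⟨i, hi⟩ := horbit s hs (fun he => by rw [he, orderOf_one] at hs2'; omega) t ht ht1
    rw [← hi, ← hs2']
    exact orderOf_injective (MulAut.conj (g ^ i)).toMonoidHom (MulAut.conj (g ^ i)).injective s
  refine ⟨T, g, hab, hg, hgN, hcg, fun t ht ht1 => ⟨hord t ht ht1, horbit t ht ht1⟩, ?_⟩
  -- the possible Sylow numbers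
  have hn2 : Nat.card (Sylow 2 G) = 9 ∨ Nat.card (Sylow 2 G) = 27 := by
    have hs := sylow_cases hG (p := 2) (a := 3) (m := 189) h (by norm_num) (by norm_num) (by norm_num)
      (l := [9, 21, 27, 63, 189]) (by decide +kernel)
    simp only [List.mem_cons, List.not_mem_nil, or_false] at hs
    have hN := card_sylow_mul_card_normalizer T
    rw [h, ← hNdef] at hN
    obtain ⟨j, hj⟩ := h7
    rw [← hNdef] at hj
    rw [hj] at hN
    rcases hs with hs | hs | hs | hs | hs <;> rw [hs] at hN ⊢ <;> omega
  -- fixed points of an involution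
  have hfix : ∀ u ∈ (T : Subgroup G), u ≠ 1 →
      ∃ f, Nat.card (fixedBy (Sylow 2 G) u) = f ∧ f < Nat.card (Sylow 2 G) ∧
        (Nat.card (Sylow 2 G) - f) % 4 = 0 ∧
        1512 % (f * (Nat.card ↥N / 7)) = 0 ∧ (f * (Nat.card ↥N / 7)) % 7 ≠ 0 := by
    intro u huT hu1
    have hu := hord u huT hu1
    refine ⟨_, rfl, ?_, ?_, ?_⟩
    · by_contra hge
      have hall : ∀ R : Sylow 2 G, u • R = R := fun R => by
        by_contra hR
        have := Finite.card_subtype_lt (p := fun R => R ∈ fixedBy (Sylow 2 G) u) (x := R) hR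
        exact hge this
      have hone : u ∈ (toPermHom G (Sylow 2 G)).ker := MonoidHom.mem_ker.2 (Equiv.ext hall)
      rw [eq_bot_of_normal (inferInstance : (toPermHom G (Sylow 2 G)).ker.Normal) (fun ht => by
        have hsub : Subsingleton (Sylow 2 G) := ⟨fun R S => by
          obtain ⟨x, rfl⟩ := MulAction.exists_smul_eq G R S
          have hx : toPermHom G (Sylow 2 G) x = 1 := MonoidHom.mem_ker.1 (by rw [ht]; exact mem_top x)
          exact (congrArg (fun e : Equiv.Perm (Sylow 2 G) => e R) hx).symm⟩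
        have := Finite.card_le_one_iff_subsingleton.2 hsub
        omega), mem_bot] at hone
      exact hu1 hone
    · have h4 := four_dvd_moved (α := Sylow 2 G) hG (g := u) (hu ▸ pow_orderOf_eq_one u)
      exact Nat.mod_eq_zero_of_dvd h4
    · set C := centralizer ({u} : Set G) with hC
      have h7C : ¬ 7 ∣ Nat.card C := by
        intro h7C
        obtain ⟨⟨y, hyC⟩, hy⟩ := exists_prime_orderOf_dvd_card' (G := ↥C) 7 h7C
        have hy7 : orderOf y = 7 := (Subgroup.orderOf_coe _).trans hy
        have hcen := Cfsg.Agent.S1001.result 7 3 3 (by norm_num) (h.trans (by norm_num)) y hy7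
        have hmem : u ∈ centralizer ({y} : Set G) :=
          mem_centralizer_singleton_iff.2 (mem_centralizer_singleton_iff.1 hyC).symm
        have h' := Subgroup.orderOf_dvd_natCard _ (hcen ▸ hmem)
        rw [Nat.card_zpowers, hy7, hu] at h'
        norm_num at h'
      -- the orbit of `u` under `N(T)` has seven points
      have hidx : Nat.card ↥(N ⊓ C : Subgroup G) = Nat.card ↥N / 7 := by
        set H := (N ⊓ C).subgroupOf N with hH
        have hmemH : ∀ a : N, a ∈ H ↔ (a : G) * u * (a : G)⁻¹ = u := fun a => by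
          rw [mem_subgroupOf, mem_inf, mem_centralizer_singleton_iff, mul_inv_eq_iff_eq_mul]
          exact and_iff_right a.2
        have hwd : ∀ a b : N, QuotientGroup.leftRel H a b →
            (a : G) * u * (a : G)⁻¹ = (b : G) * u * (b : G)⁻¹ := by
          intro a b hab'
          have h1 := (hmemH _).1 (QuotientGroup.leftRel_apply.1 hab')
          simp only [coe_mul, coe_inv] at h1
          calc (a : G) * u * (a : G)⁻¹
              = (a : G) * ((a : G)⁻¹ * b * u * ((a : G)⁻¹ * b)⁻¹) * (a : G)⁻¹ := by rw [h1]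
            _ = (b : G) * u * (b : G)⁻¹ := by group
        let F : N ⧸ H → {y : ↥(T : Subgroup G) // y ≠ 1} := Quotient.lift
          (fun a : N => ⟨⟨(a : G) * u * (a : G)⁻¹, (mem_normalizer_iff.1 a.2 u).1 huT⟩,
            fun he => hu1 (conj_eq_one_iff.1 (congrArg Subtype.val he))⟩)
          (fun a b hab' => Subtype.ext (Subtype.ext (hwd a b hab')))
        have hF : Function.Bijective F := by
          refine ⟨fun q r hqr => ?_, fun y => ?_⟩
          · induction q using Quotient.inductionOn' with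
            | _ a =>
              induction r using Quotient.inductionOn' with
              | _ b =>
                refine QuotientGroup.eq.2 ((hmemH _).2 ?_)
                have h1 : (a : G) * u * (a : G)⁻¹ = (b : G) * u * (b : G)⁻¹ :=
                  congrArg (fun y : {y : ↥(T : Subgroup G) // y ≠ 1} => ((y : ↥(T : Subgroup G)) : G)) hqr
                simp only [coe_mul, coe_inv]
                calc (a : G)⁻¹ * b * u * ((a : G)⁻¹ * b)⁻¹
                    = (a : G)⁻¹ * ((b : G) * u * (b : G)⁻¹) * a := by group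
                  _ = u := by rw [← h1]; group
          · obtain ⟨i, hi⟩ := horbit u huT hu1 (y : ↥(T : Subgroup G)) y.1.2
              (fun he => y.2 (Subtype.ext he))
            exact ⟨QuotientGroup.mk ⟨g ^ i, hgpow i⟩, Subtype.ext (Subtype.ext hi)⟩
        have h1 := H.card_mul_index
        have : Fintype ↥(T : Subgroup G) := Fintype.ofFinite _
        rw [index_eq_card, Nat.card_congr (Equiv.ofBijective F hF), Nat.card_eq_fintype_card
          (α := {y : ↥(T : Subgroup G) // y ≠ 1}), Fintype.card_subtype_compl, Fintype.card_subtype_eq,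
          ← Nat.card_eq_fintype_card, hT, hH, Nat.card_congr (subgroupOfEquivOfLe inf_le_left).toEquiv] at h1
        omega
      have hC' := card_centralizer_two hab huT hu
      rw [← hNdef, ← hC, hidx] at hC'
      rw [hC']
      exact ⟨Nat.mod_eq_zero_of_dvd (h ▸ card_subgroup_dvd_card C),
        fun h0 => h7C (Nat.dvd_of_mod_eq_zero h0)⟩
  have hN := card_sylow_mul_card_normalizer T
  rw [h, ← hNdef] at hN
  rcases hn2 with h2 | h2
  · refine Or.inr ⟨h2, fun u huT hu1 => ?_⟩
    obtain ⟨f, rfl, hlt, h4, hd, h7'⟩ := hfix u huT hu1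
    rw [h2] at hlt h4 hN
    rw [show Nat.card ↥N = 168 by omega] at hd h7'
    interval_cases Nat.card (fixedBy (Sylow 2 G) u) <;> omega
  · refine Or.inl ⟨h2, fun u huT hu1 => ?_⟩
    obtain ⟨f, rfl, hlt, h4, hd, h7'⟩ := hfix u huT hu1
    rw [h2] at hlt h4 hN
    rw [show Nat.card ↥N = 56 by omega] at hd h7'
    interval_cases Nat.card (fixedBy (Sylow 2 G) u) <;> omega

/-- Order 1512. -/
theorem card_ne_1512 : Nat.card G ≠ 1512 := by
  intro h
  classical
  have := Fact.mk Nat.prime_two
  have := Fact.mk Nat.prime_three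
  have : Fact (Nat.Prime 7) := ⟨by norm_num⟩
  obtain ⟨T, g, hab, hg, hgN, hcg, hT, hcase⟩ := data_1512 hG h
  have hT8 : Nat.card ↥(T : Subgroup G) = 8 := by
    rw [card_sylow_eq (a := 3) (m := 189) (h.trans (by norm_num)) (by norm_num) T]; norm_num
  set N := normalizer ((T : Subgroup G) : Set G) with hNdef
  have hTfix : ∀ v ∈ (T : Subgroup G), v • T = T := fun v hv =>
    Sylow.smul_eq_iff_mem_normalizer.2 (le_normalizer hv)
  rcases hcase with ⟨-, hf⟩ | ⟨h2, hf⟩
  · -- three fixed points: `g` would fix them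
    have : Nontrivial ↥(T : Subgroup G) := Finite.one_lt_card_iff_nontrivial.1 (by omega)
    obtain ⟨⟨u, huT⟩, hu1'⟩ := exists_ne (1 : ↥(T : Subgroup G))
    have hu1 : u ≠ 1 := fun he => hu1' (Subtype.ext he)
    set F : Set (Sylow 2 G) := fixedBy (Sylow 2 G) u with hF
    -- a subgroup of index two of `T` fixes `F` pointwise
    have hFT : ∀ v ∈ (T : Subgroup G), ∀ R ∈ F, v • R ∈ F := by
      intro v hv R hR
      have hc : Commute u v := congrArg Subtype.val
        (hab.is_comm.comm (⟨u, huT⟩ : ↥(T : Subgroup G)) ⟨v, hv⟩)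
      show u • v • R = v • R
      rw [← mul_smul, hc.eq, mul_smul, show u • R = R from hR]
    have hF3 : F.ncard = 3 := by rw [← Nat.card_coe_set_eq]; exact hf u huT hu1
    obtain ⟨R, hRF, hRT⟩ : ∃ R ∈ F, R ≠ T := by
      by_contra hc
      push Not at hc
      have := Set.ncard_le_ncard (t := {T}) (fun R hR => hc R hR) (Set.toFinite _)
      rw [hF3, Set.ncard_singleton] at this
      omega
    have horb : (orbit (T : Subgroup G) R).ncard ≤ 2 := by
      have hsub : orbit (T : Subgroup G) R ⊆ F \ {T} := by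
        rintro _ ⟨⟨v, hv⟩, rfl⟩
        refine ⟨hFT v hv R hRF, fun he => hRT ?_⟩
        exact MulAction.injective v ((show v • R = T from he).trans (hTfix v hv).symm)
      refine (Set.ncard_le_ncard hsub (Set.toFinite _)).trans (le_of_eq ?_)
      rw [Set.ncard_sdiff_singleton_of_mem (show T ∈ F from hTfix u huT), hF3]
    -- another involution `v` with the same fixed points
    obtain ⟨v, hv, hv1, hvu, hvR⟩ : ∃ v ∈ (T : Subgroup G), v ≠ 1 ∧ v ≠ u ∧ v • R = R := by
      by_contra hc
      push Not at hc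
      have hle : Nat.card ↥(stabilizer (T : Subgroup G) R) ≤ 2 := by
        have hsub : ∀ x : stabilizer (T : Subgroup G) R,
            ((x : ↥(T : Subgroup G)) : G) = 1 ∨ ((x : ↥(T : Subgroup G)) : G) = u := fun x => by
          by_contra hne
          push Not at hne
          exact hc _ x.1.2 hne.1 hne.2 x.2
        have hlt : u ∈ (T : Subgroup G) := huT
        refine (Nat.card_le_card_of_injective (fun x : stabilizer (T : Subgroup G) R =>
          decide (((x : ↥(T : Subgroup G)) : G) = 1)) ?_).trans (le_of_eq ?_)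
        · intro x y hxy
          refine Subtype.ext (Subtype.ext ?_)
          rcases hsub x with e | e <;> rcases hsub y with e' | e' <;>
            simp only [e, e', hu1, decide_eq_decide] at hxy ⊢ <;> simp_all
        · simp
      have h1 := (stabilizer (T : Subgroup G) R).card_mul_index
      rw [index_stabilizer, hT8] at h1
      nlinarith
    have hFv : F = fixedBy (Sylow 2 G) v := by
      have hsub : F ⊆ fixedBy (Sylow 2 G) v := by
        intro S hS
        show v • S = S
        by_cases hST : S = T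
        · rw [hST]; exact hTfix v hv
        by_cases hSR : S = R
        · rw [hSR]; exact hvR
        -- the third point
        have hmem := hFT v hv S hS
        by_contra hne
        have h4 : ({T, R, S, v • S} : Set (Sylow 2 G)).ncard ≤ 3 := by
          rw [← hF3]
          refine Set.ncard_le_ncard ?_ (Set.toFinite _)
          rintro x (rfl | rfl | rfl | rfl)
          exacts [hTfix u huT, hRF, hS, hmem]
        have hT1 : v • S ≠ T := fun he => hST (MulAction.injective v (he.trans (hTfix v hv).symm))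
        have hR1 : v • S ≠ R := fun he => hSR (MulAction.injective v (he.trans hvR.symm))
        rw [Set.ncard_insert_of_notMem (by simp [Ne.symm hRT, Ne.symm hST, Ne.symm hT1]),
          Set.ncard_insert_of_notMem (by simp [Ne.symm hSR, Ne.symm hR1]),
          Set.ncard_pair (Ne.symm hne)] at h4
        omega
      refine Set.eq_of_subset_of_ncard_le hsub ?_ (Set.toFinite _)
      rw [hF3, ← Nat.card_coe_set_eq, hf v hv hv1]
    obtain ⟨i, hi⟩ := (hT u huT hu1).2 v hv hv1
    set w := g ^ i with hw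
    -- `w` permutes `F`
    have hwF : ∀ S ∈ F, w • S ∈ F := by
      intro S hS
      rw [hFv]
      show v • w • S = w • S
      rw [← mul_smul, ← hi, mul_assoc (w * u), inv_mul_cancel, mul_one, mul_smul,
        show u • S = S from hS]
    have hw7 : w ^ 7 = 1 := by
      rw [hw, ← pow_mul, mul_comm, pow_mul, ← hg, pow_orderOf_eq_one, one_pow]
    have hwR : w • R = R := by
      have hper : Function.minimalPeriod (w • ·) R ∣ 7 := by
        refine Function.IsPeriodicPt.minimalPeriod_dvd ?_
        show (w • ·)^[7] R = R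
        rw [smul_iterate, hw7]
        exact one_smul _ _
      rcases (Nat.dvd_prime (show Nat.Prime 7 by norm_num)).1 hper with h1 | h1
      · exact Function.minimalPeriod_eq_one_iff_isFixedPt.1 h1
      · exfalso
        have hin : ∀ n : ℕ, w ^ n • R ∈ F := fun n => by
          induction n with
          | zero => rw [pow_zero, one_smul]; exact hRF
          | succ n ih => rw [pow_succ', mul_smul]; exact hwF _ ih
        have hle : Nat.card (Fin 7) ≤ Nat.card F := Nat.card_le_card_of_injective
          (fun n : Fin 7 => (⟨w ^ (n : ℕ) • R, hin n⟩ : F)) fun a b hab => Fin.ext (by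
            have e : (w • ·)^[(a : ℕ)] R = (w • ·)^[(b : ℕ)] R := by
              rw [smul_iterate, smul_iterate]
              exact congrArg Subtype.val hab
            exact Function.iterate_injOn_Iio_minimalPeriod (Set.mem_Iio.2 (h1.symm ▸ a.2)) (Set.mem_Iio.2 (h1.symm ▸ b.2)) e)
        rw [Nat.card_fin, Nat.card_coe_set_eq, hF3] at hle
        omega
    -- hence `g` fixes `R`
    have hgR : g • R = R := by
      have hin : ¬ 7 ∣ i := by
        rintro ⟨j, rfl⟩
        rw [hw, pow_mul, ← hg, pow_orderOf_eq_one, one_pow, one_mul, inv_one, mul_one] at hi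
        exact hvu hi.symm
      obtain ⟨j, hj⟩ : ∃ j : ℕ, i * j % 7 = 1 := by
        have hlt := Nat.mod_lt i (show 0 < 7 by norm_num)
        have hne : i % 7 ≠ 0 := fun h0 => hin (Nat.dvd_of_mod_eq_zero h0)
        refine ⟨(i % 7) ^ 5, ?_⟩
        rw [Nat.mul_mod]
        interval_cases h7 : i % 7 <;> simp_all
      have e : w ^ j = g := by
        rw [hw, ← pow_mul, ← pow_mod_orderOf, hg, hj, pow_one]
      rw [← e]
      exact mem_stabilizer_iff.1 (pow_mem (mem_stabilizer_iff.2 hwR) j)
    refine hRT (Sylow.ext (eq_of_le_of_card_ge (fun y hy => ?_) (le_of_eq ?_)).symm)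
    · by_cases hy1 : y = 1
      · rw [hy1]; exact one_mem _
      obtain ⟨k, rfl⟩ := (hT u huT hu1).2 y hy hy1
      have huR : u ∈ (R : Subgroup G) := mem_sylow_of_mem_normalizer R
        (Sylow.smul_eq_iff_mem_normalizer.1 hRF) (k := 1) (by rw [(hT u huT hu1).1, pow_one])
      exact (mem_normalizer_iff.1 (pow_mem (Sylow.smul_eq_iff_mem_normalizer.1 hgR) k) u).1 huR
    · rw [R.card_eq_multiplicity, T.card_eq_multiplicity]
  -- nine Sylow 2-subgroups
  have hNc : Nat.card ↥N = 168 := by
    have hN := card_sylow_mul_card_normalizer T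
    rw [h2, h, ← hNdef] at hN
    omega
  obtain ⟨⟨x, hxN⟩, hx'⟩ := exists_prime_orderOf_dvd_card' (G := ↥N) 3 (hNc ▸ by norm_num)
  have hx : orderOf x = 3 := (Subgroup.orderOf_coe _).trans hx'
  obtain ⟨S, hS⟩ := (IsPGroup.of_card (p := 3) (n := 1) (G := zpowers x)
    (by rw [Nat.card_zpowers, hx, pow_one])).exists_le_sylow
  have hxS : x ∈ (S : Subgroup G) := hS (mem_zpowers x)
  have hx3 : x ^ 3 = 1 := hx ▸ pow_orderOf_eq_one x
  have hS27 : Nat.card ↥(S : Subgroup G) = 3 ^ 3 :=
    card_sylow_eq (m := 56) (h.trans (by norm_num)) (by norm_num) S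
  have hstab3 : ∀ y ∈ (S : Subgroup G), y • T = T → y ∈ zpowers x := by
    intro y hy hyT
    have hle : zpowers x ≤ (S : Subgroup G) ⊓ N := le_inf hS (zpowers_le.2 hxN)
    have hd := card_dvd_of_le (inf_le_right : (S : Subgroup G) ⊓ N ≤ N)
    obtain ⟨j, hj⟩ := (S.isPGroup'.to_le (inf_le_left : (S : Subgroup G) ⊓ N ≤ _)).exists_card_eq
    rw [hj, hNc] at hd
    have hj1 : j ≤ 1 := by
      by_contra hc
      exact absurd ((pow_dvd_pow 3 (show 2 ≤ j by omega)).trans hd) (by norm_num)
    have heq : zpowers x = (S : Subgroup G) ⊓ N := eq_of_le_of_card_ge hle (by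
      rw [hj, Nat.card_zpowers, hx]
      exact (Nat.pow_le_pow_right (by norm_num) hj1).trans (pow_one 3).le)
    rw [heq]
    exact ⟨hy, Sylow.smul_eq_iff_mem_normalizer.1 hyT⟩
  have hxT : x • T = T := Sylow.smul_eq_iff_mem_normalizer.2 hxN
  have hStrans : ∀ R : Sylow 2 G, ∃ s ∈ (S : Subgroup G), s • T = R := by
    intro R
    have h1 := (stabilizer (S : Subgroup G) T).card_mul_index
    rw [index_stabilizer, hS27] at h1
    have h3 : Nat.card ↥(stabilizer (S : Subgroup G) T) ≤ 3 := by
      refine (Nat.card_le_card_of_injective (fun y : stabilizer (S : Subgroup G) T =>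
        (⟨((y : ↥(S : Subgroup G)) : G), hstab3 _ y.1.2 y.2⟩ : zpowers x)) fun a b hab =>
          Subtype.ext (Subtype.ext (congrArg (fun z : zpowers x => (z : G)) hab))).trans
        (le_of_eq ((Nat.card_zpowers x).trans hx))
    have h9 : (orbit (S : Subgroup G) T).ncard ≤ 9 := by
      rw [← h2]
      exact Set.ncard_le_card _
    have huniv : orbit (S : Subgroup G) T = Set.univ := by
      refine Set.eq_of_subset_of_ncard_le (Set.subset_univ _) ?_ (Set.toFinite _)
      rw [Set.ncard_univ, h2]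
      nlinarith
    obtain ⟨⟨s, hs⟩, rfl⟩ := (huniv ▸ Set.mem_univ R : R ∈ orbit (S : Subgroup G) T)
    exact ⟨s, hs, rfl⟩
  -- `x` fixes three points
  have hone : ∀ u : G, orderOf u = 2 → Nat.card (fixedBy (Sylow 2 G) u) = 1 := by
    intro u hu
    obtain ⟨R, hR⟩ := (IsPGroup.of_card (p := 2) (n := 1) (G := zpowers u)
      (by rw [Nat.card_zpowers, hu, pow_one])).exists_le_sylow
    obtain ⟨a, rfl⟩ := MulAction.exists_smul_eq G T R
    have hua : a⁻¹ * u * a ∈ (T : Subgroup G) := by
      have := hR (mem_zpowers u)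
      rw [Sylow.coe_subgroup_smul, mem_pointwise_smul_iff_inv_smul_mem] at this
      simpa [MulAut.smul_def, mul_assoc] using this
    rw [← hf _ hua (fun he => by
      have h1 : u = a * (a⁻¹ * u * a) * a⁻¹ := by group
      rw [he, mul_one, mul_inv_cancel] at h1
      rw [h1, orderOf_one] at hu
      omega)]
    exact card_fixedBy_eq_of_isConj (isConj_iff.2 ⟨a⁻¹, by group⟩)
  have hreal : ∀ k : G, k * x * k⁻¹ ≠ x⁻¹ := by
    intro k hk
    set o := orderOf k with ho
    obtain ⟨a, m, hm, hom⟩ := Nat.exists_eq_two_pow_mul_odd (orderOf_pos k).ne'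
    set k' := k ^ m with hk'
    have hconj : ∀ n : ℕ, k ^ n * x * (k ^ n)⁻¹ = if Even n then x else x⁻¹ := by
      intro n
      induction n with
      | zero => simp
      | succ n ih =>
        calc k ^ (n + 1) * x * (k ^ (n + 1))⁻¹ = k * (k ^ n * x * (k ^ n)⁻¹) * k⁻¹ := by
              rw [pow_succ']; group
          _ = if Even (n + 1) then x else x⁻¹ := by
            rw [ih]
            rcases Nat.even_or_odd n with he | he
            · rw [if_pos he, if_neg (Nat.not_even_iff_odd.2 he.add_one), hk]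
            · rw [if_neg (Nat.not_even_iff_odd.2 he), if_pos he.add_one, ← conj_inv, hk, inv_inv]
    have hk'x : k' * x * k'⁻¹ = x⁻¹ := by rw [hk', hconj, if_neg (Nat.not_even_iff_odd.2 hm)]
    have hk'1 : k' ≠ 1 := fun he => by
      rw [he, one_mul, inv_one, mul_one] at hk'x
      have h' : x ^ 2 = 1 := by rw [pow_two]; nth_rw 2 [hk'x]; exact mul_inv_cancel x
      have := orderOf_dvd_of_pow_eq_one h'
      rw [hx] at this
      norm_num at this
    have hk'o : orderOf k' ∣ 2 ^ a := orderOf_dvd_of_pow_eq_one (by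
      rw [hk', ← pow_mul, mul_comm, ← hom, pow_orderOf_eq_one])
    obtain ⟨b, -, hb⟩ := (Nat.dvd_prime_pow Nat.prime_two).1 hk'o
    obtain ⟨R, hR⟩ := (IsPGroup.of_card (p := 2) (n := b) (G := zpowers k')
      (by rw [Nat.card_zpowers, hb])).exists_le_sylow
    obtain ⟨a', rfl⟩ := MulAction.exists_smul_eq G T R
    have hu : orderOf k' = 2 := by
      have := hR (mem_zpowers k')
      rw [Sylow.coe_subgroup_smul, mem_pointwise_smul_iff_inv_smul_mem] at this
      have hmem : a'⁻¹ * k' * a' ∈ (T : Subgroup G) := by simpa [MulAut.smul_def, mul_assoc] using this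
      have e : orderOf k' = orderOf (a'⁻¹ * k' * a') := by
        rw [show a'⁻¹ * k' * a' = MulAut.conj a'⁻¹ k' by simp]
        exact (orderOf_injective (MulAut.conj a'⁻¹).toMonoidHom (MulAut.conj a'⁻¹).injective k').symm
      rw [e]
      exact (hT _ hmem fun he => hk'1 (by
        have h1 : k' = a' * (a'⁻¹ * k' * a') * a'⁻¹ := by group
        rwa [he, mul_one, mul_inv_cancel] at h1)).1
    -- `k'` fixes one of the oddly many fixed points of `x`
    let F : Finset (Sylow 2 G) := (Set.toFinite (fixedBy (Sylow 2 G) x)).toFinset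
    have hFodd : Odd F.card := by
      have hset : fixedBy (Sylow 2 G) x =
          orbit ((S : Subgroup G) ⊓ normalizer (zpowers x : Set G) : Subgroup G) T := by
        ext R
        constructor
        · intro hR
          obtain ⟨s, hs, rfl⟩ := hStrans R
          have hsx : s⁻¹ * x * s ∈ zpowers x := by
            refine hstab3 _ ((S : Subgroup G).mul_mem ((S : Subgroup G).mul_mem (inv_mem hs) hxS) hs) ?_
            rw [mul_smul, mul_smul, show x • s • T = s • T from hR, inv_smul_smul]
          refine ⟨⟨s, mem_inf.2 ⟨hs, ?_⟩⟩, rfl⟩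
          refine inv_mem_iff.1 (?_ : s⁻¹ ∈ normalizer (zpowers x : Set G))
          rw [mem_normalizer_iff_map_conj_eq, MonoidHom.map_zpowers]
          refine eq_of_le_of_card_ge (zpowers_le.2 (by simpa [mul_assoc] using hsx)) (le_of_eq ?_)
          rw [Nat.card_zpowers, Nat.card_zpowers]
          exact (orderOf_injective (MulAut.conj s⁻¹).toMonoidHom (MulAut.conj s⁻¹).injective x).symm
        · rintro ⟨⟨n, hn⟩, rfl⟩
          show x • n • T = n • T
          have h1 : n⁻¹ * x * n ∈ zpowers x :=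
            (mem_normalizer_iff''.1 (mem_inf.1 hn).2 x).1 (mem_zpowers x)
          obtain ⟨j, hj⟩ := mem_zpowers_iff.1 h1
          have h2 : (n⁻¹ * x * n) • T = T := by
            rw [← hj]
            exact mem_stabilizer_iff.1 (zpow_mem (mem_stabilizer_iff.2 hxT) j)
          rw [mul_smul, mul_smul, inv_smul_eq_iff] at h2
          exact h2
      have hcardF : F.card = (orbit ((S : Subgroup G) ⊓ normalizer (zpowers x : Set G) : Subgroup G) T).ncard := by
        rw [← hset, Set.ncard_eq_toFinset_card]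
      rw [hcardF, ← index_stabilizer]
      refine Odd.of_dvd_nat (by rw [hS27]; decide) ((index_dvd_card _).trans (card_dvd_of_le inf_le_left))
    have hperm : ∀ y ∈ zpowers k', ∀ R ∈ F, y • R ∈ F := by
      intro y hy R hR
      simp only [F, Set.Finite.mem_toFinset, mem_fixedBy] at hR ⊢
      have hyx : y * x * y⁻¹ ∈ zpowers x := by
        have hle : zpowers k' ≤ normalizer (zpowers x : Set G) := by
          rw [zpowers_le, mem_normalizer_iff_map_conj_eq, MonoidHom.map_zpowers]
          show zpowers (k' * x * k'⁻¹) = zpowers x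
          rw [hk'x, zpowers_inv]
        exact (mem_normalizer_iff.1 (hle hy) x).1 (mem_zpowers x)
      have hy' : y⁻¹ * x * y ∈ zpowers x := by
        have hle : zpowers k' ≤ normalizer (zpowers x : Set G) := by
          rw [zpowers_le, mem_normalizer_iff_map_conj_eq, MonoidHom.map_zpowers]
          show zpowers (k' * x * k'⁻¹) = zpowers x
          rw [hk'x, zpowers_inv]
        exact (mem_normalizer_iff''.1 (hle hy) x).1 (mem_zpowers x)
      obtain ⟨j, hj⟩ := mem_zpowers_iff.1 hy'
      have h2 : (y⁻¹ * x * y) • R = R := by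
        rw [← hj]
        exact mem_stabilizer_iff.1 (zpow_mem (mem_stabilizer_iff.2 hR) j)
      rw [mul_smul, mul_smul, inv_smul_eq_iff] at h2
      exact h2
    obtain ⟨R₀, hR₀x, hR₀k⟩ : ∃ R₀, x • R₀ = R₀ ∧ k' • R₀ = R₀ := by
      have hmod := CfsgLib.SmallGroups.card_modEq_card_filter
        (IsPGroup.of_card (p := 2) (n := 1) (G := zpowers k') (by rw [Nat.card_zpowers, hu, pow_one])) F hperm
      have hne : (F.filter fun R => ∀ y ∈ zpowers k', y • R = R).Nonempty := by
        rw [← Finset.card_pos]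
        unfold Nat.ModEq at hmod
        obtain ⟨r, hr⟩ := hFodd
        omega
      obtain ⟨R₀, hR₀⟩ := hne
      simp only [Finset.mem_filter, F, Set.Finite.mem_toFinset, mem_fixedBy] at hR₀
      exact ⟨R₀, hR₀.1, hR₀.2 k' (mem_zpowers k')⟩
    obtain ⟨s, hsS, rfl⟩ := hStrans R₀
    set x'' := s⁻¹ * x * s with hx''
    set k'' := s⁻¹ * k' * s with hk''
    have hx''N : x'' ∈ N := by
      refine Sylow.smul_eq_iff_mem_normalizer.1 ?_
      rw [hx'', mul_smul, mul_smul, hR₀x, inv_smul_smul]
    have hk''T : k'' ∈ (T : Subgroup G) := by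
      refine mem_sylow_of_mem_normalizer T (Sylow.smul_eq_iff_mem_normalizer.1 ?_) (k := 1) ?_
      · rw [hk'', mul_smul, mul_smul, hR₀k, inv_smul_smul]
      · rw [pow_one, ← hu, show k'' = MulAut.conj s⁻¹ k' by simp [hk'']]
        exact orderOf_injective (MulAut.conj s⁻¹).toMonoidHom (MulAut.conj s⁻¹).injective k'
    have hsq : x'' * x'' ∈ (T : Subgroup G) := by
      have e : x'' * x'' = x'' * k'' * x''⁻¹ * k''⁻¹ := by
        have h1 : k'' * x'' * k''⁻¹ = x''⁻¹ := by
          rw [hk'', hx'']
          calc s⁻¹ * k' * s * (s⁻¹ * x * s) * (s⁻¹ * k' * s)⁻¹ = s⁻¹ * (k' * x * k'⁻¹) * s := by group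
            _ = (s⁻¹ * x * s)⁻¹ := by rw [hk'x]; group
        calc x'' * x'' = x'' * (x''⁻¹)⁻¹ := by rw [inv_inv]
          _ = x'' * (k'' * x'' * k''⁻¹)⁻¹ := by rw [h1]
          _ = x'' * k'' * x''⁻¹ * k''⁻¹ := by group
      rw [e]
      exact mul_mem ((mem_normalizer_iff.1 hx''N k'').1 hk''T) (inv_mem hk''T)
    have hx''o : orderOf x'' = 3 := by
      rw [← hx, show x'' = MulAut.conj s⁻¹ x by simp [hx'']]
      exact orderOf_injective (MulAut.conj s⁻¹).toMonoidHom (MulAut.conj s⁻¹).injective x
    have h3 : orderOf (x'' * x'') ∣ 3 := orderOf_dvd_of_pow_eq_one (by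
      rw [← pow_two, ← pow_mul, mul_comm, pow_mul, ← hx''o, pow_orderOf_eq_one, one_pow])
    have h8 := Nat.dvd_gcd h3 (hT8 ▸ Subgroup.orderOf_dvd_natCard _ hsq)
    rw [show Nat.gcd 3 8 = 1 by decide, Nat.dvd_one, orderOf_eq_one_iff, ← pow_two] at h8
    have := orderOf_dvd_of_pow_eq_one h8
    rw [hx''o] at this
    norm_num at this
  -- the transfer into the abelianisation of `S`
  have hxc : (⟨x, hxS⟩ : ↥(S : Subgroup G)) ∉ commutator ↥(S : Subgroup G) := by
    intro hmem
    have hcen : (⟨x, hxS⟩ : ↥(S : Subgroup G)) ∈ center ↥(S : Subgroup G) := by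
      refine (?_ : commutator ↥(S : Subgroup G) ≤ center ↥(S : Subgroup G)) hmem
      rw [_root_.commutator_def, Subgroup.commutator_le]
      intro a _ b _
      have hq : IsMulCommutative (↥(S : Subgroup G) ⧸ center ↥(S : Subgroup G)) := by
        have : Nontrivial ↥(S : Subgroup G) := Finite.one_lt_card_iff_nontrivial.1 (by rw [hS27]; norm_num)
        have := S.isPGroup'.center_nontrivial
        have h1 : 1 < Nat.card (center ↥(S : Subgroup G)) := Finite.one_lt_card
        have hmul := (center ↥(S : Subgroup G)).card_mul_index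
        obtain ⟨j, -, hj⟩ := (Nat.dvd_prime_pow Nat.prime_three).1 (hS27 ▸ (center ↥(S : Subgroup G)).index_dvd_card)
        rw [hS27, hj] at hmul
        rcases j with _ | _ | _ | j
        · have : Subsingleton (↥(S : Subgroup G) ⧸ center ↥(S : Subgroup G)) :=
            Finite.card_le_one_iff_subsingleton.1 (by rw [← index_eq_card, hj, pow_zero])
          exact IsMulCommutative.of_comm fun a b => Subsingleton.elim _ _
        · have : IsCyclic (↥(S : Subgroup G) ⧸ center ↥(S : Subgroup G)) :=
            isCyclic_of_prime_card (by rw [← index_eq_card, hj]; norm_num : _ = 3)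
          infer_instance
        · exact IsPGroup.isMulCommutative_of_card_eq_prime_sq (p := 3) (by rw [← index_eq_card, hj])
        · exfalso
          have h27 : 3 ^ 3 ≤ 3 ^ (j + 3) := Nat.pow_le_pow_right (by norm_num) (by omega)
          nlinarith
      refine (QuotientGroup.eq_one_iff _).1 ?_
      change QuotientGroup.mk' (center ↥(S : Subgroup G)) (a * b * a⁻¹ * b⁻¹) = 1
      rw [map_mul, map_mul, map_mul, map_inv, map_inv,
        hq.is_comm.comm (QuotientGroup.mk' _ a) (QuotientGroup.mk' _ b)]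
      group
    -- a central element fixing `T` fixes every point
    have hall : x ∈ (toPermHom G (Sylow 2 G)).ker := MonoidHom.mem_ker.2 (Equiv.ext fun R => by
      obtain ⟨s, hs, rfl⟩ := hStrans R
      show x • s • T = s • T
      have hc : Commute x s := (congrArg Subtype.val (mem_center_iff.1 hcen ⟨s, hs⟩)).symm
      rw [← mul_smul, hc.eq, mul_smul, hxT])
    rw [eq_bot_of_normal (inferInstance : (toPermHom G (Sylow 2 G)).ker.Normal) (fun ht => by
      have hsub : Subsingleton (Sylow 2 G) := ⟨fun R R' => by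
        obtain ⟨y, rfl⟩ := MulAction.exists_smul_eq G R R'
        have hy : toPermHom G (Sylow 2 G) y = 1 := MonoidHom.mem_ker.1 (by rw [ht]; exact mem_top y)
        exact (congrArg (fun e : Equiv.Perm (Sylow 2 G) => e R) hy).symm⟩
      have := Finite.card_le_one_iff_subsingleton.2 hsub
      omega), mem_bot] at hall
    rw [hall, orderOf_one] at hx
    omega
  let φ : ↥(S : Subgroup G) →* Abelianization ↥(S : Subgroup G) := Abelianization.of
  have hconj : ∀ (k : G) (hk : k * x * k⁻¹ ∈ (S : Subgroup G)), φ ⟨_, hk⟩ = φ ⟨x, hxS⟩ := by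
    intro k hk
    obtain ⟨s, hs, hsk⟩ := hStrans (k • T)
    have hfix : (s⁻¹ * (k * x * k⁻¹) * s) • T = T := by
      rw [mul_smul, mul_smul, hsk, mul_smul, mul_smul, inv_smul_smul, hxT, ← hsk, inv_smul_smul]
    have hz := hstab3 _ ((S : Subgroup G).mul_mem ((S : Subgroup G).mul_mem (inv_mem hs) hk) hs) hfix
    obtain ⟨j, hj⟩ := mem_zpowers_iff.1 hz
    rw [← zpow_mod_orderOf, hx] at hj
    have hj3 : j % 3 = 0 ∨ j % 3 = 1 ∨ j % 3 = 2 := by omega
    have hj1 : x = s⁻¹ * (k * x * k⁻¹) * s := by
      rcases hj3 with e | e | e <;> simp only [Nat.cast_ofNat, e] at hj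
      · exfalso
        have h1 : x = 1 := by
          have : x = k⁻¹ * (s * (s⁻¹ * (k * x * k⁻¹) * s) * s⁻¹) * k := by group
          rw [this, ← hj, zpow_zero]
          group
        rw [h1, orderOf_one] at hx
        omega
      · rw [← hj, zpow_one]
      · exfalso
        refine hreal (s⁻¹ * k) ?_
        calc s⁻¹ * k * x * (s⁻¹ * k)⁻¹ = s⁻¹ * (k * x * k⁻¹) * s := by group
          _ = x⁻¹ := by
            rw [← hj, eq_inv_iff_mul_eq_one, show (2 : ℤ) = ((2 : ℕ) : ℤ) from rfl, zpow_natCast,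
              ← pow_succ, hx3]
    have e : (⟨x, hxS⟩ : ↥(S : Subgroup G)) = ⟨s, hs⟩⁻¹ * ⟨_, hk⟩ * ⟨s, hs⟩ := Subtype.ext hj1
    rw [e, map_mul, map_mul, map_inv, mul_comm (φ ⟨s, hs⟩)⁻¹, inv_mul_cancel_right]
  have hφ3 : φ ⟨x, hxS⟩ ^ 3 = 1 := by
    rw [← map_pow, show (⟨x, hxS⟩ : ↥(S : Subgroup G)) ^ 3 = 1 from Subtype.ext hx3, map_one]
  have htr := transfer_eq_pow_of_key φ hxS (fun k a ha => by
    obtain ⟨q, r, hr, rfl⟩ : ∃ q r, r < 3 ∧ k = 3 * q + r := ⟨k / 3, k % 3, by omega, by omega⟩
    have e : x ^ (3 * q + r) = x ^ r := by rw [pow_add, pow_mul, hx3, one_pow, one_mul]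
    have ha' : a⁻¹ * x ^ r * a ∈ (S : Subgroup G) := e ▸ ha
    rw [show (⟨a⁻¹ * x ^ (3 * q + r) * a, ha⟩ : ↥(S : Subgroup G)) = ⟨a⁻¹ * x ^ r * a, ha'⟩ from
      Subtype.ext (by simp only [e]), pow_add, pow_mul, hφ3, one_pow, one_mul]
    obtain rfl | rfl | rfl : r = 0 ∨ r = 1 ∨ r = 2 := by omega
    · refine ((congrArg φ (Subtype.ext ?_)).trans (map_one φ)).trans (pow_zero _).symm
      show a⁻¹ * x ^ 0 * a = 1
      group
    · have hmem : a⁻¹ * x * a⁻¹⁻¹ ∈ (S : Subgroup G) := by simpa using ha'
      refine ((congrArg φ (Subtype.ext ?_)).trans (hconj a⁻¹ hmem)).trans (pow_one _).symm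
      show a⁻¹ * x ^ 1 * a = a⁻¹ * x * a⁻¹⁻¹
      group
    · have hsq : a⁻¹ * x * a = a⁻¹ * x ^ 2 * a * (a⁻¹ * x ^ 2 * a) := by
        calc a⁻¹ * x * a = a⁻¹ * (x * x ^ 3) * a := by rw [hx3, mul_one]
          _ = _ := by group
      have hmem : a⁻¹ * x * a⁻¹⁻¹ ∈ (S : Subgroup G) := by
        rw [inv_inv, hsq]
        exact mul_mem ha' ha'
      rw [← hconj a⁻¹ hmem, ← map_pow]
      refine congrArg φ (Subtype.ext ?_)
      show a⁻¹ * x ^ 2 * a = (a⁻¹ * x * a⁻¹⁻¹) ^ 2
      rw [inv_inv, pow_two, pow_two]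
      group)
  have hidx : (S : Subgroup G).index = 56 := by
    have := (S : Subgroup G).card_mul_index
    rw [hS27, h] at this
    omega
  rcases (MonoidHom.transfer φ).normal_ker.eq_bot_or_eq_top with hb | ht
  · refine hG (IsMulCommutative.of_comm fun a b => ((MonoidHom.transfer φ).ker_eq_bot_iff.1 hb) ?_)
    rw [map_mul, map_mul, mul_comm]
  · have h1 : MonoidHom.transfer φ x = 1 := MonoidHom.mem_ker.1 (ht ▸ mem_top x)
    rw [htr, hidx] at h1
    have hφ : φ ⟨x, hxS⟩ = 1 := by
      have := pow_gcd_eq_one.2 ⟨h1, hφ3⟩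
      simpa using this
    exact hxc ((QuotientGroup.eq_one_iff _).1 hφ)

end CfsgLib.SmallOrders.Range
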