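import Cfsg.Agent.Lib.SmallOrders.Range.KillsPair
import Cfsg.Agent.Lib.SmallOrders.Range.InvolutionColumn

/-!
No simple group has order 3120.
-/

set_option autoImplicit false

namespace CfsgLib.SmallOrders.Range

open Subgroup MulAction CfsgLib.SmallGroups CfsgLib.KGroups.SmallOrders

variable {G : Type*} [Group G] [Finite G] [IsSimpleGroup G] (hG : ¬ IsMulCommutative G)
include hG

/-- A Sylow 13-subgroup with centraliser of order 39 and 40 conjugates gives an involution with
centraliser of order four. -/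
theorem exists_four_centralizer (h : Nat.card G = 3120) [Fact (Nat.Prime 13)] (P : Sylow 13 G)
    (hs : Nat.card (Sylow 13 G) = 40)
    (hC : Nat.card ↥(centralizer ((P : Subgroup G) : Set G)) = 13 * 3)
    (hN : Nat.card ↥(normalizer ((P : Subgroup G) : Set G)) = 13 * 3 * 2) :
    ∃ v : G, orderOf v = 2 ∧ Nat.card ↥(centralizer ({v} : Set G)) = 4 := by
  classical
  have := Fact.mk Nat.prime_two
  have := Fact.mk Nat.prime_three
  have hn : Nat.card G = 13 * 240 := h.trans (by norm_num)
  have hP : ∀ R : Sylow 13 G, Nat.card ↥(R : Subgroup G) = 13 := fun R => by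
    simpa using card_sylow_eq (a := 1) (m := 240) (h.trans (by norm_num)) (by norm_num) R
  set N := normalizer ((P : Subgroup G) : Set G) with hNdef
  set A := centralizer ((P : Subgroup G) : Set G) with hAdef
  have hAN : A ≤ N := centralizer_le_normalizer _
  obtain ⟨⟨z, hzA⟩, hz'⟩ := exists_prime_orderOf_dvd_card' (G := ↥A) 3 (hC ▸ by norm_num)
  have hz : orderOf z = 3 := (Subgroup.orderOf_coe _).trans hz'
  -- `z` fixes only `P`
  have hzfix : ∀ R : Sylow 13 G, z • R = R → R = P := by
    obtain ⟨f, hf, hf13, hf3, hflt, hfd, -⟩ := fix_dvd_of_mem (q := 3) hn (by norm_num) P (by omega) hC hN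
      (by norm_num) (by norm_num) hzA hz
    rw [h] at hfd
    rw [hs] at hf3 hflt
    have key : ∀ f ∈ List.range 40, f % 13 = 1 → 3120 % (f * (13 * 3)) = 0 → f = 1 := by decide +kernel
    obtain rfl := key f (List.mem_range.2 hflt) hf13 (Nat.mod_eq_zero_of_dvd hfd)
    obtain ⟨⟨R₀, hR₀⟩, huniq⟩ := Nat.card_eq_one_iff_exists.1 hf
    intro R hR
    have hzP : z • P = P := Sylow.smul_eq_iff_mem_normalizer.2 (hAN hzA)
    exact (congrArg Subtype.val (huniq ⟨R, hR⟩)).trans (congrArg Subtype.val (huniq ⟨P, hzP⟩)).symm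
  obtain ⟨⟨v, hvN⟩, hv'⟩ := exists_prime_orderOf_dvd_card' (G := ↥N) 2 (hN ▸ by norm_num)
  have hv : orderOf v = 2 := (Subgroup.orderOf_coe _).trans hv'
  have hvA : v ∉ A := fun hmem => by
    have := Subgroup.orderOf_dvd_natCard _ hmem
    rw [hv, hC] at this
    norm_num at this
  -- `A` has index two, is cyclic, and `v` centralises no non-trivial element of it
  have hAidx : (A.subgroupOf N).index = 2 := by
    have h1 := (A.subgroupOf N).card_mul_index
    rw [Nat.card_congr (subgroupOfEquivOfLe hAN).toEquiv, hC, hN] at h1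
    omega
  have hzN : ∀ x : G, x * z * x⁻¹ ∈ zpowers z → x ∈ N := by
    intro x hx
    have hxP : z • (x⁻¹ • P) = x⁻¹ • P := by
      have h1 : (x * z * x⁻¹) • P = P :=
        Sylow.smul_eq_iff_mem_normalizer.2 ((zpowers_le.2 (hAN hzA)) hx)
      rw [mul_smul, mul_smul, ← eq_inv_smul_iff] at h1
      exact h1
    have := hzfix _ hxP
    exact inv_inv x ▸ inv_mem (Sylow.smul_eq_iff_mem_normalizer.1 this)
  have hcy : IsMulCommutative ↥A := by
    obtain ⟨⟨g, hgP⟩, hg⟩ := exists_prime_orderOf_dvd_card' (G := ↥(P : Subgroup G)) 13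
      (dvd_of_eq (hP P).symm)
    have hgA : g ∈ A := by
      have : IsCyclic ↥(P : Subgroup G) := isCyclic_of_prime_card (hP P)
      exact (P : Subgroup G).le_centralizer hgP
    have hgz : Commute g z := mem_centralizer_iff.1 hzA g hgP
    have ho : orderOf (g * z) = 13 * 3 := by
      rw [hgz.orderOf_mul_eq_mul_orderOf_of_coprime (by
        rw [(Subgroup.orderOf_coe _).trans hg, hz]; norm_num),
        (Subgroup.orderOf_coe _).trans hg, hz]
    have : IsCyclic ↥A := isCyclic_of_orderOf_eq_card ⟨g * z, mul_mem hgA hzA⟩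
      (by rw [← Subgroup.orderOf_coe, hC]; exact ho)
    infer_instance
  have hvz : ¬ Commute v z := by
    intro hc
    let Z := zpowers z
    have hZ : Nat.card Z = 3 := by rw [Nat.card_zpowers, hz]
    obtain ⟨S, hS⟩ := (IsPGroup.of_card (p := 3) (n := 1) (G := Z) (by rw [hZ, pow_one])).exists_le_sylow
    have hS3 : Nat.card ↥(S : Subgroup G) = 3 := by
      simpa using card_sylow_eq (a := 1) (m := 1040) (h.trans (by norm_num)) (by norm_num) S
    have hSZ : Z = (S : Subgroup G) := eq_of_le_of_card_ge hS (by rw [hS3, hZ])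
    have hzS : z ∈ (S : Subgroup G) := hS (mem_zpowers z)
    have : IsCyclic ↥(S : Subgroup G) := isCyclic_of_prime_card hS3
    have hz1 := eq_one_of_normalizer_centralizes hG S inferInstance hzS (x := z) fun x hx => by
      have hxN : x ∈ N := hzN x (by
        show x * z * x⁻¹ ∈ Z
        rw [hSZ]
        exact (mem_normalizer_iff.1 hx z).1 hzS)
      have hCz : A ≤ N ⊓ centralizer ({z} : Set G) := fun a ha => mem_inf.2 ⟨hAN ha, by
        exact mem_centralizer_singleton_iff.2 (congrArg Subtype.val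
          (hcy.is_comm.comm (⟨a, ha⟩ : ↥A) ⟨z, hzA⟩))⟩
      have hlt : A < N ⊓ centralizer ({z} : Set G) := lt_of_le_of_ne hCz fun he =>
        hvA (he ▸ mem_inf.2 ⟨hvN, mem_centralizer_singleton_iff.2 hc.eq⟩)
      have htop : N ⊓ centralizer ({z} : Set G) = N := by
        refine eq_of_le_of_card_ge inf_le_left ?_
        obtain ⟨k, hk⟩ := card_dvd_of_le hlt.le
        have h2 := card_dvd_of_le (inf_le_left : N ⊓ centralizer ({z} : Set G) ≤ N)
        have h3 : Nat.card ↥A < Nat.card ↥(N ⊓ centralizer ({z} : Set G) : Subgroup G) :=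
          lt_of_le_of_ne (card_le_of_le hlt.le) fun h' => hlt.ne (eq_of_le_of_card_ge hlt.le h'.ge)
        rw [hk, hC] at h2 h3 ⊢
        rw [hN] at h2 ⊢
        omega
      exact (htop.symm ▸ hxN : x ∈ N ⊓ centralizer ({z} : Set G)).2
    rw [hz1, orderOf_one] at hz
    omega
  have hcomm : ∀ a ∈ A, Commute v a → a = 1 := by
    intro a ha hc
    by_contra ha1
    obtain ⟨q, hq, hqd⟩ := Nat.exists_prime_and_dvd (mt orderOf_eq_one_iff.1 ha1)
    have := Fact.mk hq
    have hd : orderOf a ∣ 13 * 3 := hC ▸ Subgroup.orderOf_dvd_natCard _ ha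
    set b := a ^ (orderOf a / q) with hb
    have hbA : b ∈ A := pow_mem ha _
    have hbq : orderOf b = q := orderOf_pow_orderOf_div (orderOf_pos a).ne' hqd
    have hbv : Commute v b := hc.pow_right _
    rcases (hq.dvd_mul.1 (hqd.trans hd)) with h13 | h3
    · obtain rfl := (Nat.prime_dvd_prime_iff_eq hq (by norm_num)).1 h13
      have hbP : b ∈ (P : Subgroup G) := by
        have hle : zpowers b ≤ N := zpowers_le.2 (hAN hbA)
        exact (IsPGroup.inf_normalizer_sylow (IsPGroup.of_card (p := 13) (n := 1) (G := zpowers b)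
          (by rw [Nat.card_zpowers, hbq, pow_one])) P).le ⟨mem_zpowers b, hle (mem_zpowers b)⟩ |>.2
      refine hvA (mem_centralizer_iff.2 fun y hy => ?_)
      rw [← CfsgLib.SmallOrders.zpowers_eq_sylow P (hP P) hbP (CfsgLib.SmallOrders.ne_one_of_orderOf hbq)] at hy
      obtain ⟨i, rfl⟩ := mem_zpowers_iff.1 hy
      exact (hbv.zpow_right i).eq.symm
    · obtain rfl := (Nat.prime_dvd_prime_iff_eq hq Nat.prime_three).1 h3
      obtain ⟨S, hS⟩ := (IsPGroup.of_card (p := 3) (n := 1) (G := zpowers z)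
        (by rw [Nat.card_zpowers, hz, pow_one])).exists_le_sylow
      have hS3 : Nat.card ↥(S : Subgroup G) = 3 := by
        simpa using card_sylow_eq (a := 1) (m := 1040) (h.trans (by norm_num)) (by norm_num) S
      have hzS := CfsgLib.SmallOrders.zpowers_eq_sylow S hS3 (hS (mem_zpowers z))
        (CfsgLib.SmallOrders.ne_one_of_orderOf hz)
      have hbS : b ∈ (S : Subgroup G) := by
        refine ((IsPGroup.inf_normalizer_sylow (IsPGroup.of_card (p := 3) (n := 1) (G := zpowers b)
          (by rw [Nat.card_zpowers, hbq, pow_one])) S).le ⟨mem_zpowers b, ?_⟩).2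
        refine centralizer_le_normalizer _ (mem_centralizer_iff.2 fun y hy => ?_)
        replace hy : y ∈ zpowers z := by rw [hzS]; exact hy
        obtain ⟨i, rfl⟩ := mem_zpowers_iff.1 hy
        have hbz : Commute b z := congrArg Subtype.val (hcy.is_comm.comm (⟨b, hbA⟩ : ↥A) ⟨z, hzA⟩)
        exact (hbz.zpow_right i).eq.symm
      have hbeq := CfsgLib.SmallOrders.zpowers_eq_sylow S hS3 hbS
        (CfsgLib.SmallOrders.ne_one_of_orderOf hbq)
      obtain ⟨j, hj⟩ := (hbeq.symm ▸ hS (mem_zpowers z) : z ∈ zpowers b)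
      refine hvz ?_
      rw [← hj]
      exact hbv.zpow_right j
  -- the orbit of `A` on the other Sylow subgroups is regular
  have hfree : ∀ a ∈ A, ∀ R : Sylow 13 G, R ≠ P → a • R = R → a = 1 := by
    intro a ha R hR haR
    by_contra ha1
    obtain ⟨q, hq, hqd⟩ := Nat.exists_prime_and_dvd (mt orderOf_eq_one_iff.1 ha1)
    have := Fact.mk hq
    set b := a ^ (orderOf a / q) with hb
    have hbA : b ∈ A := pow_mem ha _
    have hbq : orderOf b = q := orderOf_pow_orderOf_div (orderOf_pos a).ne' hqd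
    have hbR : b • R = R := mem_stabilizer_iff.1 (pow_mem (mem_stabilizer_iff.2 haR) _)
    have hd : orderOf a ∣ 13 * 3 := hC ▸ Subgroup.orderOf_dvd_natCard _ ha
    rcases (hq.dvd_mul.1 (hqd.trans hd)) with h13 | h3
    · obtain rfl := (Nat.prime_dvd_prime_iff_eq hq (by norm_num)).1 h13
      have hp : IsPGroup 13 (zpowers b) := IsPGroup.of_card (n := 1)
        (by rw [Nat.card_zpowers, hbq, pow_one])
      have h1 : b ∈ (R : Subgroup G) := ((IsPGroup.inf_normalizer_sylow hp R).le
        ⟨mem_zpowers b, Sylow.smul_eq_iff_mem_normalizer.1 hbR⟩).2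
      have h2 : b ∈ (P : Subgroup G) := ((IsPGroup.inf_normalizer_sylow hp P).le
        ⟨mem_zpowers b, hAN hbA⟩).2
      exact hR (Sylow.ext ((CfsgLib.SmallOrders.zpowers_eq_sylow R (hP R) h1
        (CfsgLib.SmallOrders.ne_one_of_orderOf hbq)).symm.trans (CfsgLib.SmallOrders.zpowers_eq_sylow P (hP P) h2
        (CfsgLib.SmallOrders.ne_one_of_orderOf hbq))))
    · obtain rfl := (Nat.prime_dvd_prime_iff_eq hq Nat.prime_three).1 h3
      obtain ⟨f, hf, hf13, -, hflt, hfd, -⟩ := fix_dvd_of_mem (q := 3) hn (by norm_num) P (by omega) hC hN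
        (by norm_num) (by norm_num) hbA hbq
      rw [h] at hfd
      rw [hs] at hflt
      have key : ∀ f ∈ List.range 40, f % 13 = 1 → 3120 % (f * (13 * 3)) = 0 → f = 1 := by decide +kernel
      obtain rfl := key f (List.mem_range.2 hflt) hf13 (Nat.mod_eq_zero_of_dvd hfd)
      obtain ⟨_, huniq⟩ := Nat.card_eq_one_iff_exists.1 hf
      exact hR (congrArg Subtype.val ((huniq ⟨R, hbR⟩).trans
        (huniq ⟨P, Sylow.smul_eq_iff_mem_normalizer.2 (hAN hbA)⟩).symm))
  have hcover : ∀ R₀ R : Sylow 13 G, R₀ ≠ P → R ≠ P → ∃ a ∈ A, a • R₀ = R := by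
    intro R₀ R h0 hR
    let f : A → {S : Sylow 13 G // S ≠ P} := fun a => ⟨(a : G) • R₀, fun he => h0 (by
      have hfixP : (a : G) • P = P := Sylow.smul_eq_iff_mem_normalizer.2 (hAN a.2)
      exact MulAction.injective (a : G) (he.trans hfixP.symm))⟩
    have hinj : Function.Injective f := fun a b hab => by
      have hab' : (a : G) • R₀ = (b : G) • R₀ := congrArg Subtype.val hab
      have h1 := hfree ((a : G)⁻¹ * b) (mul_mem (inv_mem a.2) b.2) R₀ h0
        (by rw [mul_smul, ← hab', inv_smul_smul])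
      exact Subtype.ext (inv_mul_eq_one.1 h1)
    have hbij : Function.Bijective f := hinj.bijective_of_nat_card_le (by
      have := Finite.card_subtype_lt (p := fun S => S ≠ P) (x := P) (by simp)
      rw [hs] at this
      rw [hC]
      omega)
    obtain ⟨a, ha⟩ := hbij.2 ⟨R, hR⟩
    exact ⟨a, a.2, congrArg Subtype.val ha⟩
  have hvP : v • P = P := Sylow.smul_eq_iff_mem_normalizer.2 hvN
  have hodd : ∃ R : Sylow 13 G, R ≠ P ∧ v • R = R := by
    by_contra hcon
    push Not at hcon
    have h1 : Nat.card (fixedBy (Sylow 13 G) v) = 1 := Nat.card_eq_one_iff_exists.2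
      ⟨⟨P, hvP⟩, fun R => Subtype.ext (by_contra fun hne => hcon R.1 hne R.2)⟩
    have h2 := card_modEq_card_fixedBy (α := Sylow 13 G) (hv ▸ pow_orderOf_eq_one v : v ^ 2 = 1)
    rw [hs, h1] at h2
    exact absurd h2 (by decide)
  obtain ⟨R, hRP, hvR⟩ := hodd
  have honly : ∀ S : Sylow 13 G, v • S = S → S = P ∨ S = R := by
    intro S hS
    refine or_iff_not_imp_left.2 fun hSP => ?_
    obtain ⟨a, ha, rfl⟩ := hcover R S hRP hSP
    have hva : v * a * v⁻¹ ∈ A := by
      have hn : (A.subgroupOf N).Normal := normal_of_index_eq_two hAidx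
      exact hn.conj_mem ⟨a, hAN ha⟩ ha ⟨v, hvN⟩
    have hfix : (a⁻¹ * (v * a * v⁻¹)) • R = R := by
      rw [mul_smul, mul_smul, mul_smul, inv_smul_eq_iff.2 hvR.symm, hS, inv_smul_smul]
    have h1 := hfree _ (mul_mem (inv_mem ha) hva) R hRP hfix
    rw [inv_mul_eq_one, eq_comm, mul_inv_eq_iff_eq_mul] at h1
    rw [hcomm a ha h1, one_smul]
  -- the centraliser of `v`
  refine ⟨v, hv, ?_⟩
  set C := centralizer ({v} : Set G) with hCv
  have hvC : v ∈ C := mem_centralizer_singleton_iff.2 rfl
  have hNC : ∀ x ∈ C, x ∈ N → x = 1 ∨ x = v := by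
    intro x hxC hxN
    have hcx : Commute x v := mem_centralizer_singleton_iff.1 hxC
    by_cases hxA : x ∈ A
    · exact Or.inl (hcomm x hxA hcx.symm)
    · right
      have hmem : v * x ∈ A :=
        (mul_mem_iff_of_index_two hAidx (a := (⟨v, hvN⟩ : N)) (b := ⟨x, hxN⟩)).2
          ⟨fun h' => absurd h' hvA, fun h' => absurd h' hxA⟩
      have := hcomm _ hmem ((Commute.refl v).mul_right hcx.symm)
      rw [mul_eq_one_iff_inv_eq] at this
      rw [← this, inv_eq_of_mul_eq_one_right (by rw [← pow_two, ← hv, pow_orderOf_eq_one] : v * v = 1)]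
  have horb : ∀ x : C, (x : G) • P = P ∨ (x : G) • P = R := by
    intro x
    refine honly _ ?_
    rw [← mul_smul, ← (mem_centralizer_singleton_iff.1 x.2), mul_smul, hvP]
  have h4 : Nat.card C ≤ 4 := by
    have h1 := (stabilizer C P).card_mul_index
    rw [index_stabilizer] at h1
    have h2 : Nat.card ↥(stabilizer C P) ≤ 2 := by
      have hle : stabilizer C P ≤ (zpowers v).subgroupOf C := fun x hx => by
        rcases hNC x x.2 (Sylow.smul_eq_iff_mem_normalizer.1 hx) with h' | h'
        · exact mem_subgroupOf.2 (h' ▸ one_mem _)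
        · exact mem_subgroupOf.2 (h' ▸ mem_zpowers v)
      refine (card_le_of_le hle).trans (le_of_eq ?_)
      rw [Nat.card_congr (subgroupOfEquivOfLe (zpowers_le.2 hvC)).toEquiv, Nat.card_zpowers, hv]
    have h3 : (orbit C P).ncard ≤ 2 := by
      refine (Set.ncard_le_ncard (t := {P, R}) ?_ (Set.toFinite _)).trans (Set.ncard_insert_le _ _ |>.trans ?_)
      · rintro _ ⟨x, rfl⟩
        exact horb x
      · rw [Set.ncard_singleton]
    rw [← h1]
    exact (Nat.mul_le_mul h2 h3).trans le_rfl
  obtain ⟨T, hT⟩ := (IsPGroup.of_card (p := 2) (n := 1) (G := zpowers v)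
    (by rw [Nat.card_zpowers, hv, pow_one])).exists_le_sylow
  have hT16 : Nat.card ↥(T : Subgroup G) = 2 ^ 4 :=
    card_sylow_eq (m := 195) (h.trans (by norm_num)) (by norm_num) T
  have : Nontrivial ↥(T : Subgroup G) := Finite.one_lt_card_iff_nontrivial.1 (by rw [hT16]; norm_num)
  have := T.isPGroup'.center_nontrivial
  obtain ⟨⟨⟨u, huT⟩, huz⟩, hu1⟩ := exists_ne (1 : center ↥(T : Subgroup G))
  have hcu : ∀ y ∈ (T : Subgroup G), Commute y u := fun y hy =>
    congrArg Subtype.val (mem_center_iff.1 huz ⟨y, hy⟩)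
  have hune : u ≠ v := fun he => by
    have h1 : (T : Subgroup G) ≤ C := fun y hy =>
      mem_centralizer_singleton_iff.2 (he ▸ hcu y hy).eq
    have := card_le_of_le h1
    omega
  have huC : u ∈ C := mem_centralizer_singleton_iff.2 (hcu v (hT (mem_zpowers v))).symm.eq
  have hgt : 2 < Nat.card C := by
    have hle : zpowers v ≤ C := zpowers_le.2 hvC
    have h2 : Nat.card (zpowers v) = 2 := by rw [Nat.card_zpowers, hv]
    refine lt_of_le_of_ne (h2 ▸ card_le_of_le hle) fun he => ?_
    have heq := eq_of_le_of_card_ge hle (by rw [h2, ← he])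
    rw [← heq] at huC
    rcases (mem_zpowers_iff.1 huC) with ⟨i, hi⟩
    rcases Int.emod_two_eq_zero_or_one i with hi2 | hi2
    · refine hu1 (Subtype.ext (Subtype.ext ?_))
      show u = 1
      rw [← hi, ← zpow_mod_orderOf, hv]
      norm_num [hi2]
    · refine hune ?_
      rw [← hi, ← zpow_mod_orderOf, hv]
      norm_num [hi2]
  obtain ⟨k, hk⟩ : 2 ∣ Nat.card C := by
    have := Subgroup.orderOf_dvd_natCard _ hvC
    rwa [hv] at this
  omega

/-- Order 3120. -/
theorem card_ne_3120 : Nat.card G ≠ 3120 := by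
  intro h
  have : Fact (Nat.Prime 13) := ⟨by norm_num⟩
  have hn : Nat.card G = 13 * 240 := h.trans (by norm_num)
  have hs := sylow_cases hG (p := 13) (a := 1) (m := 240) h (by norm_num) (by norm_num) (by norm_num)
    (l := [40]) (by decide +kernel)
  rw [List.mem_singleton] at hs
  obtain ⟨P⟩ := (inferInstance : Nonempty (Sylow 13 G))
  obtain ⟨c, e, hC, hN, he, hep, hprod⟩ :=
    prime_data hG h (p := 13) (m := 240) (by norm_num) (by norm_num) P
  rw [hs] at hprod
  have hce : c * e = 6 := by omega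
  have he6 : e ∈ Nat.divisors 6 := Nat.mem_divisors.2 ⟨Dvd.intro_left _ hce, by norm_num⟩
  rw [show Nat.divisors 6 = {1, 2, 3, 6} by decide +kernel] at he6
  simp only [Finset.mem_insert, Finset.mem_singleton] at he6
  rcases he6 with rfl | rfl | rfl | rfl
  · omega
  · obtain rfl : c = 3 := by omega
    obtain ⟨v, hv, hv4⟩ := exists_four_centralizer hG h P hs hC hN
    obtain ⟨d, e, f, hd, hsum, hmod⟩ := exists_odd_degrees hG hv hv4
    rw [h] at hmod
    let l := (List.range 56).filter fun x => decide (x % 2 = 1) && decide (1 < x) && decide (3120 % x = 0)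
    have key : ∀ d ∈ l, ∀ e ∈ l, ∀ f ∈ l,
        1 + (if d % 4 = 1 then (d : ℤ) else -d) + (if e % 4 = 1 then (e : ℤ) else -e) +
          (if f % 4 = 1 then (f : ℤ) else -f) = 0 → (1 + d ^ 2 + e ^ 2 + f ^ 2) % 16 ≠ 3120 % 16 := by
      decide +kernel
    have hmem : ∀ x ∈ [d, e, f], x ∈ l := fun x hx => by
      obtain ⟨h1, h2, h3, h4⟩ := hd x hx
      rw [h] at h3 h4
      simp only [l, List.mem_filter, List.mem_range, Bool.and_eq_true, decide_eq_true_eq]
      exact ⟨by nlinarith, ⟨h2, h1⟩, Nat.mod_eq_zero_of_dvd h3⟩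
    exact key d (hmem d (by simp)) e (hmem e (by simp)) f (hmem f (by simp)) hsum hmod
  · obtain rfl : c = 2 := by omega
    have := Fact.mk Nat.prime_two
    obtain ⟨f, hf13, hf2, hflt, hfd, -⟩ := fix_dvd (q := 2) hn (by norm_num) P (by omega) hC hN dvd_rfl
      (by norm_num) (by norm_num)
    rw [h] at hfd
    rw [hs] at hf2 hflt
    have key : ∀ f ∈ List.range 40, f % 13 = 1 → f % 2 = 0 → 3120 % (f * (13 * 2)) ≠ 0 := by decide +kernel
    exact key f (List.mem_range.2 hflt) hf13 (by omega) (Nat.mod_eq_zero_of_dvd hfd)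
  · obtain rfl : c = 1 := by omega
    rw [mul_one] at hC
    rcases order_of_self_central hG hn (by norm_num) P hC (by omega) with h' | ⟨j, hj, -⟩
    · omega
    · have hj4 : j < 4 := by
        by_contra hge
        have : 2 ^ 4 ≤ 2 ^ j := Nat.pow_le_pow_right (by norm_num) (by omega)
        omega
      interval_cases j <;> omega

end CfsgLib.SmallOrders.Range
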