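import Cfsg.Agent.Lib.SmallOrders.Range.Central

/-!
Orders between 3640 and 6232 excluded by special arguments.
-/

set_option autoImplicit false

namespace CfsgLib.SmallOrders.Range

open Subgroup MulAction CfsgLib.SmallGroups CfsgLib.KGroups.SmallOrders

variable {G : Type*} [Group G] [Finite G] [IsSimpleGroup G] (hG : ¬ IsMulCommutative G)
include hG

/-- The candidates for a Sylow number. -/
theorem sylow_cases {n p a m : ℕ} [hp : Fact p.Prime] (h : Nat.card G = n) (hn : n = p ^ a * m)
    (hm : ¬ p ∣ m) (ha : 0 < a) {l : List ℕ}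
    (hopt : (List.range (m + 1)).filter (cand n p a m) = l) : Nat.card (Sylow p G) ∈ l := by
  subst h
  exact hopt ▸ sylow_mem_cand hG hn hm ha

/-- Centraliser and automiser of a Sylow subgroup of prime order. -/
theorem prime_data {n p m : ℕ} [hp : Fact p.Prime] (h : Nat.card G = n) (hn : n = p * m)
    (hm : ¬ p ∣ m) (P : Sylow p G) :
    ∃ c e : ℕ, Nat.card ↥(centralizer ((P : Subgroup G) : Set G)) = p * c ∧
      Nat.card ↥(normalizer ((P : Subgroup G) : Set G)) = p * c * e ∧ 1 < e ∧ e ∣ p - 1 ∧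
      Nat.card (Sylow p G) * (c * e) = m := by
  obtain ⟨c, e, hC, hN, he, hep, hprod⟩ := sylow_prime_data hG (h.trans hn) hm P
  refine ⟨c, e, hC, hN, ?_, hep, hprod⟩
  have := Nat.pos_of_dvd_of_pos hep (by have := hp.out.two_le; omega)
  omega

/-- Order 6000. -/
theorem card_ne_6000 : Nat.card G ≠ 6000 := by
  intro h
  have := Fact.mk Nat.prime_five
  have hn : Nat.card G = 5 ^ 3 * 48 := by rw [h]; norm_num
  have hs := sylow_cases hG (p := 5) (a := 3) (m := 48) h (by norm_num) (by norm_num) (by norm_num)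
    (l := [16]) (by decide +kernel)
  rw [List.mem_singleton] at hs
  obtain ⟨M, k, -, -, hk, hprod, hfac⟩ :=
    exists_local_of_not_modEq hG hn (by norm_num) (by norm_num) (by rw [hs]; norm_num)
  rw [h] at hfac
  have hle : M.index ≤ 8 := by nlinarith
  exact absurd (hfac.trans (Nat.factorial_dvd_factorial hle)) (by decide +kernel)

/-- Order 4725. -/
theorem card_ne_4725 : Nat.card G ≠ 4725 := by
  intro h
  have := Fact.mk Nat.prime_five
  have hs := sylow_cases hG (p := 5) (a := 2) (m := 189) h (by norm_num) (by norm_num) (by norm_num)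
    (l := [21]) (by decide +kernel)
  exact TwentyOne.card_sylow_ne_twentyOne (List.mem_singleton.1 hs)

/-- Order 6160. -/
theorem card_ne_6160 : Nat.card G ≠ 6160 := by
  intro h
  have : Fact (Nat.Prime 11) := ⟨by norm_num⟩
  have : Fact (Nat.Prime 7) := ⟨by norm_num⟩
  have := Fact.mk Nat.prime_five
  have := Fact.mk Nat.prime_two
  obtain ⟨P⟩ := (inferInstance : Nonempty (Sylow 11 G))
  have h11 := sylow_cases hG (p := 11) (a := 1) (m := 560) h (by norm_num) (by norm_num) (by norm_num)
    (l := [56]) (by decide +kernel)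
  have h7 := sylow_cases hG (p := 7) (a := 1) (m := 880) h (by norm_num) (by norm_num) (by norm_num)
    (l := [22]) (by decide +kernel)
  rw [List.mem_singleton] at h11 h7
  obtain ⟨R⟩ := (inferInstance : Nonempty (Sylow 7 G))
  obtain ⟨c, e, hC, -, he, hep, hprod⟩ := prime_data hG h (p := 11) (m := 560) (by norm_num) (by norm_num) P
  have hM : Nat.card (Sylow 7 G) = (normalizer ((R : Subgroup G) : Set G)).index :=
    R.card_eq_index_normalizer
  have hM' := (normalizer ((R : Subgroup G) : Set G)).card_mul_index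
  rw [← hM, h7, h] at hM'
  have key : ∀ q : ℕ, Fact q.Prime → q ∣ c → (q = 2 ∨ q = 5) → False := by
    intro q hq hqc hq'
    obtain ⟨g, z, -, hg, -, hz, hgz, -⟩ := exists_commuting (h.trans (by norm_num : 6160 = 11 * 560))
      (by norm_num) P hC hqc
    refine no_commuting hG (normalizer_sylow_ne_top hG (h ▸ by norm_num) R) (by omega) hg hz hgz ?_
    rw [← hM, h7]
    rcases hq' with rfl | rfl <;> decide +kernel
  have hc : c = 1 := by
    rw [h11] at hprod
    have he' : e ≤ 10 := Nat.le_of_dvd (by norm_num) hep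
    have hce : c * e = 10 := by omega
    by_contra hc
    have h' : 2 ∣ c ∨ 5 ∣ c := by interval_cases e <;> omega
    rcases h' with h' | h'
    · exact key 2 ‹_› h' (Or.inl rfl)
    · exact key 5 ‹_› h' (Or.inr rfl)
  subst hc
  rw [mul_one] at hC
  rcases order_of_self_central hG (h.trans (by norm_num : 6160 = 11 * 560)) (by norm_num) P hC
    (by rw [h11]; norm_num) with h' | ⟨j, hj, -⟩
  · omega
  · rcases j with _ | _ | _ | _ | j <;> simp [pow_succ] at hj
    omega

/-- Order 3696. -/
theorem card_ne_3696 : Nat.card G ≠ 3696 := by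
  intro h
  have : Fact (Nat.Prime 11) := ⟨by norm_num⟩
  have := Fact.mk Nat.prime_three
  have hn11 : Nat.card G = 11 * 336 := by rw [h]
  have hs := sylow_cases hG (p := 11) (a := 1) (m := 336) h (by norm_num) (by norm_num) (by norm_num)
    (l := [12, 56]) (by decide +kernel)
  simp only [List.mem_cons, List.not_mem_nil, or_false] at hs
  rcases hs with hs | hs
  · obtain ⟨e, he1, hep, hprod, -⟩ := automiser_of_succ hG hn11 (by norm_num) hs
    have := Nat.le_of_dvd (by norm_num) hep
    omega
  obtain ⟨P⟩ := (inferInstance : Nonempty (Sylow 11 G))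
  obtain ⟨c, e, hC, hN, he, hep, hprod⟩ := prime_data hG h (p := 11) (m := 336) (by norm_num) (by norm_num) P
  rw [hs] at hprod
  have he' : e ≤ 10 := Nat.le_of_dvd (by norm_num) hep
  have hce : c * e = 6 := by omega
  have hc3 : c = 3 ∧ e = 2 := by interval_cases e <;> omega
  obtain ⟨rfl, rfl⟩ := hc3
  obtain ⟨g, z, hgP, hg, hzC, hz, hgz, hgen⟩ := exists_commuting hn11 (by norm_num) P hC (q := 3) dvd_rfl
  set N := normalizer ((P : Subgroup G) : Set G) with hNdef
  set C := centralizer ((P : Subgroup G) : Set G) with hCdef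
  have hN' : N.index = 56 := P.card_eq_index_normalizer.symm.trans hs
  have hP : Nat.card ↥(P : Subgroup G) = 11 := by
    simpa using card_sylow_eq (a := 1) (m := 336) (h.trans (by norm_num)) (by norm_num) P
  have hfg := fixedBy_sylow_cosets_eq P hP hg
  have hf1 := CfsgLib.SmallOrders.card_fixedBy_modEq_one (α := G ⧸ N)
    (CfsgLib.SmallOrders.isPGroup_zpowers hg) hgz.symm hfg
  have hf2 := CfsgLib.SmallOrders.index_modEq_fix N (CfsgLib.SmallOrders.isPGroup_zpowers hz)
  have hNtop : N ≠ ⊤ := fun he => by rw [he, index_top] at hN'; omega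
  have hlt := CfsgLib.SmallOrders.fix_lt_index hNtop (CfsgLib.SmallOrders.ne_one_of_orderOf hz)
  rw [hN'] at hf2 hlt
  have hmul := CfsgLib.SmallOrders.fix_mul_card N z
  have hzN : z ∈ N := centralizer_le_normalizer _ hzC
  have hconj : Nat.card {y : G // IsConj z y ∧ y ∈ N} ≤ 3 := by
    have hmem : ∀ y : G, IsConj z y → y ∈ N → y ∈ zpowers z := by
      intro y hy hyN
      obtain ⟨u, rfl⟩ := isConj_iff.1 hy
      have hyo : orderOf (u * z * u⁻¹) = 3 := by
        rw [← hz]
        exact orderOf_injective (MulAut.conj u).toMonoidHom (MulAut.conj u).injective z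
      have hCn : C ≤ N := centralizer_le_normalizer _
      have hidx : (C.subgroupOf N).index = 2 := by
        have h1 := (C.subgroupOf N).card_mul_index
        rw [Nat.card_congr (subgroupOfEquivOfLe hCn).toEquiv, hC, hN] at h1
        omega
      have hsq : (⟨u * z * u⁻¹, hyN⟩ : N) ^ 2 ∈ C.subgroupOf N := sq_mem_of_index_two hidx _
      have hyC : u * z * u⁻¹ ∈ C := by
        have h4 : u * z * u⁻¹ = ((u * z * u⁻¹) ^ 2) ^ 2 := by
          rw [← pow_mul, show 2 * 2 = 3 + 1 by norm_num, pow_succ, ← hyo, pow_orderOf_eq_one, one_mul]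
        rw [h4]
        exact pow_mem hsq 2
      have hC' : Nat.card C = 3 ^ 1 * 11 := by rw [hC]; norm_num
      have hn3 := card_sylow_mem (G := C) (p := 3) hC' (by norm_num)
      rw [show (Nat.divisors 11).filter (fun d => d % 3 = 1) = {1} by decide +kernel,
        Finset.mem_singleton] at hn3
      have hsub : Subsingleton (Sylow 3 C) := (Nat.card_eq_one_iff_unique.1 hn3).1
      have hz' : orderOf (⟨z, hzC⟩ : C) = 3 := (Subgroup.orderOf_mk z hzC).trans hz
      have hy' : orderOf (⟨u * z * u⁻¹, hyC⟩ : C) = 3 := (Subgroup.orderOf_mk _ hyC).trans hyo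
      obtain ⟨S, hS⟩ := (CfsgLib.SmallOrders.isPGroup_zpowers hz').exists_le_sylow
      obtain ⟨S', hS'⟩ := (CfsgLib.SmallOrders.isPGroup_zpowers hy').exists_le_sylow
      have hS3 : Nat.card ↥(S : Subgroup C) = 3 := by
        simpa using card_sylow_eq (a := 1) hC' (by norm_num) S
      have heq : zpowers (⟨z, hzC⟩ : C) = (S : Subgroup C) :=
        eq_of_le_of_card_ge hS (by rw [Nat.card_zpowers, hz', hS3])
      have h2 : (⟨u * z * u⁻¹, hyC⟩ : C) ∈ zpowers (⟨z, hzC⟩ : C) := by
        rw [heq, Subsingleton.elim S S']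
        exact hS' (mem_zpowers _)
      obtain ⟨i, hi⟩ := mem_zpowers_iff.1 h2
      exact mem_zpowers_iff.2 ⟨i, by simpa using congrArg Subtype.val hi⟩
    refine le_trans (Nat.card_le_card_of_injective
      (fun y => (⟨y.1, hmem y.1 y.2.1 y.2.2⟩ : zpowers z))
      (fun a b hab => Subtype.ext (congrArg (fun q : zpowers z => (q : G)) hab))) ?_
    rw [Nat.card_zpowers, hz]
  have hpos : 0 < Nat.card {y : G // IsConj z y ∧ y ∈ N} :=
    Finite.card_pos_iff.2 ⟨⟨z, IsConj.refl z, hzN⟩⟩
  generalize hf : Nat.card (fixedBy (G ⧸ N) z) = f at hf1 hf2 hlt hmul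
  have hf23 : f = 23 := by
    unfold Nat.ModEq at hf1 hf2
    omega
  subst hf23
  have hdvd : Nat.card ↥(centralizer ({z} : Set G)) ∣ 3696 := h ▸ card_subgroup_dvd_card _
  rw [hN] at hmul
  have h23 : 23 ∣ Nat.card ↥(centralizer ({z} : Set G)) * Nat.card {y : G // IsConj z y ∧ y ∈ N} :=
    ⟨66, by linarith⟩
  rcases (Nat.Prime.dvd_mul (by norm_num : Nat.Prime 23)).1 h23 with h' | h'
  · exact absurd (h'.trans hdvd) (by norm_num)
  · have := Nat.le_of_dvd hpos h'
    omega

end CfsgLib.SmallOrders.Range
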