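import Cfsg.Agent.Lib.SmallOrders.Range.KillsHighFive
import Cfsg.Agent.Lib.SmallOrders.Range.Cert
import Cfsg.Agent.Lib.AltGroups.Marggraf

/-!
Orders between 1093 and 3640 excluded by Sylow arguments.
-/

set_option autoImplicit false

namespace CfsgLib.SmallOrders.Range

open Subgroup MulAction CfsgLib.SmallGroups CfsgLib.KGroups.SmallOrders

variable {G : Type*} [Group G] [Finite G]

/-- Conjugate Sylow subgroups have centralisers of equal order. -/
theorem card_centralizer_smul {p : ℕ} [Fact p.Prime] (P : Sylow p G) (x : G) :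
    Nat.card ↥(centralizer (((x • P : Sylow p G) : Subgroup G) : Set G)) =
      Nat.card ↥(centralizer ((P : Subgroup G) : Set G)) :=
  CfsgLib.SmallGroups.TwentyOne.card_centralizer_sylow_eq _ _

/-- An element of prime order `q` prime to the automiser centralising a Sylow subgroup of order `p`
centralises `f` of them, a Sylow number of its centraliser. -/
theorem fix_dvd_of_mem [IsSimpleGroup G] {p q c m : ℕ} [hp : Fact p.Prime] [hq : Fact q.Prime]
    (hn : Nat.card G = p * m) (hm : ¬ p ∣ m) (P : Sylow p G) (hs : 1 < Nat.card (Sylow p G))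
    {e : ℕ} (hC : Nat.card ↥(centralizer ((P : Subgroup G) : Set G)) = p * c)
    (hN : Nat.card ↥(normalizer ((P : Subgroup G) : Set G)) = p * c * e) 
    (hqp : ¬ q ∣ e) (hpq : p ≠ q) {z : G} (hzC : z ∈ centralizer ((P : Subgroup G) : Set G))
    (hz : orderOf z = q) :
    ∃ f, Nat.card (fixedBy (Sylow p G) z) = f ∧ f % p = 1 ∧
      f % q = Nat.card (Sylow p G) % q ∧ f < Nat.card (Sylow p G) ∧
      f * (p * q) ∣ Nat.card G ∧
      (q = 2 → ¬ IsMulCommutative G → (Nat.card (Sylow p G) - f) % 4 = 0) := by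
  classical
  have hauto : ∀ R : Sylow p G,
      Nat.card (R : Subgroup G).normalizerMonoidHom.range = e := by
    intro R
    have h1 : ∀ S : Sylow p G, Nat.card ↥(normalizer ((S : Subgroup G) : Set G)) =
        p * c * e := fun S => by
      have h1 := card_sylow_mul_card_normalizer S
      rw [← card_sylow_mul_card_normalizer P, hN] at h1
      exact Nat.eq_of_mul_eq_mul_left Nat.card_pos h1
    obtain ⟨x, hx⟩ := MulAction.exists_smul_eq G P R
    have hCR : Nat.card ↥(centralizer ((R : Subgroup G) : Set G)) = p * c := by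
      rw [← hC, ← hx]
      exact card_centralizer_smul P x
    rw [← index_ker, normalizerMonoidHom_ker]
    have h2 := ((centralizer ((R : Subgroup G) : Set G)).subgroupOf
      (normalizer ((R : Subgroup G) : Set G))).card_mul_index
    rw [Nat.card_congr (subgroupOfEquivOfLe (centralizer_le_normalizer _)).toEquiv, hCR, h1 R] at h2
    exact Nat.eq_of_mul_eq_mul_left (Nat.pos_of_ne_zero fun h0 => by
      rw [h0] at hC; exact absurd hC Nat.card_pos.ne') h2
  have hP : ∀ R : Sylow p G, Nat.card ↥(R : Subgroup G) = p := fun R => by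
    simpa using card_sylow_eq (a := 1) (by simpa using hn) hm R
  set L := centralizer ({z} : Set G) with hL
  have hPL : (P : Subgroup G) ≤ L := fun x hx =>
    mem_centralizer_singleton_iff.2 (mem_centralizer_iff.1 hzC x hx)
  have hfix : ∀ R : Sylow p G, z • R = R ↔ (R : Subgroup G) ≤ L := by
    intro R
    constructor
    · intro hR
      have hzN : z ∈ normalizer ((R : Subgroup G) : Set G) := Sylow.smul_eq_iff_mem_normalizer.1 hR
      let φ := (R : Subgroup G).normalizerMonoidHom
      have h1 : orderOf (φ ⟨z, hzN⟩) ∣ e :=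
        hauto R ▸ Subgroup.orderOf_dvd_natCard _ ⟨⟨z, hzN⟩, rfl⟩
      have h2 : orderOf (φ ⟨z, hzN⟩) ∣ q := by
        have := orderOf_map_dvd φ ⟨z, hzN⟩
        rwa [← Subgroup.orderOf_coe, hz] at this
      have h3 : φ ⟨z, hzN⟩ = 1 := by
        rcases (Nat.dvd_prime hq.out).1 h2 with h | h
        · exact orderOf_eq_one_iff.1 h
        · exact absurd (h ▸ h1) hqp
      intro x hx
      have h4 := congrArg Subtype.val (DFunLike.congr_fun h3 (⟨x, hx⟩ : ↥(R : Subgroup G)))
      exact mem_centralizer_singleton_iff.2 (mul_inv_eq_iff_eq_mul.1 h4).symm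
    · intro hR
      refine Sylow.smul_eq_iff_mem_normalizer.2 (centralizer_le_normalizer _ ?_)
      exact mem_centralizer_iff.2 fun x hx => mem_centralizer_singleton_iff.1 (hR hx)
  have hmap : ∀ S : Sylow p L, ∃ R : Sylow p G, ∃ hR : (R : Subgroup G) ≤ L, R.subtype hR = S := by
    intro S
    obtain ⟨R, hR⟩ := (S.isPGroup'.map L.subtype).exists_le_sylow
    have hS : Nat.card ↥(R : Subgroup G) ≤ Nat.card ↥((S : Subgroup L).map L.subtype) := by
      rw [hP R, card_subtype]
      exact Nat.le_of_dvd Nat.card_pos (by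
        have := S.pow_dvd_card_of_pow_dvd_card (n := 1) (by
          rw [pow_one, ← hP P]; exact card_dvd_of_le hPL)
        simpa using this)
    have heq : (S : Subgroup L).map L.subtype = (R : Subgroup G) := eq_of_le_of_card_ge hR hS
    refine ⟨R, heq ▸ map_subtype_le _, Sylow.ext ?_⟩
    rw [Sylow.coe_subtype, subgroupOf, ← heq, comap_map_eq_self_of_injective L.subtype_injective]
  have hcard : Nat.card (fixedBy (Sylow p G) z) = Nat.card (Sylow p L) := by
    refine Nat.card_congr (Equiv.ofBijective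
      (fun R : fixedBy (Sylow p G) z => (R : Sylow p G).subtype ((hfix R.1).1 R.2)) ⟨?_, ?_⟩)
    · intro R S h; exact Subtype.ext (Sylow.subtype_injective h)
    · intro S
      obtain ⟨R, hR, rfl⟩ := hmap S
      exact ⟨⟨R, (hfix R).2 hR⟩, rfl⟩
  refine ⟨Nat.card (Sylow p L), hcard, ?_, ?_, ?_, ?_, ?_⟩
  · rw [(card_sylow_modEq_one p L : _ % p = _), Nat.mod_eq_of_lt hp.out.one_lt]
  · rw [← hcard]
    exact (card_modEq_card_fixedBy (α := Sylow p G) (hz ▸ pow_orderOf_eq_one z : z ^ q = 1)).symm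
  · rw [← hcard]
    refine lt_of_le_of_ne (Finite.card_subtype_le _) fun he => ?_
    have hker : (toPermHom G (Sylow p G)).ker = ⊥ := by
      refine eq_bot_of_normal (inferInstance : (toPermHom G (Sylow p G)).ker.Normal) fun ht => ?_
      have hsub : Subsingleton (Sylow p G) := ⟨fun R S => by
        obtain ⟨x, rfl⟩ := MulAction.exists_smul_eq G R S
        have hx : toPermHom G (Sylow p G) x = 1 := MonoidHom.mem_ker.1 (by rw [ht]; exact mem_top x)
        exact (congrArg (fun e : Equiv.Perm (Sylow p G) => e R) hx).symm⟩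
      have := Finite.card_le_one_iff_subsingleton.2 hsub
      omega
    have hall : ∀ R : Sylow p G, z • R = R := fun R => by
      by_contra hR
      have := Finite.card_subtype_lt (p := fun R => R ∈ fixedBy (Sylow p G) z) (x := R) hR
      exact absurd he this.ne
    have hz1 : z ∈ (toPermHom G (Sylow p G)).ker := MonoidHom.mem_ker.2 (Equiv.ext hall)
    rw [hker, mem_bot] at hz1
    rw [hz1, orderOf_one] at hz
    exact hq.out.one_lt.ne hz
  · have hrel := CfsgLib.SmallGroups.TwentyOne.card_sylow_subgroup P hPL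
    set N := normalizer ((P : Subgroup G) : Set G)
    have hpq' : p * q ∣ Nat.card ↥(N ⊓ L : Subgroup G) := by
      refine ((Nat.coprime_primes hp.out hq.out).2 hpq).mul_dvd_of_dvd_of_dvd ?_ ?_
      · rw [← hP P]; exact card_dvd_of_le (le_inf le_normalizer hPL)
      · rw [← hz]
        exact Subgroup.orderOf_dvd_natCard _ (mem_inf.2 ⟨centralizer_le_normalizer _ hzC,
          mem_centralizer_singleton_iff.2 rfl⟩)
    refine (mul_dvd_mul_left _ hpq').trans ?_
    rw [hrel, ← inf_relIndex_right, mul_comm,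
      ← Nat.card_congr (subgroupOfEquivOfLe (inf_le_right : N ⊓ L ≤ L)).toEquiv,
      relIndex, card_mul_index]
    exact card_subgroup_dvd_card L
  · intro hq2 hG
    subst hq2
    have h4 := four_dvd_moved (α := Sylow p G) hG (g := z) (hz ▸ pow_orderOf_eq_one z)
    rw [hcard] at h4
    exact Nat.mod_eq_zero_of_dvd h4

/-- An element of prime order dividing the order of a Sylow centraliser fixes a Sylow number. -/
theorem fix_dvd [IsSimpleGroup G] {p q c m : ℕ} [hp : Fact p.Prime] [hq : Fact q.Prime]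
    (hn : Nat.card G = p * m) (hm : ¬ p ∣ m) (P : Sylow p G) (hs : 1 < Nat.card (Sylow p G))
    {e : ℕ} (hC : Nat.card ↥(centralizer ((P : Subgroup G) : Set G)) = p * c)
    (hN : Nat.card ↥(normalizer ((P : Subgroup G) : Set G)) = p * c * e) (hqc : q ∣ c)
    (hqp : ¬ q ∣ e) (hpq : p ≠ q) :
    ∃ f, f % p = 1 ∧ f % q = Nat.card (Sylow p G) % q ∧ f < Nat.card (Sylow p G) ∧
      f * (p * q) ∣ Nat.card G ∧
      (q = 2 → ¬ IsMulCommutative G → (Nat.card (Sylow p G) - f) % 4 = 0) := by
  obtain ⟨g, z, -, -, hzC, hz, -, -⟩ := exists_commuting hn hm P hC hqc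
  obtain ⟨f, -, hf⟩ := fix_dvd_of_mem hn hm P hs hC hN hqp hpq hzC hz
  exact ⟨f, hf⟩

variable [IsSimpleGroup G] (hG : ¬ IsMulCommutative G)
include hG

/-- Order 1575. -/
theorem card_ne_1575 : Nat.card G ≠ 1575 := by
  intro h
  have := Fact.mk Nat.prime_five
  have hs := sylow_cases hG (p := 5) (a := 2) (m := 63) h (by norm_num) (by norm_num) (by norm_num)
    (l := [21]) (by decide +kernel)
  exact TwentyOne.card_sylow_ne_twentyOne (List.mem_singleton.1 hs)

/-- Orders with no possible local subgroup. -/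
theorem false_of_no_local {n p a m : ℕ} [hp : Fact p.Prime] (h : Nat.card G = n) (hn : n = p ^ a * m)
    (hm : ¬ p ∣ m) (ha : 2 ≤ a) {l : List ℕ} (hopt : (List.range (m + 1)).filter (cand n p a m) = l)
    (hl : ∀ d ∈ l, d % p ^ 2 ≠ 1)
    (hdec : ∀ k ∈ Nat.divisors m, ∀ s ∈ Nat.divisors k, s % p = 1 → p < s →
      ¬ 2 * n ∣ (m / k).factorial) : False := by
  have hs := hl _ (sylow_cases hG h hn hm (by omega) hopt)
  obtain ⟨-, -, M, k, s, -, -, -, -, -, -, -, hprod, hfac, -, hsk, hs1, hps, -, -⟩ :=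
    exists_local hG (h.trans hn) hm ha hs
  rw [h] at hfac
  have hm0 : m ≠ 0 := fun h0 => hm (h0 ▸ dvd_zero p)
  have hk : k ∈ Nat.divisors m := Nat.mem_divisors.2 ⟨Dvd.intro _ hprod, hm0⟩
  have hks : s ∈ Nat.divisors k := Nat.mem_divisors.2 ⟨hsk, (Nat.pos_of_mem_divisors hk).ne'⟩
  refine hdec k hk s hks hs1 hps ?_
  rwa [← hprod, Nat.mul_div_cancel_left _ (Nat.pos_of_mem_divisors hk)]

/-- Order 1400. -/
theorem card_ne_1400 : Nat.card G ≠ 1400 := fun h => by
  have := Fact.mk Nat.prime_five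
  exact false_of_no_local hG (p := 5) (a := 2) (m := 56) h (by norm_num) (by norm_num) (by norm_num)
    (l := [56]) (by decide +kernel) (by decide) (by decide +kernel)

/-- Order 2475. -/
theorem card_ne_2475 : Nat.card G ≠ 2475 := fun h => by
  have := Fact.mk Nat.prime_five
  exact false_of_no_local hG (p := 5) (a := 2) (m := 99) h (by norm_num) (by norm_num) (by norm_num)
    (l := [11]) (by decide +kernel) (by decide) (by decide +kernel)

/-- Order 2800. -/
theorem card_ne_2800 : Nat.card G ≠ 2800 := fun h => by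
  have := Fact.mk Nat.prime_five
  exact false_of_no_local hG (p := 5) (a := 2) (m := 112) h (by norm_num) (by norm_num) (by norm_num)
    (l := [16, 56]) (by decide +kernel) (by decide) (by decide +kernel)

/-- Order 3528. -/
theorem card_ne_3528 : Nat.card G ≠ 3528 := fun h => by
  have : Fact (Nat.Prime 7) := ⟨by norm_num⟩
  exact false_of_no_local hG (p := 7) (a := 2) (m := 72) h (by norm_num) (by norm_num) (by norm_num)
    (l := [36]) (by decide +kernel) (by decide) (by decide +kernel)

/-- Order 1680. -/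
theorem card_ne_1680 : Nat.card G ≠ 1680 := by
  intro h
  have := Fact.mk Nat.prime_five
  have := Fact.mk Nat.prime_three
  have hs := sylow_cases hG (p := 5) (a := 1) (m := 336) h (by norm_num) (by norm_num) (by norm_num)
    (l := [21, 56]) (by decide +kernel)
  simp only [List.mem_cons, List.not_mem_nil, or_false] at hs
  rcases hs with hs | hs
  · exact TwentyOne.card_sylow_ne_twentyOne hs
  obtain ⟨P⟩ := (inferInstance : Nonempty (Sylow 5 G))
  obtain ⟨c, e, hC, hN, he, hep, hprod⟩ :=
    prime_data hG h (p := 5) (m := 336) (by norm_num) (by norm_num) P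
  rw [hs] at hprod
  have hq : 3 ∣ c := by
    have hce : c * e = 6 := by omega
    have he2 : e ∈ Nat.divisors 4 := Nat.mem_divisors.2 ⟨hep, by norm_num⟩
    rw [show Nat.divisors 4 = {1, 2, 4} by decide +kernel] at he2
    simp only [Finset.mem_insert, Finset.mem_singleton] at he2
    rcases he2 with rfl | rfl | rfl <;> omega
  obtain ⟨f, hf5, hf3, hflt, hfd, -⟩ := fix_dvd (q := 3) (h.trans (by norm_num : 1680 = 5 * 336))
    (by norm_num) P (by omega) hC hN hq (fun h3 => absurd (h3.trans hep) (by norm_num)) (by norm_num)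
  rw [h] at hfd
  rw [hs] at hf3 hflt
  have key : ∀ f ∈ List.range 56, f % 5 = 1 → f % 3 = 56 % 3 → 1680 % (f * (5 * 3)) ≠ 0 := by
    decide +kernel
  exact key f (List.mem_range.2 hflt) hf5 hf3 (Nat.mod_eq_zero_of_dvd hfd)

/-- Orders `p 3^a 2^b` with too large Sylow normalisers. -/
theorem false_of_selfC {n p a b : ℕ} [hp : Fact p.Prime] (h : Nat.card G = n)
    (hn : n = p * (3 ^ a * 2 ^ b)) (hm : ¬ p ∣ 3 ^ a * 2 ^ b) (hps : notPSL n p = true)
    (hdec : ∀ d ∈ (List.range (3 ^ a * 2 ^ b + 1)).filter (cand n p 1 (3 ^ a * 2 ^ b)),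
      (p - 1) % (3 ^ a * 2 ^ b / d) ≠ 0 ∨ 2 * d < (p + 1) * (p + 2)) : False := by
  subst h
  exact eq_of_notPSL hps (order_of_three_primes hG hn rfl hm hdec)

/-- Order 2880. -/
theorem card_ne_2880 : Nat.card G ≠ 2880 := fun h => by
  have := Fact.mk Nat.prime_five
  exact false_of_selfC hG (p := 5) (a := 2) (b := 6) h (by norm_num) (by norm_num) (by decide +kernel)
    (by decide +kernel)

/-- Order 3024. -/
theorem card_ne_3024 : Nat.card G ≠ 3024 := fun h => by
  have : Fact (Nat.Prime 7) := ⟨by norm_num⟩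
  exact false_of_selfC hG (p := 7) (a := 3) (b := 4) h (by norm_num) (by norm_num) (by decide +kernel)
    (by decide +kernel)

/-- Order 3080. -/
theorem card_ne_3080 : Nat.card G ≠ 3080 := by
  intro h
  have := Fact.mk Nat.prime_five
  have : Fact (Nat.Prime 7) := ⟨by norm_num⟩
  have hs := sylow_cases hG (p := 5) (a := 1) (m := 616) h (by norm_num) (by norm_num) (by norm_num)
    (l := [11]) (by decide +kernel)
  rw [List.mem_singleton] at hs
  obtain ⟨P⟩ := (inferInstance : Nonempty (Sylow 5 G))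
  obtain ⟨c, e, hC, hN, he, hep, hprod⟩ :=
    prime_data hG h (p := 5) (m := 616) (by norm_num) (by norm_num) P
  rw [hs] at hprod
  have hq : 7 ∣ c := by
    refine ((show Nat.Prime 7 by norm_num).dvd_mul.1 (show 7 ∣ c * e by omega)).resolve_right
      fun h7 => absurd (h7.trans hep) (by norm_num)
  obtain ⟨f, hf5, hf7, hflt, -, -⟩ := fix_dvd (q := 7) (h.trans (by norm_num : 3080 = 5 * 616))
    (by norm_num) P (by omega) hC hN hq (fun h7 => absurd (h7.trans hep) (by norm_num)) (by norm_num)
  rw [hs] at hf7 hflt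
  omega

/-- Order 2400. -/
theorem card_ne_2400 : Nat.card G ≠ 2400 := by
  intro h
  have := Fact.mk Nat.prime_five
  have hs := sylow_cases hG (p := 5) (a := 2) (m := 96) h (by norm_num) (by norm_num) (by norm_num)
    (l := [16, 96]) (by decide +kernel)
  simp only [List.mem_cons, List.not_mem_nil, or_false] at hs
  obtain ⟨-, -, M, k, s, -, -, -, -, -, -, hk', hprod, hfac, -, hsk, hs1, hps, -, hsM⟩ :=
    exists_local hG (p := 5) (a := 2) (m := 96) (h.trans (by norm_num)) (by norm_num) (by norm_num)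
      (by rcases hs with hs | hs <;> rw [hs] <;> norm_num)
  rw [h] at hfac
  have hk : k ∈ Nat.divisors 96 := Nat.mem_divisors.2 ⟨Dvd.intro _ hprod, by norm_num⟩
  have hks : s ∈ Nat.divisors k := Nat.mem_divisors.2 ⟨hsk, (Nat.pos_of_mem_divisors hk).ne'⟩
  have hlist : ∀ k ∈ Nat.divisors 96, ∀ s ∈ Nat.divisors k, s % 5 = 1 → 5 < s →
      (2 * 2400 ∣ (96 / k).factorial) → k = 6 := by decide +kernel
  rw [← Nat.mul_div_cancel_left M.index (Nat.pos_of_mem_divisors hk), hprod] at hfac
  obtain rfl := hlist k hk s hks hs1 hps hfac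
  have := card_sylow_five_small 6 (Or.inr rfl) hk'
  omega

omit [IsSimpleGroup G] [Finite G] hG in
/-- The orbit of an element of prime order at a moved point. -/
theorem card_orbit_zpowers {α : Type*} [MulAction G α] [Finite α] {p : ℕ} [hp : Fact p.Prime]
    {d : G} (hd : orderOf d = p) {x : α} (hx : d • x ≠ x) :
    Nat.card (orbit (zpowers d) x) = p := by
  have h1 : Nat.card (orbit (zpowers d) x) ∣ p := by
    rw [← hd, ← Nat.card_zpowers, Nat.card_coe_set_eq, ← index_stabilizer]
    exact index_dvd_card _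
  refine ((Nat.dvd_prime hp.out).1 h1).resolve_left fun h => hx ?_
  obtain ⟨hsub, -⟩ := Nat.card_eq_one_iff_unique.1 h
  exact congrArg Subtype.val (hsub.elim
    (⟨d • x, ⟨d, mem_zpowers d⟩, rfl⟩ : orbit (zpowers d) x) ⟨x, mem_orbit_self x⟩)

omit hG in
/-- A transitive group of degree 12 with maximal stabilisers and a five-cycle. -/
theorem false_of_five_cycle {n : ℕ} (h : Nat.card G = n) (hn : n < 239500800) {M : Subgroup G}
    (hM : IsCoatom M) (hi : M.index = 12) {d : G} (hd : orderOf d = 5)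
    (hf : Nat.card (fixedBy (G ⧸ M) d) = 7) : False := by
  classical
  have := Fact.mk Nat.prime_five
  have := Fintype.ofFinite (G ⧸ M)
  have h12 : Fintype.card (G ⧸ M) = 12 := by rw [← Nat.card_eq_fintype_card, ← index_eq_card, hi]
  have hne : Nontrivial (G ⧸ M) := Fintype.one_lt_card_iff_nontrivial.1 (by omega)
  have hprim : IsPreprimitive G (G ⧸ M) := by
    rw [← isCoatom_stabilizer_iff_preprimitive G (↑(1 : G) : G ⧸ M), stabilizer_quotient]
    exact hM
  have hker : (toPermHom G (G ⧸ M)).ker = ⊥ := eq_bot_of_normal inferInstance fun ht => hM.1 (by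
    refine top_le_iff.1 fun g _ => ?_
    have hg : toPermHom G (G ⧸ M) g = 1 := MonoidHom.mem_ker.1 (by rw [ht]; exact mem_top g)
    have h1 : g • ((1 : G) : G ⧸ M) = ((1 : G) : G ⧸ M) :=
      congrArg (fun e : Equiv.Perm (G ⧸ M) => e ((1 : G) : G ⧸ M)) hg
    rw [← mem_stabilizer_iff, stabilizer_quotient] at h1
    exact h1)
  have hinj : Function.Injective (toPermHom G (G ⧸ M)) := (MonoidHom.ker_eq_bot_iff _).1 hker
  have : FaithfulSMul G (G ⧸ M) := ⟨fun {a b} hab => hinj (Equiv.ext hab)⟩
  let Γ : Finset (G ⧸ M) := Finset.univ.filter fun x => d • x ≠ x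
  have hΓ : Γ.card = 5 := by
    have h7 : (Finset.univ.filter fun x : G ⧸ M => d • x = x).card = 7 := by
      rw [← hf, Nat.card_eq_fintype_card, ← Fintype.card_subtype]
      exact Fintype.card_congr (Equiv.subtypeEquivRight fun _ => Iff.rfl)
    have := Finset.card_filter_add_card_filter_not (s := Finset.univ) (fun x : G ⧸ M => d • x = x)
    rw [h7, Finset.card_univ, h12] at this
    show (Finset.univ.filter fun x : G ⧸ M => ¬ d • x = x).card = 5
    omega
  have hsub : ∀ x ∈ Γ, orbit (zpowers d) x = (↑Γ : Set (G ⧸ M)) := by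
    intro x hx
    simp only [Γ, Finset.mem_filter, Finset.mem_univ, true_and] at hx
    refine Set.eq_of_subset_of_ncard_le ?_ (le_of_eq ?_) (Set.toFinite _)
    · rintro _ ⟨⟨g, hg⟩, rfl⟩
      show g • x ∈ (↑Γ : Set (G ⧸ M))
      simp only [Γ, Finset.coe_filter, Finset.mem_univ, true_and, Set.mem_ofPred_eq]
      obtain ⟨j, rfl⟩ := mem_zpowers_iff.1 hg
      rw [← mul_smul, ((Commute.refl d).zpow_right j).eq, mul_smul]
      exact fun he => hx (MulAction.injective _ he)
    · rw [Set.ncard_coe_finset, hΓ, ← Nat.card_coe_set_eq]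
      exact (card_orbit_zpowers hd hx).symm
  have hJ : CfsgLib.AltGroups.Marggraf.Jordan G Γ := by
    intro x hx y hy
    have hy' : y ∈ orbit (zpowers d) x := by rw [hsub x hx]; exact hy
    obtain ⟨⟨g, hg⟩, rfl⟩ := hy'
    refine ⟨g, fun z hz => ?_, rfl⟩
    simp only [Γ, Finset.mem_filter, Finset.mem_univ, true_and, not_not] at hz
    exact mem_stabilizer_iff.1 ((zpowers_le (H := stabilizer G z)).2 hz hg)
  have halt := CfsgLib.AltGroups.Marggraf.alternating_le_of_jordan 12 h12 hprim (by omega) (by omega) hJ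
  have h1 := card_le_of_le halt
  rw [nat_card_alternatingGroup, Nat.card_eq_fintype_card, h12,
    ← Nat.card_congr (MonoidHom.ofInjective hinj).toEquiv, h] at h1
  have : (12 : ℕ).factorial / 2 = 239500800 := by decide +kernel
  omega

/-- Order 3600. -/
theorem card_ne_3600 : Nat.card G ≠ 3600 := by
  intro h
  have := Fact.mk Nat.prime_five
  have hs := sylow_cases hG (p := 5) (a := 2) (m := 144) h (by norm_num) (by norm_num) (by norm_num)
    (l := [16, 36]) (by decide +kernel)
  simp only [List.mem_cons, List.not_mem_nil, or_false] at hs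
  have hn : Nat.card G = 5 ^ 2 * 144 := h.trans (by norm_num)
  obtain ⟨Q, D, M, k, s, hQM, hMtop, hDQ, -, hD, hMD, hk', hprod, hfac, hsN, hsk, hs1, hps, hkd, hsM⟩ :=
    exists_local hG hn (by norm_num) (by norm_num)
      (by rcases hs with hs | hs <;> rw [hs] <;> norm_num)
  rw [h] at hfac
  have hk : k ∈ Nat.divisors 144 := Nat.mem_divisors.2 ⟨Dvd.intro _ hprod, by norm_num⟩
  have hks : s ∈ Nat.divisors k := Nat.mem_divisors.2 ⟨hsk, (Nat.pos_of_mem_divisors hk).ne'⟩
  have hlist : ∀ k ∈ Nat.divisors 144, ∀ s ∈ Nat.divisors k, s % 5 = 1 → 5 < s →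
      (2 * 3600 ∣ (144 / k).factorial) → k = 6 ∨ (k = 12 ∧ s = 6) := by decide +kernel
  rw [← Nat.mul_div_cancel_left M.index (Nat.pos_of_mem_divisors hk), hprod] at hfac
  rcases hlist k hk s hks hs1 hps hfac with rfl | ⟨rfl, rfl⟩
  · have := card_sylow_five_small 6 (Or.inr rfl) hk'
    omega
  have hN := card_sylow_mul_card_normalizer Q
  rcases hs with hs | hs
  · rw [hs] at hkd
    norm_num at hkd
  rw [hs, h] at hN
  set N := normalizer ((Q : Subgroup G) : Set G) with hNdef
  have hi : M.index = 12 := by omega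
  have hD5 : Nat.card D = 5 := by omega
  have hNM : Nat.card ↥(N ⊓ M : Subgroup G) = 50 := by omega
  obtain ⟨n, hnN, hnM⟩ : ∃ n, n ∈ N ∧ n ∉ M := by
    by_contra hc
    push Not at hc
    have := card_le_of_le (le_inf le_rfl hc : N ≤ N ⊓ M)
    omega
  obtain ⟨⟨d, hdD⟩, hd'⟩ := exists_prime_orderOf_dvd_card' (G := ↥D) 5 (dvd_of_eq hD5.symm)
  have hd : orderOf d = 5 := (Subgroup.orderOf_coe _).trans hd'
  have hfix : ∀ m ∈ M, d • ((m * n : G) : G ⧸ M) = ((m * n : G) : G ⧸ M) := by
    intro m hm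
    show ((m * n : G) : G ⧸ M) ∈ fixedBy (G ⧸ M) d
    rw [mk_mem_fixedBy_iff]
    have h1 : m⁻¹ * d * m ∈ D := by
      have := (mem_normalizer_iff''.1 (hMD.ge hm : m ∈ normalizer (D : Set G)) d).1 hdD
      exact this
    have h2 := (mem_normalizer_iff''.1 hnN _).1 (hDQ h1)
    refine hQM ?_
    convert h2 using 1
    group
  have hfix1 : d • ((1 : G) : G ⧸ M) = ((1 : G) : G ⧸ M) := by
    show ((d * 1 : G) : G ⧸ M) = _
    rw [mul_one, QuotientGroup.eq]
    simpa using M.inv_mem (hQM (hDQ hdD))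
  set a : G ⧸ M := (n : G ⧸ M) with ha
  have hst : ∀ x : M, x ∈ stabilizer M a → (x : G) ∈ N := by
    intro x hx
    have hx' : ((x * n : G) : G ⧸ M) = (n : G ⧸ M) := hx
    have hxn : n⁻¹ * x * n ∈ M := by
      have h' := QuotientGroup.eq.1 hx'.symm
      rwa [← mul_assoc] at h'
    set D' := D.map (MulAut.conj n).toMonoidHom with hD'
    have hD'Q : D' ≤ (Q : Subgroup G) := by
      rintro _ ⟨y, hy, rfl⟩
      exact (mem_normalizer_iff.1 hnN y).1 (hDQ hy)
    have hxD : (x : G) ∈ normalizer (D : Set G) := hMD.ge x.2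
    have hxD' : (x : G) ∈ normalizer (D' : Set G) := by
      have h3 := le_normalizer_map (MulAut.conj n).toMonoidHom (H := D)
        ⟨n⁻¹ * x * n, hMD.ge hxn, by show n * (n⁻¹ * x * n) * n⁻¹ = x; group⟩
      exact h3
    have hc' : Nat.card D' = 5 := by rw [hD', card_map_of_injective (MulAut.conj n).injective, hD5]
    have hne : D' ≠ D := fun he => hnM (hMD.le (mem_normalizer_iff_map_conj_eq.2 he))
    have hsup : D ⊔ D' = (Q : Subgroup G) := by
      refine eq_of_le_of_card_ge (sup_le hDQ hD'Q) ?_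
      have hQ : Nat.card ↥(Q : Subgroup G) = 5 ^ 2 := card_sylow_eq hn (by norm_num) Q
      obtain ⟨i, hi⟩ := (Q.isPGroup'.to_le (sup_le hDQ hD'Q)).exists_card_eq
      have hlt : D < D ⊔ D' := lt_of_le_of_ne le_sup_left fun he =>
        hne (eq_of_le_of_card_ge (he ▸ le_sup_right) (by omega))
      have h5 : 5 < Nat.card ↥(D ⊔ D') := by
        rw [← hD5]
        exact lt_of_le_of_ne (card_le_of_le hlt.le) fun h' => hlt.ne (eq_of_le_of_card_ge hlt.le h'.ge)
      rw [hi] at h5 ⊢
      rw [hQ]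
      rcases i with _ | _ | i
      · omega
      · omega
      · exact Nat.pow_le_pow_right (by norm_num) (by omega)
    rw [hNdef, mem_normalizer_iff_map_conj_eq, ← hsup, Subgroup.map_sup,
      mem_normalizer_iff_map_conj_eq.1 hxD, mem_normalizer_iff_map_conj_eq.1 hxD']
  have horb : 6 ≤ Nat.card (orbit M a) := by
    have hle : stabilizer M a ≤ (N ⊓ M).subgroupOf M := fun x hx => mem_inf.2 ⟨hst x hx, x.2⟩
    have h1 := (stabilizer M a).card_mul_index
    have h2 := card_le_of_le hle
    rw [Nat.card_congr (subgroupOfEquivOfLe inf_le_right).toEquiv, hNM] at h2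
    rw [index_stabilizer, ← Nat.card_coe_set_eq, hk'] at h1
    nlinarith
  have hsub : insert ((1 : G) : G ⧸ M) (orbit M a) ⊆ fixedBy (G ⧸ M) d := by
    rintro _ (rfl | ⟨⟨m, hm⟩, rfl⟩)
    · exact hfix1
    · exact hfix m hm
  have hnot : ((1 : G) : G ⧸ M) ∉ orbit M a := by
    rintro ⟨⟨m, hm⟩, he⟩
    have he' : ((m * n : G) : G ⧸ M) = ((1 : G) : G ⧸ M) := he
    rw [eq_comm, QuotientGroup.eq, inv_one, one_mul] at he'
    exact hnM (by simpa using M.mul_mem (M.inv_mem hm) he')
  have hge := Set.ncard_le_ncard hsub (Set.toFinite _)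
  rw [Set.ncard_insert_of_notMem hnot, ← Nat.card_coe_set_eq, ← Nat.card_coe_set_eq] at hge
  have hmod := card_modEq_card_fixedBy (α := G ⧸ M) (hd ▸ pow_orderOf_eq_one d : d ^ 5 = 1)
  have hlt := CfsgLib.SmallOrders.fix_lt_index hMtop (CfsgLib.SmallOrders.ne_one_of_orderOf hd)
  rw [← index_eq_card, hi] at hmod
  rw [hi] at hlt
  unfold Nat.ModEq at hmod
  refine false_of_five_cycle h (by norm_num) ⟨hMtop, fun L hL => by_contra fun hne => ?_⟩ hi hd
    (by omega)
  obtain ⟨hdv, hlti, hf'⟩ := index_lt hG hL hne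
  rw [hi] at hdv hlti
  rw [h] at hf'
  have hle : L.index ≤ 6 := by
    obtain ⟨j, hj⟩ := hdv
    rcases Nat.lt_or_ge j 2 with hj2 | hj2
    · interval_cases j <;> omega
    · nlinarith
  exact absurd (hf'.trans (Nat.factorial_dvd_factorial hle)) (by decide +kernel)

end CfsgLib.SmallOrders.Range
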