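import Cfsg.Agent.Lib.SmallOrders.Range.KillsLow
import Cfsg.Agent.Lib.SmallOrders.Range.DegreePair

/-!
Orders between 1093 and 3640 excluded by degree pairs and involutions.
-/

set_option autoImplicit false

namespace CfsgLib.SmallOrders.Range

open Subgroup MulAction CfsgLib.SmallGroups CfsgLib.KGroups.SmallOrders

variable {G : Type*} [Group G] [Finite G] [IsSimpleGroup G] (hG : ¬ IsMulCommutative G)
include hG

omit [IsSimpleGroup G] hG in
/-- An involution whose centraliser contains a Sylow 2-subgroup. -/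
theorem exists_two_central {k : ℕ} (h : 2 ^ k ∣ Nat.card G) (hk : 0 < k) :
    ∃ u : G, orderOf u = 2 ∧ 2 ^ k ∣ Nat.card ↥(centralizer ({u} : Set G)) := by
  have := Fact.mk Nat.prime_two
  obtain ⟨T⟩ := (inferInstance : Nonempty (Sylow 2 G))
  have hd : 2 ^ k ∣ Nat.card ↥(T : Subgroup G) := T.pow_dvd_card_of_pow_dvd_card h
  obtain ⟨i, hi⟩ := T.isPGroup'.exists_card_eq
  have : Nontrivial ↥(T : Subgroup G) := Finite.one_lt_card_iff_nontrivial.1 (lt_of_lt_of_le
    (Nat.one_lt_pow hk.ne' (by norm_num)) (Nat.le_of_dvd Nat.card_pos hd))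
  have := T.isPGroup'.center_nontrivial
  obtain ⟨j, hj⟩ := (T.isPGroup'.to_subgroup (center ↥(T : Subgroup G))).exists_card_eq
  obtain ⟨⟨⟨u, huT⟩, huz⟩, hu⟩ := exists_prime_orderOf_dvd_card' (G := center ↥(T : Subgroup G)) 2 (by
    have h1 : 1 < Nat.card (center ↥(T : Subgroup G)) := Finite.one_lt_card
    rcases j with _ | j
    · rw [hj] at h1; simp at h1
    · exact hj ▸ dvd_pow_self 2 (Nat.succ_ne_zero j))
  refine ⟨u, ?_, hd.trans (card_dvd_of_le fun a ha => mem_centralizer_singleton_iff.2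
    (congrArg Subtype.val (mem_center_iff.1 huz ⟨a, ha⟩)))⟩
  rw [← Subgroup.orderOf_coe, ← Subgroup.orderOf_coe] at hu
  exact hu

/-- The degree pair at a Sylow 5-subgroup of order 5 and an involution. -/
theorem degree_pair_five {n : ℕ} [Fact (Nat.Prime 5)] (h : Nat.card G = n) (P : Sylow 5 G)
    (hP : Nat.card ↥(P : Subgroup G) = 5)
    (hC : Nat.card ↥(centralizer ((P : Subgroup G) : Set G)) = 5)
    (hN : Nat.card ↥(normalizer ((P : Subgroup G) : Set G)) = 5 * 2) :
    ∃ A : ℕ, 1 < A ∧ A ∣ n ∧ (A + 1) ∣ n ∧ A ^ 2 + (A + 1) ^ 2 < n ∧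
      ∀ u : G, orderOf u = 2 → ∃ (c s : ℕ), c = Nat.card ↥(centralizer ({u} : Set G)) ∧ c ∣ n ∧
        s % 2 = 0 ∧ s ≤ 2 * A ∧ s ^ 2 * n = 5 * c ^ 2 * (A * (A + 1)) := by
  have := Fintype.ofFinite G
  obtain ⟨A, hA, hd, hd', hsq, hu⟩ := exists_degree_pair_parity hG (p := 5) (by norm_num) P hP hC hN
  rw [h] at hd hd' hsq
  refine ⟨A, hA, hd, hd', hsq, fun u hu' => ?_⟩
  obtain ⟨a, hev, -, hhi, hlo, heq⟩ := hu u hu'
  rw [h] at heq
  refine ⟨_, (a - A).natAbs, rfl, h ▸ card_subgroup_dvd_card _, ?_, by omega, ?_⟩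
  · obtain ⟨j, hj⟩ := hev
    omega
  · have h2 : ((((a - A).natAbs ^ 2 * n : ℕ)) : ℤ) =
        ((5 * Nat.card ↥(centralizer ({u} : Set G)) ^ 2 * (A * (A + 1)) : ℕ) : ℤ) := by
      push_cast
      rw [sq_abs]
      exact heq
    exact_mod_cast h2

/-- Order 2160. -/
theorem card_ne_2160 : Nat.card G ≠ 2160 := by
  intro h
  have := Fact.mk Nat.prime_five
  obtain ⟨P⟩ := (inferInstance : Nonempty (Sylow 5 G))
  obtain ⟨c, e, hC, hN, he, hep, hprod⟩ :=
    prime_data hG h (p := 5) (m := 432) (by norm_num) (by norm_num) P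
  have hc : c = 1 := by
    by_contra hc
    obtain ⟨q, hq, hqc⟩ := Nat.exists_prime_and_dvd hc
    have := Fact.mk hq
    obtain ⟨g, z, -, hg, -, hz, hgz, -⟩ :=
      exists_commuting (h.trans (by norm_num : 2160 = 5 * 432)) (by norm_num) P hC hqc
    have hcen := Cfsg.Agent.S1001.result 5 3 4 Nat.prime_five (h.trans (by norm_num)) g hg
    have hmem : z ∈ centralizer ({g} : Set G) := mem_centralizer_singleton_iff.2 hgz.symm.eq
    have h5 : orderOf z ∣ 5 := by
      have h' := Subgroup.orderOf_dvd_natCard _ (hcen ▸ hmem)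
      rwa [Nat.card_zpowers, hg] at h'
    rw [hz] at h5
    obtain rfl := (Nat.prime_dvd_prime_iff_eq hq Nat.prime_five).1 h5
    exact absurd (hqc.trans (hprod ▸ dvd_mul_of_dvd_right (dvd_mul_right c e) _)) (by norm_num)
  subst hc
  have hs := sylow_cases hG (p := 5) (a := 1) (m := 432) h (by norm_num) (by norm_num) (by norm_num)
    (l := [36, 216]) (by decide +kernel)
  simp only [List.mem_cons, List.not_mem_nil, or_false] at hs
  have hle := Nat.le_of_dvd (by norm_num) hep
  have he2 : e = 2 := by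
    rcases hs with hs | hs <;> rw [hs] at hprod <;> omega
  subst he2
  have hP : Nat.card ↥(P : Subgroup G) = 5 := by
    simpa using card_sylow_eq (a := 1) (m := 432) (h.trans (by norm_num)) (by norm_num) P
  obtain ⟨A, hA, hd, hd', hsq, hu⟩ := degree_pair_five hG h P hP hC hN
  obtain ⟨u, hu2, h16⟩ := exists_two_central (G := G) (k := 4) (h ▸ by norm_num) (by norm_num)
  obtain ⟨c, s, rfl, hcd, -, hs', heq⟩ := hu u hu2
  have key : ∀ A ∈ List.range 34, 1 < A → 2160 % A = 0 → 2160 % (A + 1) = 0 →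
      ∀ c ∈ (List.range 136).map (16 * ·), 2160 % c = 0 → 0 < c → ∀ s ∈ List.range 67, s ≤ 2 * A →
        s ^ 2 * 2160 ≠ 5 * c ^ 2 * (A * (A + 1)) := by decide +kernel
  have hA34 : A < 34 := by nlinarith
  obtain ⟨j, hj⟩ := h16
  refine key A (List.mem_range.2 hA34) hA (Nat.mod_eq_zero_of_dvd hd) (Nat.mod_eq_zero_of_dvd hd') _
    (List.mem_map.2 ⟨j, List.mem_range.2 ?_, hj.symm⟩) (Nat.mod_eq_zero_of_dvd hcd) Nat.card_pos s
    (List.mem_range.2 (by omega)) hs' heq
  have := Nat.le_of_dvd (by norm_num) hcd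
  omega

/-- Order 3360. -/
theorem card_ne_3360 : Nat.card G ≠ 3360 := by
  intro h
  have := Fact.mk Nat.prime_five
  have := Fact.mk Nat.prime_three
  have := Fact.mk Nat.prime_two
  have : Fact (Nat.Prime 7) := ⟨by norm_num⟩
  have hn7 : Nat.card G = 7 * 480 := h.trans (by norm_num)
  have hn5 : Nat.card G = 5 * 672 := h.trans (by norm_num)
  obtain ⟨P⟩ := (inferInstance : Nonempty (Sylow 7 G))
  obtain ⟨R⟩ := (inferInstance : Nonempty (Sylow 5 G))
  obtain ⟨c, e, hC, hN, he, hep, hprod⟩ :=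
    prime_data hG h (p := 7) (m := 480) (by norm_num) (by norm_num) P
  obtain ⟨d, f, hCd, hNd, hf, hfp, hprod'⟩ :=
    prime_data hG h (p := 5) (m := 672) (by norm_num) (by norm_num) R
  have hs := sylow_cases hG (p := 7) (a := 1) (m := 480) h (by norm_num) (by norm_num) (by norm_num)
    (l := [8, 15, 120]) (by decide +kernel)
  have hs' := sylow_cases hG (p := 5) (a := 1) (m := 672) h (by norm_num) (by norm_num) (by norm_num)
    (l := [16, 21, 56, 336]) (by decide +kernel)
  simp only [List.mem_cons, List.not_mem_nil, or_false] at hs hs'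
  have he6 : e ∈ Nat.divisors 6 := Nat.mem_divisors.2 ⟨hep, by norm_num⟩
  rw [show Nat.divisors 6 = {1, 2, 3, 6} by decide +kernel] at he6
  simp only [Finset.mem_insert, Finset.mem_singleton] at he6
  have hf4 : f ∈ Nat.divisors 4 := Nat.mem_divisors.2 ⟨hfp, by norm_num⟩
  rw [show Nat.divisors 4 = {1, 2, 4} by decide +kernel] at hf4
  simp only [Finset.mem_insert, Finset.mem_singleton] at hf4
  have hc : c = 2 ∧ e = 2 := by
    rcases hs with hs | hs | hs
    · obtain rfl := centralizer_eq_one_of_succ hG hn7 (by norm_num) hs P hC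
      rw [hs, one_mul] at hprod
      omega
    · exfalso
      rw [hs] at hprod
      have hc2 : 2 ∣ c := by rcases he6 with rfl | rfl | rfl | rfl <;> omega
      obtain ⟨g, z, -, hg, -, hz, hgz, hgen⟩ := exists_commuting hn7 (by norm_num) P hC hc2
      set N := normalizer ((P : Subgroup G) : Set G) with hNdef
      have hi : N.index = 15 := P.card_eq_index_normalizer.symm.trans hs
      have h1 := CfsgLib.SmallOrders.card_fixedBy_modEq_one (α := G ⧸ N)
        (CfsgLib.SmallOrders.isPGroup_zpowers hg) hgz.symm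
        (CfsgLib.SmallOrders.card_fixedBy_sylow_eq_one P hgen le_rfl)
      have h2 := card_modEq_card_fixedBy (α := G ⧸ N) (hz ▸ pow_orderOf_eq_one z : z ^ 2 = 1)
      have h3 := four_dvd_moved (α := G ⧸ N) hG (g := z) (hz ▸ pow_orderOf_eq_one z)
      have h4 := CfsgLib.SmallOrders.fix_lt_index (H := N) (fun ht => by rw [ht, index_top] at hi; omega)
        (CfsgLib.SmallOrders.ne_one_of_orderOf hz)
      rw [← index_eq_card] at h2 h3
      rw [hi] at h2 h3 h4
      unfold Nat.ModEq at h1 h2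
      omega
    · rw [hs] at hprod
      rcases he6 with rfl | rfl | rfl | rfl <;> omega
  obtain ⟨rfl, rfl⟩ := hc
  have hd : d = 1 ∧ f = 2 := by
    rcases hs' with hs' | hs' | hs' | hs'
    · exfalso
      rw [hs'] at hprod'
      have h7 : 7 ∣ d := by rcases hf4 with rfl | rfl | rfl <;> omega
      obtain ⟨g, z, hgR, hg, -, hz, hgz, -⟩ := exists_commuting hn5 (by norm_num) R hCd h7
      obtain ⟨P', hP'⟩ := (IsPGroup.of_card (p := 7) (n := 1) (G := zpowers z)
        (by rw [Nat.card_zpowers, hz, pow_one])).exists_le_sylow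
      have hP'c : Nat.card ↥(P' : Subgroup G) = 7 := by
        simpa using card_sylow_eq (a := 1) (m := 480) (by rw [hn7]; norm_num) (by norm_num) P'
      have heq := CfsgLib.SmallOrders.zpowers_eq_sylow P' hP'c (hP' (mem_zpowers z))
        (CfsgLib.SmallOrders.ne_one_of_orderOf hz)
      obtain ⟨x, hx⟩ := MulAction.exists_smul_eq G P P'
      have hCP' : Nat.card ↥(centralizer ((P' : Subgroup G) : Set G)) = 7 * 2 := by
        rw [← hC, ← hx]
        exact card_centralizer_smul P x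
      have hmem : g ∈ centralizer ((P' : Subgroup G) : Set G) := by
        rw [← heq]
        refine mem_centralizer_iff.2 fun y hy => ?_
        obtain ⟨i, rfl⟩ := mem_zpowers_iff.1 hy
        exact (hgz.zpow_right i).symm.eq
      have := Subgroup.orderOf_dvd_natCard _ hmem
      rw [hg, hCP'] at this
      norm_num at this
    · exact absurd hs' TwentyOne.card_sylow_ne_twentyOne
    · exfalso
      rw [hs'] at hprod'
      have h3 : 3 ∣ d := by rcases hf4 with rfl | rfl | rfl <;> omega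
      obtain ⟨k, hk5, hk3, hklt, hkd, -⟩ := fix_dvd (q := 3) hn5 (by norm_num) R (by omega) hCd hNd h3
        (fun h3 => absurd (h3.trans hfp) (by norm_num)) (by norm_num)
      rw [h] at hkd
      rw [hs'] at hk3 hklt
      have key : ∀ k ∈ List.range 56, k % 5 = 1 → k % 3 = 56 % 3 → 3360 % (k * (5 * 3)) ≠ 0 := by
        decide +kernel
      exact key k (List.mem_range.2 hklt) hk5 hk3 (Nat.mod_eq_zero_of_dvd hkd)
    · rw [hs'] at hprod'
      rcases hf4 with rfl | rfl | rfl <;> omega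
  obtain ⟨rfl, rfl⟩ := hd
  have hR : Nat.card ↥(R : Subgroup G) = 5 := by
    simpa using card_sylow_eq (a := 1) (m := 672) (by rw [hn5]; norm_num) (by norm_num) R
  obtain ⟨A, hA, hAd, hAd', hsq, hu⟩ := degree_pair_five hG h R hR hCd hNd
  obtain ⟨g, t, -, hg, htC, ht, hgt, -⟩ := exists_commuting (q := 2) hn7 (by norm_num) P hC dvd_rfl
  obtain ⟨u, hu2, h32⟩ := exists_two_central (G := G) (k := 5) (h ▸ by norm_num) (by norm_num)
  obtain ⟨c, s, rfl, hcd, -, hs₁, heq⟩ := hu u hu2
  obtain ⟨c', s', rfl, hcd', hev, hs₂, heq'⟩ := hu t ht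
  have h14 : 2 * 7 ∣ Nat.card ↥(centralizer ({t} : Set G)) := by
    refine ((Nat.coprime_primes Nat.prime_two (by norm_num)).2 (by norm_num)).mul_dvd_of_dvd_of_dvd ?_ ?_
    · rw [← ht]
      exact Subgroup.orderOf_dvd_natCard _ (mem_centralizer_singleton_iff.2 rfl)
    · rw [← hg]
      exact Subgroup.orderOf_dvd_natCard _ (mem_centralizer_singleton_iff.2 hgt.eq)
  have key : ∀ A ∈ List.range 42, 1 < A → 3360 % A = 0 → 3360 % (A + 1) = 0 →
      ∀ c ∈ (List.range 106).map (32 * ·), 3360 % c = 0 → 0 < c → ∀ s ∈ List.range 83, s ≤ 2 * A →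
        s ^ 2 * 3360 = 5 * c ^ 2 * (A * (A + 1)) → A = 6 := by decide +kernel
  have key' : ∀ c ∈ (List.range 241).map (14 * ·), 3360 % c = 0 → 0 < c → ∀ s ∈ List.range 13,
        s % 2 = 0 → s ^ 2 * 3360 ≠ 5 * c ^ 2 * (6 * (6 + 1)) := by decide +kernel
  have hA42 : A < 42 := by nlinarith
  obtain ⟨j, hj⟩ := h32
  obtain ⟨j', hj'⟩ := h14
  have hcle := Nat.le_of_dvd (by norm_num) hcd
  have hcle' := Nat.le_of_dvd (by norm_num) hcd'
  obtain rfl := key A (List.mem_range.2 hA42) hA (Nat.mod_eq_zero_of_dvd hAd)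
    (Nat.mod_eq_zero_of_dvd hAd') _ (List.mem_map.2 ⟨j, List.mem_range.2 (by omega), hj.symm⟩)
    (Nat.mod_eq_zero_of_dvd hcd) Nat.card_pos s (List.mem_range.2 (by omega)) hs₁ heq
  exact key' _ (List.mem_map.2 ⟨j', List.mem_range.2 (by omega), hj'.symm⟩)
    (Nat.mod_eq_zero_of_dvd hcd') Nat.card_pos s' (List.mem_range.2 (by omega)) hev heq'

end CfsgLib.SmallOrders.Range
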