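import Cfsg.Agent.Lib.SmallOrders.Range.Transfer
import Cfsg.Agent.Lib.KGroups.SmallOrdersTools
import Cfsg.Agent.Lib.SmallGroups.SylowReduction
import Cfsg.Agent.Lib.SmallGroups.SylowTwentyOne

/-!
Small orders of simple groups: local subgroups from Sylow intersections.
-/

set_option autoImplicit false

namespace CfsgLib.SmallOrders.Range

open Subgroup MulAction CfsgLib.SmallGroups

variable {G : Type*} [Group G] [Finite G]

/-- A Sylow number not `1` modulo `p ^ 2` gives a subgroup `M` with several Sylow subgroups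
normalising their common subgroup `D` of index `p`. -/
theorem exists_local [IsSimpleGroup G] (hG : ¬ IsMulCommutative G) {p a m : ℕ}
    [hp : Fact p.Prime] (hn : Nat.card G = p ^ a * m) (hm : ¬ p ∣ m) (ha : 2 ≤ a)
    (hmod : Nat.card (Sylow p G) % p ^ 2 ≠ 1) :
    ∃ (P : Sylow p G) (D M : Subgroup G) (k s : ℕ), (P : Subgroup G) ≤ M ∧ M ≠ ⊤ ∧
      D ≤ (P : Subgroup G) ∧ D ≠ ⊥ ∧ Nat.card D * p = p ^ a ∧ normalizer (D : Set G) = M ∧
      Nat.card M = p ^ a * k ∧ k * M.index = m ∧ 2 * Nat.card G ∣ M.index.factorial ∧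
      s * Nat.card ↥(normalizer ((P : Subgroup G) : Set G) ⊓ M : Subgroup G) = Nat.card M ∧
      s ∣ k ∧ s % p = 1 ∧ p < s ∧ k / s ∣ m / Nat.card (Sylow p G) ∧ Nat.card (Sylow p M) = s := by
  have hne : ¬ Nat.card (Sylow p G) ≡ 1 [MOD p ^ 2] := fun hh => hmod
    (Eq.trans hh (Nat.one_mod_eq_one.2 fun he =>
      hp.out.ne_one ((pow_eq_one_iff_left two_ne_zero).1 he)))
  obtain ⟨P, R, hPR, hidx'⟩ := exists_sylow_inter (G := G) p 2 hne
  have hidx : ((R : Subgroup G).subgroupOf (P : Subgroup G)).index ≤ p := hidx'.trans_eq (pow_one p)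
  have hcard : ∀ S : Sylow p G, Nat.card ↥(S : Subgroup G) = p ^ a := fun S => card_sylow_eq hn hm S
  have hidxp : ((R : Subgroup G).subgroupOf (P : Subgroup G)).index = p := by
    obtain ⟨i, hi⟩ := P.isPGroup'.index ((R : Subgroup G).subgroupOf (P : Subgroup G))
    rcases Nat.eq_zero_or_pos i with rfl | hpos
    · rw [pow_zero, index_eq_one, subgroupOf_eq_top] at hi
      exact absurd (Sylow.ext (eq_of_le_of_card_ge hi (by rw [hcard P, hcard R]))) hPR
    · exact le_antisymm hidx (hi ▸ Nat.le_self_pow hpos.ne' p)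
  let D : Subgroup G := (P : Subgroup G) ⊓ (R : Subgroup G)
  have hDeq : D.subgroupOf (P : Subgroup G) = (R : Subgroup G).subgroupOf (P : Subgroup G) :=
    inf_subgroupOf_left _ _
  have hDcard : Nat.card D * p = p ^ a := by
    have h1 := (D.subgroupOf (P : Subgroup G)).card_mul_index
    rwa [hDeq, hidxp, ← hDeq, Nat.card_congr (subgroupOfEquivOfLe inf_le_left).toEquiv, hcard P]
      at h1
  have hnorm : ∀ S : Sylow p G, D ≤ (S : Subgroup G) → (S : Subgroup G) ≤ normalizer (D : Set G) := by
    intro S hS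
    have h1 := (D.subgroupOf (S : Subgroup G)).card_mul_index
    rw [Nat.card_congr (subgroupOfEquivOfLe hS).toEquiv, hcard S, ← hDcard] at h1
    have hi : (D.subgroupOf (S : Subgroup G)).index = p := Nat.eq_of_mul_eq_mul_left Nat.card_pos h1
    refine (normal_subgroupOf_iff_le_normalizer hS).1
      (normal_of_index_eq_minFac_card ?_)
    rw [hi, hcard S, hp.out.pow_minFac (by omega)]
  have hP := hnorm P inf_le_left
  have hR := hnorm R inf_le_right
  have hDne : D ≠ ⊥ := fun he => by
    rw [he, card_bot, one_mul] at hDcard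
    have := Nat.pow_le_pow_right hp.out.pos ha
    have h2 : p < p ^ 2 := lt_self_pow₀ hp.out.one_lt one_lt_two
    omega
  have hDtop : D ≠ ⊤ := fun he => by
    have h1 : (P : Subgroup G) = ⊤ := top_le_iff.1 (he ▸ inf_le_left)
    have h2 : (R : Subgroup G) = ⊤ := top_le_iff.1 (he ▸ inf_le_right)
    exact hPR (Sylow.ext (h1.trans h2.symm))
  let M : Subgroup G := normalizer (D : Set G)
  have hMtop : M ≠ ⊤ := normalizer_ne_top hDne hDtop
  obtain ⟨k, hk⟩ : p ^ a ∣ Nat.card M := hcard P ▸ card_dvd_of_le hP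
  have hprod : k * M.index = m := by
    have h1 := M.card_mul_index
    rw [hk, hn, mul_assoc] at h1
    exact Nat.eq_of_mul_eq_mul_left (pow_pos hp.out.pos a) h1
  have hkm : k ∣ m := Dvd.intro _ hprod
  have hSyl := card_sylow_mem (G := M) (p := p) hk (fun hd => hm (hd.trans hkm))
  rw [Finset.mem_filter, Nat.mem_divisors] at hSyl
  have : Nontrivial (Sylow p M) := ⟨P.subtype hP, R.subtype hR,
    fun he => hPR (Sylow.subtype_injective he)⟩
  have hgt : 1 < Nat.card (Sylow p M) := Finite.one_lt_card
  let s := Nat.card (Sylow p M)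
  have hs : s * Nat.card ↥(normalizer ((P : Subgroup G) : Set G) ⊓ M : Subgroup G) = Nat.card M := by
    show Nat.card (Sylow p M) * _ = _
    rw [CfsgLib.SmallGroups.TwentyOne.card_sylow_subgroup P hP, ← inf_relIndex_right, mul_comm,
      ← Nat.card_congr (subgroupOfEquivOfLe (inf_le_right : normalizer ((P : Subgroup G) : Set G) ⊓ M ≤ M)).toEquiv,
      relIndex, card_mul_index]
  refine ⟨P, D, M, k, s, hP, hMtop, inf_le_left, hDne, hDcard, rfl, hk, hprod,
    two_mul_card_dvd_factorial_index hG hMtop, hs, hSyl.1.1, hSyl.2, ?_, ?_, rfl⟩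
  · obtain ⟨j, hj⟩ : ∃ j, s = p * j + 1 := ⟨s / p, by rw [← hSyl.2, Nat.div_add_mod]⟩
    rcases Nat.eq_zero_or_pos j with rfl | hpos
    · simp [s] at hj; omega
    · have : p ≤ p * j := Nat.le_mul_of_pos_right p hpos
      omega
  · have hd := card_sylow_mem (p := p) hn hm
    rw [Finset.mem_filter, Nat.mem_divisors] at hd
    obtain ⟨m', hm'⟩ := hd.1.1
    obtain ⟨k', hk'⟩ : s ∣ k := hSyl.1.1
    have hN := card_sylow_mul_card_normalizer P
    have hdvd : Nat.card ↥(normalizer ((P : Subgroup G) : Set G) ⊓ M : Subgroup G) ∣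
        Nat.card ↥(normalizer ((P : Subgroup G) : Set G)) := card_dvd_of_le inf_le_left
    have e1 : Nat.card ↥(normalizer ((P : Subgroup G) : Set G) ⊓ M : Subgroup G) = p ^ a * k' := by
      refine Nat.eq_of_mul_eq_mul_left (show 0 < s by omega) ?_
      rw [hs, hk, hk']; ring
    have e2 : Nat.card ↥(normalizer ((P : Subgroup G) : Set G)) = p ^ a * m' := by
      refine Nat.eq_of_mul_eq_mul_left (Nat.card_pos (α := Sylow p G)) ?_
      rw [hN, hn, hm']; ring
    rw [e1, e2] at hdvd
    rw [hm', Nat.mul_div_cancel_left _ Nat.card_pos, hk', Nat.mul_div_cancel_left _ (by omega)]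
    exact Nat.dvd_of_mul_dvd_mul_left (pow_pos hp.out.pos a) hdvd

/-- Burnside inside a subgroup: a self-normalising abelian Sylow subgroup has a normal complement. -/
theorem exists_normal_complement {p : ℕ} [hp : Fact p.Prime] (P : Sylow p G) {M : Subgroup G}
    (hPM : (P : Subgroup G) ≤ M) (hab : IsMulCommutative ↥(P : Subgroup G))
    (hN : normalizer ((P : Subgroup G) : Set G) ⊓ M ≤ (P : Subgroup G)) :
    ∃ W : Subgroup G, W ≤ M ∧ M ≤ normalizer (W : Set G) ∧
      Nat.card W * Nat.card ↥(P : Subgroup G) = Nat.card M := by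
  let P' : Sylow p M := P.subtype hPM
  have hle : normalizer ((P' : Subgroup M) : Set M) ≤ centralizer ((P' : Subgroup M) : Set M) := by
    intro g hg
    have h2 := le_normalizer_map M.subtype ⟨_, hg, rfl⟩
    rw [Sylow.coe_subtype, map_subgroupOf_eq_of_le hPM] at h2
    have hgP : (g : G) ∈ (P : Subgroup G) := hN ⟨h2, g.2⟩
    refine mem_centralizer_iff.2 fun y hy => Subtype.ext ?_
    have := congrArg Subtype.val (hab.is_comm.comm
      (⟨(y : G), hy⟩ : ↥(P : Subgroup G)) ⟨(g : G), hgP⟩)
    exact this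
  let K := (MonoidHom.transferSylow P' hle).ker
  have hc : IsComplement' K (P' : Subgroup M) := MonoidHom.ker_transferSylow_isComplement' P' hle
  refine ⟨K.map M.subtype, map_subtype_le K, ?_, ?_⟩
  · intro g hg
    have := le_normalizer_map M.subtype (H := K)
      ⟨⟨g, hg⟩, by rw [normalizer_eq_top_iff.2 (inferInstance : K.Normal)]; trivial, rfl⟩
    exact this
  · rw [card_subtype, ← hc.card_mul_card, Sylow.coe_subtype,
      Nat.card_congr (subgroupOfEquivOfLe hPM).toEquiv]

/-- A normal `q`-subgroup of `M` which is not Sylow in `G` has normalizer larger than `M`. -/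
theorem lt_normalizer_of_pGroup {q b : ℕ} [hq : Fact q.Prime] {M W : Subgroup G}
    (hMW : M ≤ normalizer (W : Set G)) (hW : Nat.card W = q ^ b)
    (hG : q ^ (b + 1) ∣ Nat.card G) (hM : ¬ q ^ (b + 1) ∣ Nat.card M) :
    M < normalizer (W : Set G) := by
  refine lt_of_le_of_ne hMW fun he => ?_
  obtain ⟨T, hT⟩ := (IsPGroup.of_card (p := q) (n := b) (G := W) hW).exists_le_sylow
  have hTcard : q ^ (b + 1) ∣ Nat.card ↥(T : Subgroup G) := T.pow_dvd_card_of_pow_dvd_card hG
  have hne : W.subgroupOf (T : Subgroup G) ≠ ⊤ := fun h => by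
    rw [subgroupOf_eq_top] at h
    have := hTcard.trans (card_dvd_of_le h)
    rw [hW] at this
    have := Nat.pow_dvd_pow_iff_le_right hq.out.one_lt |>.1 this
    omega
  have : Group.IsNilpotent ↥(T : Subgroup G) := T.isPGroup'.isNilpotent
  have hlt := Group.normalizerCondition_of_isNilpotent _ (lt_top_iff_ne_top.2 hne)
  let N' := normalizer ((W.subgroupOf (T : Subgroup G) : Subgroup ↥(T : Subgroup G)) : Set ↥(T : Subgroup G))
  have hle : N'.map (T : Subgroup G).subtype ≤ M := by
    refine le_trans (le_normalizer_map _) ?_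
    rw [map_subgroupOf_eq_of_le hT, he]
  have hWlt : b < b + 1 := Nat.lt_succ_self b
  obtain ⟨c, hc⟩ := (T.isPGroup'.to_subgroup N').exists_card_eq
  have hbc : b < c := by
    have h1 : Nat.card (W.subgroupOf (T : Subgroup G)) < Nat.card N' :=
      lt_of_le_of_ne (card_le_of_le hlt.le) fun h => hlt.ne (eq_of_le_of_card_ge hlt.le h.ge)
    rw [Nat.card_congr (subgroupOfEquivOfLe hT).toEquiv, hW, hc] at h1
    exact (Nat.pow_lt_pow_iff_right hq.out.one_lt).1 h1
  refine hM (dvd_trans (pow_dvd_pow q hbc) ?_)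
  rw [← hc, ← card_subtype (T : Subgroup G) N']
  exact card_dvd_of_le hle

/-- The index of a strictly larger proper subgroup. -/
theorem index_lt [IsSimpleGroup G] (hG : ¬ IsMulCommutative G) {M L : Subgroup G} (hlt : M < L)
    (hL : L ≠ ⊤) : L.index ∣ M.index ∧ L.index < M.index ∧ 2 * Nat.card G ∣ L.index.factorial :=
  ⟨index_dvd_of_le hlt.le, index_strictAnti hlt, two_mul_card_dvd_factorial_index hG hL⟩

/-- Sylow subgroups over the conjugates of a subgroup `D` under `N(P)`. -/
theorem orbit_bound {p : ℕ} [hp : Fact p.Prime] (P : Sylow p G) {D M : Subgroup G}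
    (hD : Nat.card D = p) (hDP : D ≤ (P : Subgroup G))
    (hP2 : Nat.card ↥(P : Subgroup G) = p ^ 2) (hPM : (P : Subgroup G) ≤ M)
    (hMD : normalizer (D : Set G) = M) :
    M.relIndex (normalizer ((P : Subgroup G) : Set G)) *
        (Nat.card (Sylow p M) - 1) ≤ Nat.card (Sylow p G) - 1 := by
  classical
  set N := normalizer ((P : Subgroup G) : Set G) with hN
  let A : N ⧸ M.subgroupOf N → Set (Sylow p G) := fun q =>
    {R | R ≠ P ∧ D.map (MulAut.conj (q.out : G)).toMonoidHom ≤ (R : Subgroup G)}
  have hconjP : ∀ n : N, ((P : Subgroup G).map (MulAut.conj (n : G)).toMonoidHom) = P := by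
    intro n
    have h := congrArg (fun Q : Sylow p G => (Q : Subgroup G)) (Sylow.smul_eq_iff_mem_normalizer.mpr n.2)
    exact h
  have hdisj : ∀ q q', q ≠ q' → ∀ R ∈ A q, R ∉ A q' := by
    intro q q' hqq R hR hR'
    let D₁ := D.map (MulAut.conj (q.out : G)).toMonoidHom
    let D₂ := D.map (MulAut.conj (q'.out : G)).toMonoidHom
    have h1 : D₁ ≤ (P : Subgroup G) := (map_mono hDP).trans_eq (hconjP _)
    have h2 : D₂ ≤ (P : Subgroup G) := (map_mono hDP).trans_eq (hconjP _)
    have hne : D₁ ≠ D₂ := fun he => hqq (by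
      rw [← QuotientGroup.out_eq' q, ← QuotientGroup.out_eq' q', QuotientGroup.eq, mem_subgroupOf]
      refine hMD.le (mem_normalizer_iff.2 fun y => ?_)
      have he' := SetLike.ext_iff.1 he ((q'.out : G) * y * (q'.out : G)⁻¹)
      simp only [D₁, D₂, mem_map_equiv, MulAut.conj_symm_apply] at he'
      simp only [coe_mul, coe_inv]
      constructor
      · intro hy
        have := he'.2 (by convert hy using 1; group)
        convert this using 1; group
      · intro hy
        have := he'.1 (by convert hy using 1; group)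
        convert this using 1; group)
    have hc₁ : Nat.card D₁ = p := by
      rw [card_map_of_injective (MulAut.conj (q.out : G)).injective, hD]
    have hc₂ : Nat.card D₂ = p := by
      rw [card_map_of_injective (MulAut.conj (q'.out : G)).injective, hD]
    obtain ⟨c, hc⟩ := (P.isPGroup'.to_le (sup_le h1 h2)).exists_card_eq
    have hd1 : D₁ < D₁ ⊔ D₂ := lt_of_le_of_ne le_sup_left fun he =>
      hne (eq_of_le_of_card_ge (he ▸ le_sup_right) (by rw [hc₁, hc₂])).symm
    have hlt : p < p ^ c := by
      rw [← hc, ← hc₁]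
      exact lt_of_le_of_ne (card_le_of_le hd1.le) fun h => hd1.ne (eq_of_le_of_card_ge hd1.le h.ge)
    have hc2 : 2 ≤ c := by
      rcases c with _ | _ | c
      · simp at hlt; have := hp.out.pos; omega
      · simp at hlt
      · omega
    have hsup : D₁ ⊔ D₂ = (P : Subgroup G) := eq_of_le_of_card_ge (sup_le h1 h2) (by
      rw [hP2, hc]; exact Nat.pow_le_pow_right hp.out.pos hc2)
    have hle : (P : Subgroup G) ≤ (R : Subgroup G) := hsup ▸ sup_le hR.2 hR'.2
    exact hR.1 (Sylow.ext (eq_of_le_of_card_ge hle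
      (by rw [R.card_eq_multiplicity, P.card_eq_multiplicity])).symm)
  have hA : ∀ q, Nat.card (Sylow p M) - 1 ≤ Nat.card (A q) := by
    intro q
    let g : G := (q.out : G)
    have hgP : g • P = P := Sylow.smul_eq_iff_mem_normalizer.mpr q.out.2
    let f : Sylow p M → Sylow p G := fun S =>
      g • (Classical.choose (S.isPGroup'.map M.subtype).exists_le_sylow)
    have hfspec : ∀ S : Sylow p M, (S : Subgroup M).map M.subtype ≤
        ((Classical.choose (S.isPGroup'.map M.subtype).exists_le_sylow : Sylow p G) : Subgroup G) :=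
      fun S => Classical.choose_spec (S.isPGroup'.map M.subtype).exists_le_sylow
    have hfeq : ∀ S : Sylow p M, (S : Subgroup M).map M.subtype =
        ((Classical.choose (S.isPGroup'.map M.subtype).exists_le_sylow : Sylow p G) : Subgroup G) := by
      intro S
      refine eq_of_le_of_card_ge (hfspec S) ?_
      rw [card_subtype, S.card_eq_multiplicity, Sylow.card_eq_multiplicity]
      refine Nat.pow_le_pow_right hp.out.pos ?_
      have h2 : (Nat.card G).factorization p = 2 := by
        have := P.card_eq_multiplicity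
        rw [hP2] at this
        exact (Nat.pow_right_injective hp.out.two_le this).symm
      rw [h2]
      exact (hp.out.pow_dvd_iff_le_factorization Nat.card_pos.ne').1 (hP2 ▸ card_dvd_of_le hPM)
    have hinj : Function.Injective f := fun S S' h => by
      have h' := MulAction.injective g h
      refine Sylow.ext (map_injective M.subtype_injective ?_)
      rw [hfeq S, hfeq S', h']
    have hDall : ∀ S : Sylow p M, D ≤ (S : Subgroup M).map M.subtype := by
      intro S
      have hDnorm : (D.subgroupOf M).Normal :=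
        (normal_subgroupOf_iff_le_normalizer (hDP.trans hPM)).2 hMD.ge
      have hDp : IsPGroup p (D.subgroupOf M) := IsPGroup.of_card (n := 1) (by
        rw [Nat.card_congr (subgroupOfEquivOfLe (hDP.trans hPM)).toEquiv, hD, pow_one])
      exact (map_subgroupOf_eq_of_le (hDP.trans hPM)).ge.trans
        (map_mono (hDp.le_sylow_of_normal S))
    have hfP : f (P.subtype hPM) = P := by
      show g • _ = P
      conv_rhs => rw [← hgP]
      congr 1
      refine Sylow.ext ?_
      rw [← hfeq, Sylow.coe_subtype, map_subgroupOf_eq_of_le hPM]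
    let S₀ := P.subtype hPM
    let e : {S : Sylow p M // S ≠ S₀} → A q := fun S => ⟨f S.1,
      fun h => S.2 (hinj (h.trans hfP.symm)),
      by
        show D.map (MulAut.conj g).toMonoidHom ≤ _
        refine le_of_le_of_eq (map_mono ((hDall S.1).trans (hfspec S.1))) ?_
        rfl⟩
    have h1 : Nat.card {S : Sylow p M // S ≠ S₀} ≤ Nat.card (A q) :=
      Nat.card_le_card_of_injective e fun S S' h =>
        Subtype.ext (hinj (congrArg (fun r : A q => (r : Sylow p G)) h))
    refine le_trans (le_of_eq ?_) h1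
    have : Fintype (Sylow p M) := Fintype.ofFinite _
    rw [Nat.card_eq_fintype_card, Nat.card_eq_fintype_card, Fintype.card_subtype_compl,
      Fintype.card_subtype_eq]
  have : Fintype (N ⧸ M.subgroupOf N) := Fintype.ofFinite _
  have hsum : ∑ q, Nat.card (A q) ≤ Nat.card {R : Sylow p G // R ≠ P} := by
    rw [← Nat.card_sigma]
    refine Nat.card_le_card_of_injective (fun x => ⟨x.2.1, x.2.2.1⟩) ?_
    rintro ⟨q, R, hR⟩ ⟨q', R', hR'⟩ h
    obtain rfl : R = R' := congrArg Subtype.val h
    obtain rfl : q = q' := by_contra fun hne => hdisj q q' hne R hR hR'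
    rfl
  have hlhs : M.relIndex N * (Nat.card (Sylow p M) - 1) ≤ ∑ q, Nat.card (A q) := by
    rw [relIndex, index_eq_card, Nat.card_eq_fintype_card, ← smul_eq_mul, ← Finset.card_univ]
    exact Finset.card_nsmul_le_sum _ _ _ fun q _ => hA q
  refine (hlhs.trans hsum).trans (le_of_eq ?_)
  have : Fintype (Sylow p G) := Fintype.ofFinite _
  rw [Nat.card_eq_fintype_card, Nat.card_eq_fintype_card, Fintype.card_subtype_compl,
    Fintype.card_subtype_eq]

end CfsgLib.SmallOrders.Range
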