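import Cfsg.Agent.Lib.SmallGroups.Basic
import Cfsg.Agent.Lib.SmallGroups.Action
import Cfsg.Agent.Lib.TwoGroups.Taussky
import Cfsg.Agent.Lib.ClassicalLinear.Card
import Cfsg.Agent.S0992
import Cfsg.Agent.S0483
import Cfsg.Agent.S0201
import Cfsg.Agent.S0999

/-!
Small orders of simple groups: transfer, and groups with small Sylow 2-subgroups.
-/

set_option autoImplicit false

namespace CfsgLib.SmallOrders.Range

open Subgroup MulAction CfsgLib.SmallGroups

variable {G : Type*} [Group G] [Finite G]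

open scoped IsMulCommutative in
/-- The transfer to an abelian subgroup at an element with no fusion. -/
theorem exists_transfer (H : Subgroup G) (hab : IsMulCommutative ↥H) (x : G) :
    ∃ f : G →* ↥H, (∀ (k : ℕ) (g₀ : G), g₀⁻¹ * x ^ k * g₀ ∈ H → g₀⁻¹ * x ^ k * g₀ = x ^ k) →
      ((f x : ↥H) : G) = x ^ H.index := by
  have := hab
  refine ⟨MonoidHom.transfer (MonoidHom.id ↥H), fun key => ?_⟩
  rw [MonoidHom.transfer_eq_pow _ x key]
  rfl

/-- In a simple group no non-trivial element of an abelian Sylow subgroup `P` is centralised by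
`N(P)`. -/
theorem eq_one_of_normalizer_centralizes [IsSimpleGroup G] (hG : ¬ IsMulCommutative G) {p : ℕ}
    [hp : Fact p.Prime] (P : Sylow p G) (hab : IsMulCommutative ↥(P : Subgroup G)) {x : G}
    (hx : x ∈ (P : Subgroup G))
    (hN : normalizer ((P : Subgroup G) : Set G) ≤ centralizer ({x} : Set G)) : x = 1 := by
  by_contra hx1
  obtain ⟨f, hf⟩ : ∃ f : G →* ↥(P : Subgroup G),
      (∀ (k : ℕ) (g₀ : G), g₀⁻¹ * x ^ k * g₀ ∈ (P : Subgroup G) →
        g₀⁻¹ * x ^ k * g₀ = x ^ k) →
      ((f x : ↥(P : Subgroup G)) : G) = x ^ (P : Subgroup G).index :=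
    exists_transfer (P : Subgroup G) hab x
  have key : ∀ (k : ℕ) (g₀ : G), g₀⁻¹ * x ^ k * g₀ ∈ (P : Subgroup G) →
      g₀⁻¹ * x ^ k * g₀ = x ^ k := by
    intro k g₀ h
    have := hab
    obtain ⟨n, hn, he⟩ := P.conj_eq_normalizer_conj_of_mem (x ^ k) g₀ (pow_mem hx k) h
    rw [he]
    have hc : Commute n x := mem_centralizer_singleton_iff.1 (hN hn)
    exact Commute.inv_mul_cancel (hc.pow_right k)
  have hfx := hf key
  rcases f.normal_ker.eq_bot_or_eq_top with hb | ht
  · refine hG (IsMulCommutative.of_comm fun a b => (f.ker_eq_bot_iff.1 hb) ?_)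
    rw [map_mul, map_mul]
    exact hab.is_comm.comm _ _
  · have h1 : x ^ (P : Subgroup G).index = 1 := by
      rw [← hfx, MonoidHom.mem_ker.1 (ht ▸ mem_top x)]
      rfl
    obtain ⟨a, ha⟩ := P.isPGroup'.exists_card_eq
    have h2 : orderOf x ∣ p ^ a := ha ▸ Subgroup.orderOf_dvd_natCard _ hx
    obtain ⟨j, -, hj⟩ := (Nat.dvd_prime_pow hp.out).1 h2
    have h3 : orderOf x ∣ (P : Subgroup G).index := orderOf_dvd_of_pow_eq_one h1
    rcases Nat.eq_zero_or_pos j with rfl | hj0
    · exact hx1 (orderOf_eq_one_iff.1 (by simpa using hj))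
    · exact P.not_dvd_index ((dvd_pow_self p hj0.ne').trans (hj ▸ h3))

/-- An abelian Sylow 2-subgroup of order 8 is normalised by an element of order 7. -/
theorem seven_dvd_normalizer [IsSimpleGroup G] (hG : ¬ IsMulCommutative G)
    (T : Sylow 2 G) (hT : Nat.card ↥(T : Subgroup G) = 8)
    (hab : IsMulCommutative ↥(T : Subgroup G)) :
    7 ∣ Nat.card ↥(normalizer ((T : Subgroup G) : Set G)) := by
  by_contra h7
  have := Fact.mk Nat.prime_two
  have := Fact.mk Nat.prime_three
  set N := normalizer ((T : Subgroup G) : Set G) with hN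
  let φ := (T : Subgroup G).normalizerMonoidHom
  let ψ : MulAut ↥(T : Subgroup G) →* Equiv.Perm ↥(T : Subgroup G) :=
    { toFun := fun σ => σ.toEquiv
      map_one' := rfl
      map_mul' := fun _ _ => rfl }
  let χ := ψ.comp φ
  have hTker : ∀ t : N, (t : G) ∈ (T : Subgroup G) → χ t = 1 := by
    intro t ht
    refine Equiv.ext fun y => Subtype.ext ?_
    show (t : G) * y * (t : G)⁻¹ = y
    have := congrArg Subtype.val (hab.is_comm.comm (⟨t, ht⟩ : ↥(T : Subgroup G)) y)
    simp only [coe_mul] at this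
    rw [this, mul_inv_cancel_right]
  let T' : Sylow 2 N := T.subtype le_normalizer
  have hT'le : (T' : Subgroup N) ≤ χ.ker := fun t ht => MonoidHom.mem_ker.2 (hTker t ht)
  have hdvd : Nat.card χ.range ∣ Nat.factorial 8 := by
    have := card_subgroup_dvd_card χ.range
    rwa [Nat.card_perm, hT] at this
  have hdG : Nat.card χ.range ∣ Nat.card N := card_range_dvd χ
  have hodd : ¬ 2 ∣ Nat.card χ.range := by
    intro h2
    have h' : (χ.ker).index = Nat.card χ.range := index_ker χ
    exact T'.not_dvd_index ((h' ▸ h2).trans (index_dvd_of_le hT'le))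
  have hperm : IsPGroup 3 χ.range ∨ 5 ∣ Nat.card χ.range := by
    by_cases h5 : 5 ∣ Nat.card χ.range
    · exact Or.inr h5
    refine Or.inl (IsPGroup.of_card_dvd_pow (n := 2) ?_)
    have c2 : Nat.Coprime (Nat.card χ.range) 128 := by
      rw [show (128 : ℕ) = 2 ^ 7 by norm_num]
      exact (Nat.Prime.coprime_iff_not_dvd Nat.prime_two).2 hodd |>.symm.pow_right 7
    have c5 : Nat.Coprime (Nat.card χ.range) 5 :=
      ((Nat.Prime.coprime_iff_not_dvd (by norm_num)).2 h5).symm
    have c7 : Nat.Coprime (Nat.card χ.range) 7 :=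
      ((Nat.Prime.coprime_iff_not_dvd (by norm_num)).2 fun h => h7 (h.trans hdG)).symm
    have h' : Nat.card χ.range ∣ 3 ^ 2 * (128 * 5 * 7) := hdvd.trans (dvd_of_eq (by decide))
    exact (Nat.Coprime.mul_right (Nat.Coprime.mul_right c2 c5) c7).dvd_of_dvd_mul_right h'
  have hno5 : ¬ 5 ∣ Nat.card χ.range := by
    intro h5
    have := Fact.mk Nat.prime_five
    obtain ⟨⟨σ, m, rfl⟩, hσ⟩ := exists_prime_orderOf_dvd_card' (G := χ.range) 5 h5
    have hσ5 : orderOf (χ m) = 5 := by
      rw [← orderOf_injective χ.range.subtype χ.range.subtype_injective] at hσ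
      exact hσ
    -- an element of order 5 fixing a subgroup of order 8
    let F : Subgroup ↥(T : Subgroup G) := (φ m).toMonoidHom.eqLocus (MonoidHom.id _)
    have hM : IsPGroup 5 (zpowers (φ m ^ 1)) := by
      refine IsPGroup.of_card (n := 1) ?_
      rw [Nat.card_zpowers, pow_one, pow_one]
      have h1 : orderOf (χ m) ∣ orderOf (φ m) := orderOf_map_dvd ψ (φ m)
      have hinj : Function.Injective ψ := fun a b h => MulEquiv.ext fun y => congrArg (fun e : Equiv.Perm ↥(T : Subgroup G) => e y) h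
      rw [← orderOf_injective ψ hinj]
      exact hσ5
    have hmod := hM.card_modEq_card_fixedPoints ↥(T : Subgroup G)
    have hFc : Nat.card (fixedPoints (zpowers (φ m ^ 1)) ↥(T : Subgroup G)) = Nat.card F := by
      refine Nat.card_congr (Equiv.subtypeEquivRight fun x => ⟨fun hx => ?_, fun hx τ => ?_⟩)
      · have := hx ⟨φ m ^ 1, mem_zpowers _⟩
        rw [Subgroup.mk_smul, pow_one] at this
        exact this
      · have hle : zpowers (φ m ^ 1) ≤ stabilizer (MulAut ↥(T : Subgroup G)) x := by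
          rw [zpowers_le, pow_one]; exact hx
        exact hle τ.2
    rw [hT, hFc] at hmod
    have hF8 : Nat.card F = 8 := by
      have hd : Nat.card F ∣ 2 ^ 3 := (card_subgroup_dvd_card F).trans (dvd_of_eq (hT.trans (by norm_num)))
      obtain ⟨j, hj, hj'⟩ := (Nat.dvd_prime_pow Nat.prime_two).1 hd
      rw [hj'] at hmod ⊢
      unfold Nat.ModEq at hmod
      interval_cases j <;> simp_all
    have hFtop : F = ⊤ := eq_top_of_card_eq _ (hF8.trans hT.symm)
    have : χ m = 1 := Equiv.ext fun y => (hFtop ▸ mem_top y : y ∈ F)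
    rw [this, orderOf_one] at hσ5
    omega
  have h3 : IsPGroup 3 χ.range := hperm.resolve_right hno5
  have hmod := h3.card_modEq_card_fixedPoints ↥(T : Subgroup G)
  rw [hT] at hmod
  have h1mem : (1 : ↥(T : Subgroup G)) ∈ fixedPoints χ.range ↥(T : Subgroup G) := by
    rintro ⟨σ, m, rfl⟩
    exact map_one (φ m)
  have : Nontrivial (fixedPoints χ.range ↥(T : Subgroup G)) := by
    refine Finite.one_lt_card_iff_nontrivial.1 ?_
    have hpos : 0 < Nat.card (fixedPoints χ.range ↥(T : Subgroup G)) :=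
      Finite.card_pos_iff.2 ⟨⟨1, h1mem⟩⟩
    unfold Nat.ModEq at hmod
    omega
  obtain ⟨⟨x, hx⟩, hx1⟩ := exists_ne (⟨1, h1mem⟩ : fixedPoints χ.range ↥(T : Subgroup G))
  refine hx1 (Subtype.ext (Subtype.ext ?_))
  refine eq_one_of_normalizer_centralizes hG T hab x.2 fun g hg => ?_
  rw [mem_centralizer_singleton_iff]
  have := congrArg Subtype.val (hx ⟨χ ⟨g, hg⟩, ⟨g, hg⟩, rfl⟩)
  exact mul_inv_eq_iff_eq_mul.1 this

/-- An abelian Sylow 2-subgroup of order 8 needs the prime 7. -/
theorem not_abelian_eight [IsSimpleGroup G] (hG : ¬ IsMulCommutative G) (h7 : ¬ 7 ∣ Nat.card G)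
    (T : Sylow 2 G) (hT : Nat.card ↥(T : Subgroup G) = 8)
    (hab : IsMulCommutative ↥(T : Subgroup G)) : False :=
  h7 ((seven_dvd_normalizer hG T hT hab).trans (card_subgroup_dvd_card _))

/-- A dihedral Sylow 2-subgroup gives the order of a group `L₂(q)`, `q` odd, or of `A₇`. -/
theorem order_of_dihedral [IsSimpleGroup G] (hG : ¬ IsMulCommutative G) (T : Sylow 2 G) {k : ℕ}
    (hk : 2 ≤ k) (hT : Nonempty (↥(T : Subgroup G) ≃* DihedralGroup k)) :
    (∃ q, IsPrimePow q ∧ Odd q ∧ 3 < q ∧ 2 * Nat.card G = q * (q ^ 2 - 1)) ∨ Nat.card G = 2520 := by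
  have : Group.IsPerfect G := ⟨(inferInstance : (commutator G).Normal).eq_bot_or_eq_top.resolve_left
    fun h => hG (IsMulCommutative.of_comm fun a b => ((mem_center_iff.mp
      ((commutator_eq_bot_iff_center_eq_top G).mp h ▸ mem_top a)) b).symm)⟩
  have hev : 2 ∣ Nat.card G := by
    obtain ⟨e⟩ := hT
    refine dvd_trans ?_ (card_subgroup_dvd_card (T : Subgroup G))
    rw [Nat.card_congr e.toEquiv, DihedralGroup.nat_card]
    exact dvd_mul_right 2 k
  have hcore : Cfsg.oddCore G = ⊥ := by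
    refine CfsgLib.Cores.oddCore_eq_bot_iff.2 fun N hN hodd => ?_
    rcases hN.eq_bot_or_eq_top with h | h
    · exact h
    · subst h
      rw [card_top] at hodd
      exact absurd hev hodd.not_two_dvd_nat
  have e₀ : Nat.card (G ⧸ Cfsg.oddCore G) = Nat.card G := by
    rw [← index_eq_card, hcore, index_bot]
  rcases Cfsg.Agent.S0483.result T k hk hT with ⟨F, _, _, hodd, h3, ⟨e⟩⟩ | h
  · refine Or.inl ⟨Fintype.card F, FiniteField.isPrimePow_card F, hodd, h3, ?_⟩
    rw [← e₀, Nat.card_congr e.toEquiv]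
    exact ClassicalLinear.card_PSL_two_of_odd rfl hodd
  · right
    obtain ⟨e⟩ := h
    rw [← e₀, Nat.card_congr e.toEquiv, nat_card_alternatingGroup, Nat.card_fin]
    decide

/-- Even order divisible by neither 16 nor 56. -/
theorem order_of_two_small [IsSimpleGroup G] (hG : ¬ IsMulCommutative G) (h2 : 2 ∣ Nat.card G)
    (h16 : ¬ 16 ∣ Nat.card G) (h56 : ¬ 56 ∣ Nat.card G) :
    (∃ q, IsPrimePow q ∧ Odd q ∧ 3 < q ∧ 2 * Nat.card G = q * (q ^ 2 - 1)) ∨ Nat.card G = 2520 := by
  have := Fact.mk Nat.prime_two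
  obtain ⟨T⟩ := (inferInstance : Nonempty (Sylow 2 G))
  by_cases h8 : 8 ∣ Nat.card G
  · have hT : Nat.card ↥(T : Subgroup G) = 8 := by
      obtain ⟨a, ha⟩ := T.isPGroup'.exists_card_eq
      rw [ha]
      have hlo : 2 ^ 3 ∣ Nat.card ↥(T : Subgroup G) := T.pow_dvd_card_of_pow_dvd_card h8
      have hhi : ¬ 2 ^ 4 ∣ Nat.card ↥(T : Subgroup G) := fun h =>
        h16 (h.trans (card_subgroup_dvd_card _))
      rw [ha] at hlo hhi
      have := Nat.pow_dvd_pow_iff_le_right (x := 2) (k := 3) (l := a) (by norm_num)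
      have := Nat.pow_dvd_pow_iff_le_right (x := 2) (k := 4) (l := a) (by norm_num)
      have : a = 3 := by
        have h3 := this
        omega
      subst this
      rfl
    by_cases hab : IsMulCommutative ↥(T : Subgroup G)
    · exfalso
      exact not_abelian_eight hG (fun h7 => h56
        (Nat.Coprime.mul_dvd_of_dvd_of_dvd (m := 8) (n := 7) (by norm_num) h8 h7)) T hT hab
    · rcases CfsgLib.TwoGroups.dihedral_or_quaternion_of_card_eight hT hab with h | h
      · exact order_of_dihedral hG T (k := 4) (by norm_num) h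
      · exfalso
        obtain ⟨e⟩ := h
        have hZ := Cfsg.Agent.S0201.result T 0 (e.trans (MulEquiv.refl _)) (fun N hN hodd => by
          rcases hN.eq_bot_or_eq_top with h | h
          · exact h
          · subst h
            rw [card_top] at hodd
            exact absurd h2 hodd.not_two_dvd_nat)
        rcases (inferInstance : (center G).Normal).eq_bot_or_eq_top with h | h
        · rw [h, card_bot] at hZ; omega
        · exact hG (IsMulCommutative.of_comm fun a b =>
            ((mem_center_iff.mp (h ▸ mem_top a)) b).symm)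
  · obtain ⟨hK, -⟩ := Cfsg.Agent.S0992.klein hG (even_iff_two_dvd.2 h2) h8 T
    exact order_of_dihedral hG T (k := 2) le_rfl (IsKleinFour.nonempty_mulEquiv)

/-- A prime whose cube exceeds the order. -/
theorem order_of_big_prime [IsSimpleGroup G] (hG : ¬ IsMulCommutative G) {p : ℕ} (hp : p.Prime)
    (hdvd : p ∣ Nat.card G) (hbig : Nat.card G < p ^ 3) :
    2 * Nat.card G = p * (p ^ 2 - 1) ∨
      ∃ m, p = 2 ^ m + 1 ∧ Nat.card G = 2 ^ m * ((2 ^ m) ^ 2 - 1) := by
  have hc : ¬ IsCyclic G := fun h => hG inferInstance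
  rcases Cfsg.Agent.S0999.result hc p hp hdvd hbig with ⟨F, _, _, hF, h3, ⟨e⟩⟩ |
    ⟨m, F, _, _, hF, hpm, h3, ⟨e⟩⟩
  · left
    rw [Nat.card_congr e.toEquiv]
    exact ClassicalLinear.card_PSL_two_of_odd hF (hp.odd_of_ne_two (by omega))
  · refine Or.inr ⟨m, hpm, ?_⟩
    rw [Nat.card_congr e.toEquiv]
    refine ClassicalLinear.card_PSL_two_of_even hF ?_
    refine (Nat.even_pow).2 ⟨even_two, fun h => ?_⟩
    subst h
    simp at hpm
    omega

end CfsgLib.SmallOrders.Range
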